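import Groth.Agent.PP.QRCharts
import Mathlib.RingTheory.Flat.EquationalCriterion
import Mathlib.RingTheory.Flat.FaithfullyFlat.Algebra
import Mathlib.RingTheory.Finiteness.Descent
import Mathlib.RingTheory.LocalRing.RingHom.Basic
import Mathlib.LinearAlgebra.Matrix.Adjugate

/-!
Faithfully flat descent of local quasi-regularity.
-/

set_option autoImplicit false
set_option linter.style.haveILetI false

universe u

open scoped TensorProduct

namespace Groth.PP.QR

variable {A B : Type u} [CommRing A] [CommRing B] [Algebra A B]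

/-- Relations modulo an extended ideal come from relations modulo the ideal. -/
lemma exists_relations [Module.Flat A B] {κ : Type} [Fintype κ] (z : κ → A) (H : Ideal A) (b : κ → B)
    (h : ∑ i, b i * algebraMap A B (z i) ∈ H.map (algebraMap A B)) :
    ∃ (k : ℕ) (y : Fin k → B) (a : Fin k → κ → A),
      (∀ j, ∑ i, a j i * z i ∈ H) ∧ ∀ i, b i = ∑ j, y j * algebraMap A B (a j i) := by
  rw [Ideal.map, Ideal.span, Submodule.mem_span_set'] at h
  obtain ⟨l, c, gs, hsum⟩ := h
  choose hl hlH hlg using fun j => (gs j).2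
  have hrel : ∑ i : κ ⊕ Fin l, (Sum.elim z hl i) • (Sum.elim b (fun j => -c j) i) = 0 := by
    simp only [Fintype.sum_sum_type, Sum.elim_inl, Sum.elim_inr, Algebra.smul_def, mul_neg,
      Finset.sum_neg_distrib, hlg]
    rw [← sub_eq_add_neg, sub_eq_zero]
    simp only [mul_comm (algebraMap A B _)]
    refine hsum.symm.trans (Finset.sum_congr rfl fun j _ => ?_)
    rw [smul_eq_mul, mul_comm]
  obtain ⟨k, a, y, hx, hf⟩ := Module.Flat.isTrivialRelation_of_sum_smul_eq_zero (R := A) (M := B) hrel
  refine ⟨k, y, fun j i => a (Sum.inl i) j, fun j => ?_, fun i => ?_⟩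
  · have := hf j
    simp only [Fintype.sum_sum_type, Sum.elim_inl, Sum.elim_inr, add_eq_zero_iff_eq_neg] at this
    simp only [mul_comm (a _ j)]
    rw [this]
    exact Submodule.neg_mem _ (sum_mem fun i _ => Ideal.mul_mem_right _ _ (hlH i))
  · have := hx (Sum.inl i)
    simp only [Sum.elim_inl] at this
    rw [this]
    exact Finset.sum_congr rfl fun j _ => by rw [Algebra.smul_def, mul_comm]

/-- Charts descend along a faithfully flat map. -/
theorem exists_chart_descent [Module.FaithfullyFlat A B] {I : Ideal A} {m : ℕ} (x : Fin m → A)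
    (hx : Ideal.span (Set.range x) = I)
    (hsplit : Split (I.map (algebraMap A B)) fun j => algebraMap A B (x j))
    (P : Ideal A) [hP : P.IsPrime] (hIP : I ≤ P) :
    ∃ (g : A) (r : ℕ) (f : Fin r → A), g ∉ P ∧ (∀ i, f i ∈ I) ∧
      (∀ y ∈ I, g * y ∈ Ideal.span (Set.range f)) ∧
      ∀ a : Fin r → A, ∑ i, a i * f i ∈ I ^ 2 → ∀ i, g * a i ∈ I := by
  classical
  have hxI : ∀ j, x j ∈ I := fun j => by rw [← hx]; exact Ideal.subset_span ⟨j, rfl⟩
  let I' := I.map (algebraMap A B)
  have hI' : I' = Ideal.span (Set.range fun j => algebraMap A B (x j)) := by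
    show I.map _ = _
    rw [← hx, Ideal.map_span, ← Set.range_comp]; rfl
  -- a minimal subfamily generating modulo squares around `P`
  let Cov : Finset (Fin m) → Prop := fun s =>
    ∀ j, ∃ h : A, h ∉ P ∧ h * x j ∈ Ideal.span (x '' (s : Set (Fin m))) ⊔ I ^ 2
  have hex : ∃ N, ∃ s, Cov s ∧ s.card = N := ⟨_, Finset.univ, fun j => ⟨1, hP.one_notMem,
    by rw [one_mul]; exact Ideal.mem_sup_left (Ideal.subset_span ⟨j, Finset.mem_coe.2 (Finset.mem_univ j), rfl⟩)⟩, rfl⟩
  obtain ⟨s, hs, hscard⟩ := Nat.find_spec hex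
  have hmin : ∀ a : Fin m → A, ∑ i ∈ s, a i * x i ∈ I ^ 2 → ∀ i ∈ s, a i ∈ P := by
    intro a ha i hi
    by_contra hai
    refine Nat.find_min hex (m := (s.erase i).card) (by rw [← hscard]; exact Finset.card_erase_lt_of_mem hi)
      ⟨s.erase i, fun j => ?_, rfl⟩
    obtain ⟨h, hh, hhj⟩ := hs j
    refine ⟨a i * h, fun hmem => (hP.mem_or_mem hmem).elim hai hh, ?_⟩
    let W := Ideal.span (x '' ((s.erase i : Finset (Fin m)) : Set (Fin m))) ⊔ I ^ 2
    have hle : Ideal.span (x '' (s : Set (Fin m))) ⊔ I ^ 2 ≤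
        Submodule.comap ((LinearMap.id : A →ₗ[A] A).smulRight (a i)) W := by
      refine sup_le (Ideal.span_le.2 ?_) fun y hy => ?_
      · rintro _ ⟨l, hl, rfl⟩
        show x l * a i ∈ W
        rcases eq_or_ne l i with rfl | hli
        · rw [mul_comm, show a l * x l = ∑ k ∈ s, a k * x k - ∑ k ∈ s.erase l, a k * x k by
            rw [← Finset.add_sum_erase s (fun k => a k * x k) hi, add_sub_cancel_right]]
          exact sub_mem (Ideal.mem_sup_right ha) (Ideal.mem_sup_left
            (sum_mem fun k hk => Ideal.mul_mem_left _ _ (Ideal.subset_span ⟨k, Finset.mem_coe.2 hk, rfl⟩)))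
        · exact Ideal.mem_sup_left (Ideal.mul_mem_right _ _
            (Ideal.subset_span ⟨l, Finset.mem_coe.2 (Finset.mem_erase.2 ⟨hli, hl⟩), rfl⟩))
      · show y * a i ∈ W
        exact Ideal.mem_sup_right (Ideal.mul_mem_right _ _ hy)
    rw [mul_assoc, mul_comm]
    exact hle hhj
  -- Nakayama
  have hnak : ∀ j, ∃ h : A, h ∉ P ∧ h * x j ∈ Ideal.span (x '' (s : Set (Fin m))) := by
    let L := Localization.AtPrime P
    let H := Ideal.span (x '' (s : Set (Fin m)))
    have hJ : I.map (algebraMap A L) ≤ Ideal.jacobson ⊥ := by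
      rw [IsLocalRing.jacobson_eq_maximalIdeal ⊥ bot_ne_top, ← Localization.AtPrime.map_eq_maximalIdeal]
      exact Ideal.map_mono hIP
    have hle : I.map (algebraMap A L) ≤ H.map (algebraMap A L) ⊔ I.map (algebraMap A L) • I.map (algebraMap A L) := by
      rw [smul_eq_mul, ← sq, ← Ideal.map_pow, ← Ideal.map_sup, ← hx, Ideal.map_span, Ideal.span_le, hx]
      rintro _ ⟨_, ⟨j, rfl⟩, rfl⟩
      obtain ⟨h, hh, hhj⟩ := hs j
      have hu : IsUnit (algebraMap A L h) := IsLocalization.map_units L (⟨h, hh⟩ : P.primeCompl)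
      refine (Ideal.unit_mul_mem_iff_mem _ hu).1 ?_
      rw [← map_mul]
      exact Ideal.mem_map_of_mem _ hhj
    have hfg : (I.map (algebraMap A L)).FG := Ideal.FG.map (hx ▸ Submodule.fg_span (Set.finite_range x)) _
    have hmap := Submodule.le_of_le_smul_of_le_jacobson_bot hfg hJ hle
    intro j
    obtain ⟨h, hh, hhj⟩ := (IsLocalization.algebraMap_mem_map_algebraMap_iff P.primeCompl L H (x j)).1
      (hmap (Ideal.mem_map_of_mem _ (hxI j)))
    exact ⟨h, hh, hhj⟩
  choose hh hhP hhj using hnak
  let G := ∏ j, hh j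
  have hG : G ∉ P := prod_mem (S := P.primeCompl) fun j _ => hhP j
  let e : Fin s.card ≃ ↥s := s.equivFin.symm
  let f : Fin s.card → A := fun l => x (e l)
  have hspan : Ideal.span (x '' (s : Set (Fin m))) = Ideal.span (Set.range f) := by
    congr 1
    ext y
    constructor
    · rintro ⟨l, hl, rfl⟩
      exact ⟨e.symm ⟨l, hl⟩, by simp [f]⟩
    · rintro ⟨l, rfl⟩
      exact ⟨_, (e l).2, rfl⟩
  have hGx : ∀ j, G * x j ∈ Ideal.span (Set.range f) := fun j => by
    rw [← hspan, show G * x j = (∏ k ∈ Finset.univ.erase j, hh k) * (hh j * x j) by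
      rw [← mul_assoc, Finset.prod_erase_mul _ _ (Finset.mem_univ j)]]
    exact Ideal.mul_mem_left _ _ (hhj j)
  choose c₀ hc₀ using fun j => Ideal.mem_span_range_iff_exists_fun.1 (hGx j)
  let c : Fin m → Fin s.card → A := fun j =>
    if hj : j ∈ s then Pi.single (e.symm ⟨j, hj⟩) G else c₀ j
  have hc : ∀ j, ∑ l, c j l * f l = G * x j := fun j => by
    by_cases hj : j ∈ s
    · simp only [c, dif_pos hj]
      rw [Finset.sum_eq_single (e.symm ⟨j, hj⟩) (fun l _ hl => by simp [hl]) (fun h => absurd (Finset.mem_univ _) h)]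
      simp [f]
    · simp only [c, dif_neg hj]; exact hc₀ j
  have hce : ∀ i, c (e i) = Pi.single i G := fun i => by simp [c]
  -- extension by zero
  let ext : (Fin s.card → A) → (Fin m → A) := fun a j =>
    if hj : j ∈ s then a (e.symm ⟨j, hj⟩) else 0
  have hext : ∀ (a : Fin s.card → A) (w : Fin m → A), ∑ j, ext a j * w j = ∑ l, a l * w (e l) := fun a w => by
    rw [← Finset.sum_subset (Finset.subset_univ s) fun j _ hj => by simp [ext, hj], ← Finset.sum_coe_sort,
      ← e.sum_comp]
    simp [ext]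
  have hrelP : ∀ a : Fin s.card → A, ∑ l, a l * f l ∈ I ^ 2 → ∀ l, a l ∈ P := fun a ha l => by
    have h1 := hmin (ext a) (by
      rw [Finset.sum_subset (Finset.subset_univ s) fun j _ hj => by simp [ext, hj], hext]
      exact ha) (e l) (e l).2
    simpa [ext] using h1
  -- upstairs
  obtain ⟨Q, hQ, hQP⟩ := Ideal.exists_isPrime_liesOver_of_faithfullyFlat (B := B) P
  have hmemQ : ∀ a : A, algebraMap A B a ∈ Q ↔ a ∈ P := fun a => by rw [hQP.over]; rfl
  obtain ⟨E, hE1, hE2⟩ := hsplit
  let T : Matrix (Fin s.card) (Fin s.card) B := fun i l => ∑ j, E (e i) j * algebraMap A B (c j l)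
  have hrow : ∀ i, ∑ l, (algebraMap A B (if i = l then G else 0) - T i l) * algebraMap A B (f l) ∈ I' ^ 2 := by
    intro i
    have h1 : ∑ l, T i l * algebraMap A B (f l) = algebraMap A B G * ∑ j, E (e i) j * algebraMap A B (x j) := by
      simp only [T, Finset.sum_mul, Finset.mul_sum]
      rw [Finset.sum_comm]
      refine Finset.sum_congr rfl fun j _ => ?_
      rw [mul_left_comm, ← map_mul, ← hc j, map_sum, Finset.mul_sum]
      simp only [map_mul, mul_assoc]
    have h2 : ∑ l, algebraMap A B (if i = l then G else 0) * algebraMap A B (f l) =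
        algebraMap A B G * algebraMap A B (x (e i)) := by
      rw [Finset.sum_eq_single i (fun l _ hl => by simp [Ne.symm hl]) (fun h => absurd (Finset.mem_univ i) h)]
      simp [f]
    simp only [sub_mul, Finset.sum_sub_distrib, h1, h2, ← mul_sub]
    exact Ideal.mul_mem_left _ _ (hE1 _)
  have hTQ : ∀ i l, algebraMap A B (if i = l then G else 0) - T i l ∈ Q := fun i => by
    have hi := hrow i
    rw [← Ideal.map_pow] at hi
    obtain ⟨k, y, a, ha, hb⟩ := exists_relations f (I ^ 2)
      (fun l => algebraMap A B (if i = l then G else 0) - T i l) hi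
    intro l
    rw [hb l]
    exact sum_mem fun j _ => Ideal.mul_mem_left _ _ ((hmemQ _).2 (hrelP (a j) (ha j) l))
  have hdet : T.det ∉ Q := by
    intro hmem
    have h0 : (T.map (Ideal.Quotient.mk Q)).det = 0 := by
      rw [← Ideal.Quotient.eq_zero_iff_mem.2 hmem]
      exact ((Ideal.Quotient.mk Q).map_det T).symm
    have hT : T.map (Ideal.Quotient.mk Q) = Matrix.diagonal fun _ => Ideal.Quotient.mk Q (algebraMap A B G) := by
      refine Matrix.ext fun i l => ?_
      rw [Matrix.map_apply, ← Ideal.Quotient.eq.2 (hTQ i l), Matrix.diagonal_apply]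
      split_ifs <;> simp
    rw [hT, Matrix.det_diagonal, Finset.prod_const, ← map_pow, Ideal.Quotient.eq_zero_iff_mem] at h0
    exact hG ((hmemQ G).1 (hQ.mem_of_pow_mem _ h0))
  have hBrel : ∀ b : Fin s.card → B, ∑ l, b l * algebraMap A B (f l) ∈ I' ^ 2 → ∀ l, T.det * b l ∈ I' := by
    intro b hb l
    let bx : Fin m → B := fun j => if hj : j ∈ s then b (e.symm ⟨j, hj⟩) else 0
    have hbx : ∀ w : Fin m → B, ∑ j, bx j * w j = ∑ i, b i * w (e i) := fun w => by
      rw [← Finset.sum_subset (Finset.subset_univ s) fun j _ hj => by simp [bx, hj], ← Finset.sum_coe_sort,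
        ← e.sum_comp]
      simp [bx]
    have hbT : ∀ l, Matrix.vecMul b T l ∈ I' := fun l => by
      have h1 := hE2 bx (by rw [hbx]; exact hb)
      have : Matrix.vecMul b T l = ∑ j, (∑ i, bx i * E i j) * algebraMap A B (c j l) := by
        simp only [Matrix.vecMul, dotProduct, T, hbx, Finset.mul_sum, Finset.sum_mul]
        rw [Finset.sum_comm]
        simp only [mul_assoc]
      rw [this]
      exact sum_mem fun j _ => Ideal.mul_mem_right _ _ (h1 j)
    have h2 : T.det * b l = Matrix.vecMul (Matrix.vecMul b T) T.adjugate l := by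
      rw [Matrix.vecMul_vecMul, Matrix.mul_adjugate, Matrix.vecMul_smul, Matrix.vecMul_one]
      rfl
    rw [h2, Matrix.vecMul, dotProduct]
    exact sum_mem fun i _ => Ideal.mul_mem_right _ _ (hbT i)
  have hcolon : ∀ a : Fin s.card → A, ∑ l, a l * f l ∈ I ^ 2 → ∀ l, ∃ q : A, q ∉ P ∧ q * a l ∈ I := by
    intro a ha l
    by_contra hno
    have hb := hBrel (fun l => algebraMap A B (a l)) (by
      simp only [← map_mul, ← map_sum, I', ← Ideal.map_pow]
      exact Ideal.mem_map_of_mem _ ha) l
    obtain ⟨k, y, q, hq, hbq⟩ := exists_relations (κ := Unit) (fun _ => a l) I (fun _ => T.det)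
      (by simpa using hb)
    refine hdet ?_
    rw [hbq ()]
    refine sum_mem fun j _ => Ideal.mul_mem_left _ _ ((hmemQ _).2 ?_)
    by_contra hqP
    exact hno ⟨q j (), hqP, by simpa using hq j⟩
  -- finitely many relations generate upstairs
  let row : Fin m → Fin m → B := fun i j => (if i = j then 1 else 0) - E i j
  have hrowrel : ∀ i, ∑ j, row i j * algebraMap A B (x j) ∈ (I ^ 2).map (algebraMap A B) := fun i => by
    have : ∑ j, row i j * algebraMap A B (x j) = algebraMap A B (x i) - ∑ j, E i j * algebraMap A B (x j) := by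
      simp [row, sub_mul, Finset.sum_sub_distrib]
    rw [this, Ideal.map_pow]
    exact hE1 i
  choose k y a ha hb using fun i => exists_relations x (I ^ 2) (row i) (hrowrel i)
  let K₀ : ((Σ i, Fin (k i)) ⊕ (Fin m × Fin m)) → (Fin m → A) :=
    Sum.elim (fun p => a p.1 p.2) fun p => Pi.single p.2 (x p.1)
  have hK₀ : ∀ q, ∑ j, K₀ q j * x j ∈ I ^ 2 := fun q => by
    rcases q with p | p
    · exact ha p.1 p.2
    · show ∑ j, (Pi.single p.2 (x p.1) : Fin m → A) j * x j ∈ I ^ 2
      rw [Finset.sum_eq_single p.2 (fun j _ hj => by rw [Pi.single_eq_of_ne hj, zero_mul])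
        (fun h => absurd (Finset.mem_univ _) h), Pi.single_eq_same, sq]
      exact Ideal.mul_mem_mul (hxI _) (hxI _)
  have hgen : ∀ v : Fin m → A, ∑ j, v j * x j ∈ I ^ 2 →
      (fun j => algebraMap A B (v j)) ∈ Submodule.span B (Set.range fun q j => algebraMap A B (K₀ q j)) := by
    intro v hv
    have hvE := hE2 (fun j => algebraMap A B (v j)) (by
      simp only [← map_mul, ← map_sum, ← Ideal.map_pow]
      exact Ideal.mem_map_of_mem _ hv)
    choose d hd using fun j => Ideal.mem_span_range_iff_exists_fun.1 (show _ ∈ Ideal.span _ by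
      rw [← hI']; exact hvE j)
    have : (fun j => algebraMap A B (v j)) =
        ∑ i, algebraMap A B (v i) • ∑ p, y i p • (fun j => algebraMap A B (K₀ (.inl ⟨i, p⟩) j)) +
          ∑ i, ∑ j', d j' i • (fun j => algebraMap A B (K₀ (.inr (i, j')) j)) := by
      funext j
      simp only [Pi.add_apply, Finset.sum_apply, Pi.smul_apply, smul_eq_mul, K₀, Sum.elim_inl, Sum.elim_inr]
      have e1 : ∀ i, ∑ p, y i p * algebraMap A B (a i p j) = row i j := fun i => (hb i j).symm
      have e2 : ∀ i, ∑ j', d j' i * algebraMap A B ((Pi.single j' (x i) : Fin m → A) j) =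
          d j i * algebraMap A B (x i) := fun i => by
        rw [Finset.sum_eq_single j (fun j' _ hj' => by simp [Ne.symm hj']) (fun h => absurd (Finset.mem_univ j) h)]
        simp
      simp only [e1, e2, hd, row, mul_sub, Finset.sum_sub_distrib, mul_ite, mul_one, mul_zero,
        Finset.sum_ite_eq', Finset.mem_univ, if_true, sub_add_cancel]
    rw [this]
    exact add_mem (sum_mem fun i _ => Submodule.smul_mem _ _ (sum_mem fun p _ =>
        Submodule.smul_mem _ _ (Submodule.subset_span ⟨.inl ⟨i, p⟩, rfl⟩)))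
      (sum_mem fun i _ => sum_mem fun j' _ => Submodule.smul_mem _ _ (Submodule.subset_span ⟨.inr (i, j'), rfl⟩))
  choose q hq hqI using fun p : ((Σ i, Fin (k i)) ⊕ (Fin m × Fin m)) × Fin s.card =>
    hcolon (fun l => ∑ j, K₀ p.1 j * c j l) (rel_of_coord hc (hK₀ p.1)) p.2
  let g₁ := ∏ p, q p
  have hg₁ : g₁ ∉ P := prod_mem (S := P.primeCompl) fun p _ => hq p
  refine ⟨G * g₁, s.card, f, fun hmem => (hP.mem_or_mem hmem).elim hG hg₁, fun l => hxI _, fun z hz => ?_,
    fun v hv l => ?_⟩
  · rw [← hx] at hz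
    induction hz using Submodule.span_induction with
    | mem z hz =>
      obtain ⟨j, rfl⟩ := hz
      rw [mul_right_comm]
      exact Ideal.mul_mem_right _ _ (hGx j)
    | zero => simp
    | add z w _ _ hz hw => rw [mul_add]; exact add_mem hz hw
    | smul r z _ hz => rw [smul_eq_mul, mul_left_comm]; exact Ideal.mul_mem_left _ _ hz
  · have hGv : G * v l = ∑ j, ext v j * c j l := by
      rw [hext]
      simp [hce, Finset.sum_eq_single l, Pi.single_apply, mul_comm]
    rw [mul_right_comm, hGv, mul_comm _ g₁, ← Ideal.comap_map_eq_self_of_faithfullyFlat (B := B) I, Ideal.mem_comap,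
      map_mul, map_sum]
    simp only [map_mul]
    refine Submodule.span_induction (p := fun w _ => algebraMap A B g₁ * ∑ j, w j * algebraMap A B (c j l) ∈ I')
      ?_ ?_ ?_ ?_ (hgen (ext v) (by rw [hext]; exact hv))
    · rintro _ ⟨p, rfl⟩
      simp only [← map_mul, ← map_sum]
      refine Ideal.mem_map_of_mem _ ?_
      show g₁ * ∑ j, K₀ p j * c j l ∈ I
      rw [show g₁ = (∏ p' ∈ Finset.univ.erase (p, l), q p') * q (p, l) from
        (Finset.prod_erase_mul _ _ (Finset.mem_univ _)).symm, mul_assoc]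
      exact Ideal.mul_mem_left _ _ (hqI (p, l))
    · simp
    · intro w w' _ _ hw hw'
      simp only [Pi.add_apply, add_mul, Finset.sum_add_distrib, mul_add]
      exact add_mem hw hw'
    · intro b w _ hw
      simp only [Pi.smul_apply, smul_eq_mul, mul_assoc, ← Finset.mul_sum, mul_left_comm (algebraMap A B g₁) b]
      exact Ideal.mul_mem_left _ b hw

/-- Quasi-regularity descends, given its symmetric-algebra form upstairs. -/
theorem lqr_descent [Module.FaithfullyFlat A B] {I : Ideal A} {m : ℕ} (x : Fin m → A)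
    (hx : Ideal.span (Set.range x) = I)
    (hsplit : Split (I.map (algebraMap A B)) fun j => algebraMap A B (x j))
    (hsym : PP16.SymGrBijective B (I.map (algebraMap A B))) : PP16.IsLocallyQuasiRegular A I := by
  refine lqr_of_charted fun P hP hIP => ?_
  obtain ⟨g, r, f, hg, hf, hgen, hind⟩ := @exists_chart_descent A B _ _ _ _ I m x hx hsplit P hP hIP
  refine ⟨g, r, f, hg, ⟨hf, fun y hy => ⟨1, by rw [pow_one]; exact hgen y hy⟩⟩, fun n p hp he d => ?_⟩
  have hf' : ∀ i, algebraMap A B (f i) ∈ I.map (algebraMap A B) := fun i => Ideal.mem_map_of_mem _ (hf i)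
  have hgen' : Gen (I.map (algebraMap A B)) (algebraMap A B g) fun i => algebraMap A B (f i) := by
    refine ⟨hf', fun y hy => ⟨1, ?_⟩⟩
    rw [pow_one]
    refine Submodule.span_induction
      (p := fun y _ => algebraMap A B g * y ∈ Ideal.span (Set.range fun i => algebraMap A B (f i))) ?_ ?_ ?_ ?_ hy
    · rintro _ ⟨z, hz, rfl⟩
      rw [← map_mul]
      have := Ideal.mem_map_of_mem (algebraMap A B) (hgen z hz)
      rwa [Ideal.map_span, ← Set.range_comp] at this
    · simp
    · intro a b _ _ ha hb; rw [mul_add]; exact add_mem ha hb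
    · intro e a _ ha; rw [smul_eq_mul, mul_left_comm]; exact Ideal.mul_mem_left _ e ha
  have hind' : Indep (I.map (algebraMap A B)) (algebraMap A B g) fun i => algebraMap A B (f i) := by
    intro b hb i
    rw [← Ideal.map_pow] at hb
    obtain ⟨k, y, a, ha, hba⟩ := exists_relations f (I ^ 2) b hb
    refine ⟨1, ?_⟩
    rw [pow_one, hba i, Finset.mul_sum]
    refine sum_mem fun j _ => ?_
    rw [mul_left_comm, ← map_mul]
    exact Ideal.mul_mem_left _ _ (Ideal.mem_map_of_mem _ (hind (a j) (ha j) i))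
  obtain ⟨N, hN⟩ := qrAt_of_indep hgen' hind' hsym n (MvPolynomial.map (algebraMap A B) p) (hp.map _) (by
    rw [MvPolynomial.eval_map, ← Ideal.map_pow,
      show MvPolynomial.eval₂ (algebraMap A B) (fun i => algebraMap A B (f i)) p =
        algebraMap A B (MvPolynomial.eval f p) from
          (MvPolynomial.eval₂_comp_left (algebraMap A B) (RingHom.id A) f p).symm]
    exact Ideal.mem_map_of_mem _ he) d
  refine ⟨N, ?_⟩
  rw [MvPolynomial.coeff_map, ← map_pow, ← map_mul] at hN
  rw [← Ideal.comap_map_eq_self_of_faithfullyFlat (B := B) I]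
  exact hN

theorem lqr_of_faithfullyFlat [Module.FaithfullyFlat A B] (I : Ideal A)
    (h : PP16.IsLocallyQuasiRegular B (I.map (algebraMap A B))) : PP16.IsLocallyQuasiRegular A I := by
  have hch := charted_of_lqr h
  have hfg : I.FG := Ideal.FG.of_FG_map_of_faithfullyFlat (S := B) (fg_of_gen fun P hP hJP => by
    obtain ⟨g, r, f, hg, hgen, -⟩ := hch P hP hJP
    exact ⟨g, r, f, hg, hgen⟩)
  obtain ⟨m, x, hx⟩ := Submodule.fg_iff_exists_fin_generating_family.1 hfg
  have hx' : Ideal.span (Set.range fun j => algebraMap A B (x j)) = I.map (algebraMap A B) := by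
    rw [← hx, Ideal.map_span, ← Set.range_comp]; rfl
  exact lqr_descent x hx (split_of_charted hx' hch) (symGrBijective_of_charted hch)

end Groth.PP.QR
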