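import Groth.Agent.PP.Coordinates

/-!
Differential smoothness with coordinates and divided power operators.
-/

set_option autoImplicit false
set_option linter.style.haveILetI false

universe u

open scoped TensorProduct

namespace Groth.PP

variable {A B : Type u} [CommRing A] [CommRing B] [Algebra A B]

/-- The canonical surjection onto a positive graded piece. -/
theorem exists_hom_surjective (ι : Type u) [Fintype ι] [Nonempty ι] :
    ∃ φ : SymmetricPower B ι (KaehlerDifferential A B) →ₗ[B] PP16.grI A B (Fintype.card ι),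
      (∀ b : ι → B, φ (SymmetricPower.tprod B (fun i => KaehlerDifferential.D A B (b i))) =
          PP16.zetaProd A B b) ∧ Function.Surjective φ := by
  obtain ⟨ψ, hψ, hψs⟩ : ∃ ψ : SymmetricPower (B ⊗[A] B) ι (KaehlerDifferential A B) →ₗ[B ⊗[A] B]
      PP16.grJ (B ⊗[A] B) (KaehlerDifferential.ideal A B) (Fintype.card ι),
      (∀ x : ι → ↥(KaehlerDifferential.ideal A B),
        ψ (SymmetricPower.tprod (B ⊗[A] B) fun i => (KaehlerDifferential.ideal A B).toCotangent (x i)) =
          PP16.zetaJ (B ⊗[A] B) (KaehlerDifferential.ideal A B) x) ∧ Function.Surjective ψ :=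
    Groth.Ega41SymGr.exists_symPower_hom (KaehlerDifferential.ideal A B) ι
  obtain ⟨Φ, hΦs, hΦt, hΦb⟩ := exists_symPower_changeRing (Algebra.TensorProduct.lmul' A (S := B)).toRingHom
    (KaehlerDifferential A B) (fun b => by
      show (Algebra.TensorProduct.lmul' A (S := B)) (b ⊗ₜ[A] (1 : B)) = b
      rw [Algebra.TensorProduct.lmul'_apply_tmul, mul_one]) (fun c x => smul_kaehler A B c x) ι
  let φ : SymmetricPower B ι (KaehlerDifferential A B) →ₗ[B] PP16.grI A B (Fintype.card ι) :=
    { toFun := fun t => grToGrI A B _ (ψ (Φ t))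
      map_add' := fun s t => by rw [map_add, map_add, map_add]
      map_smul' := fun b t => by rw [hΦs, ψ.map_smul, grToGrI_smul]; rfl }
  refine ⟨φ, fun b => ?_, (grToGrI_bijective A B _).2.comp (hψs.comp hΦb.2)⟩
  show grToGrI A B _ (ψ (Φ (SymmetricPower.tprod B fun i => KaehlerDifferential.D A B (b i)))) = _
  rw [hΦt]
  exact (congrArg _ (hψ fun i => ⟨(1 : B) ⊗ₜ[A] b i - b i ⊗ₜ[A] (1 : B),
    KaehlerDifferential.one_smul_sub_smul_one_mem_ideal A (b i)⟩)).trans rfl

variable {σ : Type} [Fintype σ] [DecidableEq σ]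

omit [DecidableEq σ] in
/-- A word with prescribed multiplicities. -/
lemma exists_word {ι : Type u} [Fintype ι] {q : σ → ℕ} (hq : ∑ j, q j = Fintype.card ι) :
    ∃ g : ι → σ, ∀ {M : Type u} [CommMonoid M] (f : σ → M), ∏ i, f (g i) = ∏ j, f j ^ q j := by
  have e : ι ≃ Σ j, Fin (q j) := Fintype.equivOfCardEq (by rw [Fintype.card_sigma]; simp [hq])
  refine ⟨fun i => (e i).1, fun {M} _ f => ?_⟩
  rw [e.prod_comp (fun x : Σ j, Fin (q j) => f x.1), Fintype.prod_sigma]
  simp

/-- The class of a monomial in its graded piece. -/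
lemma zetaProd_word (z : σ → B) {ι : Type u} [Fintype ι] {q : σ → ℕ} {g : ι → σ}
    (hg : ∀ {M : Type u} [CommMonoid M] (f : σ → M), ∏ i, f (g i) = ∏ j, f j ^ q j)
    (h : mon A z q ∈ (KaehlerDifferential.ideal A B ^ Fintype.card ι).restrictScalars B) :
    PP16.zetaProd A B (fun i => z (g i)) = Submodule.Quotient.mk ⟨mon A z q, h⟩ :=
  congrArg Submodule.Quotient.mk (Subtype.ext (hg fun j => Groth.DiffOps.del A (z j)))

section smoothToDual

variable (z : σ → B) (hB : PP16.IsDiffSmooth A B) (b : Module.Basis σ B (KaehlerDifferential A B))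
  (hb : ∀ i, b i = KaehlerDifferential.D A B (z i))

include hb in
omit [Fintype σ] [DecidableEq σ] in
lemma span_eq_top_of_basis :
    Submodule.span B (Set.range fun i => KaehlerDifferential.D A B (z i)) = ⊤ := by
  rw [show (fun i => KaehlerDifferential.D A B (z i)) = b from funext fun i => (hb i).symm, b.span_eq]

include hB hb in
/-- The monomials of a given degree are independent in their graded piece. -/
lemma eq_zero_of_sum_mem (k : ℕ) (S : Finset (σ → ℕ)) (hS : ∀ q ∈ S, ∑ j, q j = k) (l : (σ → ℕ) → B)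
    (h : ∑ q ∈ S, l q • mon A z q ∈ powI A B (k + 1)) : ∀ q ∈ S, l q = 0 := by
  obtain ⟨ι, hι, hcard⟩ : ∃ (ι : Type u) (_ : Fintype ι), Fintype.card ι = k :=
    ⟨ULift (Fin k), inferInstance, by simp⟩
  subst hcard
  obtain ⟨φ, hφ, hφb⟩ := hB.2 ι
  let X : KaehlerDifferential A B →ₗ[B] MvPolynomial σ B := b.constr B fun i => MvPolynomial.X i
  let θ : SymmetricPower B ι (KaehlerDifferential A B) →ₗ[B] MvPolynomial σ B :=
    Groth.Ega41SymGr.symLift ((MultilinearMap.mkPiAlgebra B ι (MvPolynomial σ B)).compLinearMap fun _ => X)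
      fun e f => by simpa using Equiv.prod_comp e fun i => X (f i)
  choose g hg using fun q : S => exists_word (ι := ι) (hS q q.2)
  let t : SymmetricPower B ι (KaehlerDifferential A B) :=
    ∑ q : S, l q • SymmetricPower.tprod B fun i => KaehlerDifferential.D A B (z (g q i))
  have ht : φ t = 0 := by
    rw [map_sum]
    have e : ∀ q : S, φ (l q • SymmetricPower.tprod B fun i => KaehlerDifferential.D A B (z (g q i))) =
        l q • Submodule.Quotient.mk ⟨mon A z q, mon_mem_of_le z (le_of_eq (hS q q.2).symm)⟩ := fun q => by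
      rw [map_smul, hφ, zetaProd_word z (hg q) (mon_mem_of_le z (le_of_eq (hS q q.2).symm))]
    rw [Finset.sum_congr rfl fun q _ => e q]
    simp only [← Submodule.mkQ_apply, ← map_smul, ← map_sum]
    rw [Submodule.mkQ_apply, Submodule.Quotient.mk_eq_zero, Submodule.mem_comap, map_sum]
    simp only [Submodule.subtype_apply, Submodule.coe_smul_of_tower]
    rw [Finset.univ_eq_attach, Finset.sum_attach S fun q => l q • mon A z q]
    exact h
  have ht0 : t = 0 := hφb.1 (ht.trans (map_zero φ).symm)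
  intro q hq
  have h0 := congrArg θ ht0
  have hθ : ∀ r : S, θ (SymmetricPower.tprod B fun i => KaehlerDifferential.D A B (z (g r i))) =
      MvPolynomial.monomial (Finsupp.equivFunOnFinite.symm (r : σ → ℕ)) 1 := fun r => by
    refine (Groth.Ega41SymGr.symLift_tprod _ _ _).trans ?_
    simp only [MultilinearMap.compLinearMap_apply, MultilinearMap.mkPiAlgebra_apply, ← hb, X,
      Module.Basis.constr_basis]
    rw [hg r fun j => (MvPolynomial.X j : MvPolynomial σ B), ← MvPolynomial.prod_X_pow_eq_monomial]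
    refine (Finset.prod_subset (Finset.subset_univ _) fun j _ hj => ?_).symm
    rw [show (r : σ → ℕ) j = 0 from Finsupp.notMem_support_iff.1 hj, pow_zero]
  rw [map_zero, map_sum] at h0
  simp only [map_smul, hθ, MvPolynomial.smul_monomial, smul_eq_mul, mul_one] at h0
  have h1 := congrArg (MvPolynomial.coeff (Finsupp.equivFunOnFinite.symm q)) h0
  rw [MvPolynomial.coeff_sum, MvPolynomial.coeff_zero, Finset.sum_eq_single ⟨q, hq⟩] at h1
  · simpa using h1
  · intro r _ hr
    rw [MvPolynomial.coeff_monomial, if_neg]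
    exact fun e => hr (Subtype.ext (Finsupp.equivFunOnFinite.symm.injective e))
  · exact fun hn => absurd (Finset.mem_univ _) hn

include hB hb in
/-- The monomials of degree `< N` are independent modulo `I ^ N`. -/
lemma eq_zero_of_sum_mem_powI (N : ℕ) (S : Finset (σ → ℕ)) (l : (σ → ℕ) → B)
    (h : ∑ q ∈ S, l q • mon A z q ∈ powI A B N) : ∀ q ∈ S, ∑ j, q j < N → l q = 0 := by
  suffices H : ∀ k ≤ N, ∀ q ∈ S, ∑ j, q j < k → l q = 0 from fun q hq hlt => H N le_rfl q hq hlt
  intro k
  induction k with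
  | zero => intro _ q _ hlt; omega
  | succ k ih =>
    intro hk q hq hlt
    rcases Nat.lt_succ_iff_lt_or_eq.1 hlt with hlt | heq
    · exact ih (by omega) q hq hlt
    refine eq_zero_of_sum_mem z hB b hb k (S.filter fun r => ∑ j, r j = k)
      (fun r hr => (Finset.mem_filter.1 hr).2) l ?_ q (Finset.mem_filter.2 ⟨hq, heq⟩)
    have hrest : ∑ r ∈ S.filter (fun r => ¬ ∑ j, r j = k), l r • mon A z r ∈ powI A B (k + 1) := by
      refine sum_mem fun r hr => ?_
      obtain ⟨hrS, hrk⟩ := Finset.mem_filter.1 hr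
      rcases lt_or_gt_of_ne hrk with hlt | hgt
      · rw [ih (by omega) r hrS hlt, zero_smul]; exact zero_mem _
      · exact Submodule.smul_mem _ _ (mon_mem_of_le z hgt)
    have hall : ∑ r ∈ S, l r • mon A z r ∈ powI A B (k + 1) := Ideal.pow_le_pow_right hk h
    rw [← Finset.sum_filter_add_sum_filter_not S (fun r => ∑ j, r j = k)] at hall
    exact (Submodule.add_mem_iff_left _ hrest).1 hall

include hB hb in
theorem exists_monBasis_of_isDiffSmooth (m : ℕ) :
    ∃ bm : Module.Basis {q : σ → ℕ // ∑ i, q i ≤ m} B (PP16.P m A B), ∀ q, bm q = monP A z m q.1 := by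
  have hind : LinearIndependent B fun q : {q : σ → ℕ // ∑ i, q i ≤ m} => monP A z m q.1 := by
    rw [linearIndependent_iff']
    intro s c hc q hq
    let l : (σ → ℕ) → B := fun r => if h : ∑ i, r i ≤ m then c ⟨r, h⟩ else 0
    have hl : ∀ r : {q : σ → ℕ // ∑ i, q i ≤ m}, l r.1 = c r := fun r => dif_pos r.2
    have h := eq_zero_of_sum_mem_powI z hB b hb (m + 1) (s.map (Function.Embedding.subtype _)) l (by
      rw [Finset.sum_map]
      simp only [Function.Embedding.coe_subtype, hl]
      refine Ideal.Quotient.eq_zero_iff_mem.1 (Eq.trans ?_ hc)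
      rw [map_sum]
      refine Finset.sum_congr rfl fun r _ => ?_
      exact map_smul (Ideal.Quotient.mkₐ B _) (c r) _) q.1
      (Finset.mem_map_of_mem _ hq) (Nat.lt_succ_of_le q.2)
    rwa [hl] at h
  exact ⟨Module.Basis.mk hind (span_monP_eq_top z (span_eq_top_of_basis z b hb) m).ge,
    fun q => Module.Basis.mk_apply _ _ q⟩

include hB hb in
theorem exists_isDual_of_isDiffSmooth (p : σ → ℕ) :
    ∃ L : B ⊗[A] B →ₗ[B] B, IsDual z L p ∧ ∀ x ∈ powI A B (∑ i, p i + 1), L x = 0 := by
  obtain ⟨bm, hbm⟩ := exists_monBasis_of_isDiffSmooth z hB b hb (∑ i, p i)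
  refine ⟨bm.coord ⟨p, le_rfl⟩ ∘ₗ (Ideal.Quotient.mkₐ B _).toLinearMap, fun q => ?_, fun x hx => ?_⟩
  · show bm.coord ⟨p, le_rfl⟩ (monP A z (∑ i, p i) q) = _
    rcases le_or_gt (∑ i, q i) (∑ i, p i) with hq | hq
    · rw [← hbm ⟨q, hq⟩, Module.Basis.coord_apply, Module.Basis.repr_self, Finsupp.single_apply]
      refine if_congr ?_ rfl rfl
      simp [eq_comm]
    · rw [monP, Ideal.Quotient.eq_zero_iff_mem.2 (mon_mem_of_le z hq), map_zero, if_neg]
      rintro rfl
      omega
  · show bm.coord ⟨p, le_rfl⟩ (Ideal.Quotient.mk _ x) = 0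
    rw [Ideal.Quotient.eq_zero_iff_mem.2 hx, map_zero]

include hB hb in
theorem exists_dividedPowers :
    ∃ Dp : (σ → ℕ) → (B →ₗ[A] B),
      (∀ p, ∃ k : ℕ, Diff16.IsDiffOpLE A B B B k (Dp p)) ∧ ∀ p, IsDividedPower z (Dp p) p := by
  choose L hL hLo using exists_isDual_of_isDiffSmooth z hB b hb
  refine ⟨fun p => opFun (L p), fun p => ⟨∑ i, p i, ?_⟩, fun p q => ?_⟩
  · rw [isDiffOpLE_iff_lin, lin_opFun]
    exact hLo p
  · exact (isDividedPower_opFun z _ q rfl (L p)).2 p (hL p)

end smoothToDual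

section dualToSmooth

variable (z : σ → B) (hz : Submodule.span B (Set.range fun i => KaehlerDifferential.D A B (z i)) = ⊤)
  (Dp : (σ → ℕ) → (B →ₗ[A] B)) (hD : ∀ p, ∃ k : ℕ, Diff16.IsDiffOpLE A B B B k (Dp p))
  (hDz : ∀ p, IsDividedPower z (Dp p) p)

include hDz in
lemma isDual_lin (p : σ → ℕ) : IsDual z (lin (Dp p)) p :=
  fun q => lin_mon_of_isDividedPower z _ q rfl p (Dp p) (hDz p)

include hz hD hDz in
lemma lin_eq_zero_of_mem (p : σ → ℕ) : ∀ x ∈ powI A B (∑ i, p i + 1), lin (Dp p) x = 0 := by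
  obtain ⟨k, hk⟩ := hD p
  refine eq_zero_of_mon z hz _ ((isDiffOpLE_iff_lin k (Dp p)).1 hk) _ fun q hq => ?_
  rw [isDual_lin z Dp hDz p q, if_neg]
  rintro rfl
  omega

include hz hD hDz in
theorem order_le (p : σ → ℕ) : Diff16.IsDiffOpLE A B B B (∑ i, p i) (Dp p) :=
  (isDiffOpLE_iff_lin _ _).2 (lin_eq_zero_of_mem z hz Dp hD hDz p)

include hz hD hDz in
lemma coeff_eq_zero (k : ℕ) (S : Finset (σ → ℕ)) (hS : ∀ q ∈ S, ∑ j, q j ≤ k) (l : (σ → ℕ) → B)
    (h : ∑ q ∈ S, l q • mon A z q ∈ powI A B (k + 1)) : ∀ q ∈ S, l q = 0 := by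
  intro p hp
  have h0 := lin_eq_zero_of_mem z hz Dp hD hDz p _
    (Ideal.pow_le_pow_right (by have := hS p hp; omega) h)
  have hd : ∀ q, lin (Dp p) (mon A z q) = if p = q then (1 : B) else 0 := isDual_lin z Dp hDz p
  rw [map_sum] at h0
  simp only [map_smul, hd, smul_eq_mul,
    mul_ite, mul_one, mul_zero, Finset.sum_ite_eq, hp, if_true] at h0
  exact h0

include hz hD hDz in
theorem exists_basis_kaehler :
    ∃ b : Module.Basis σ B (KaehlerDifferential A B), ∀ i, b i = KaehlerDifferential.D A B (z i) := by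
  have hind : LinearIndependent B fun i => KaehlerDifferential.D A B (z i) := by
    rw [Fintype.linearIndependent_iff]
    intro c hc i
    let e : σ ↪ (σ → ℕ) := ⟨fun i => 0 + Pi.single i 1, fun a b h => by
      by_contra hab
      have := congrFun h a
      simp [Pi.single_eq_of_ne hab] at this⟩
    let d : ↥(KaehlerDifferential.ideal A B) := ∑ i, algebraMap B (B ⊗[A] B) (c i) •
      (⟨(1 : B) ⊗ₜ[A] z i - z i ⊗ₜ[A] (1 : B), KaehlerDifferential.one_smul_sub_smul_one_mem_ideal A (z i)⟩ :
        ↥(KaehlerDifferential.ideal A B))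
    have hd : KaehlerDifferential.fromIdeal A B d = 0 := by
      rw [map_sum]
      refine Eq.trans (Finset.sum_congr rfl fun i _ => ?_) hc
      rw [map_smul, algebraMap_smul]
      rfl
    have hd2 : (d : B ⊗[A] B) ∈ KaehlerDifferential.ideal A B ^ 2 :=
      (Ideal.toCotangent_eq_zero (KaehlerDifferential.ideal A B) d).1 hd
    have h := coeff_eq_zero z hz Dp hD hDz 1 (Finset.univ.map e)
      (fun q hq => by
        obtain ⟨j, -, rfl⟩ := Finset.mem_map.1 hq
        show ∑ x, (0 + Pi.single j 1 : σ → ℕ) x ≤ 1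
        rw [sum_add_single]; simp)
      (Function.extend e c 0) (by
        rw [Finset.sum_map]
        simp only [e.injective.extend_apply]
        have hmem : (d : B ⊗[A] B) ∈ powI A B (1 + 1) := hd2
        convert hmem using 1
        rw [Submodule.coe_sum]
        refine Finset.sum_congr rfl fun j _ => ?_
        show c j • mon A z (0 + Pi.single j 1) = _
        rw [mon_add_single, mon_zero, mul_one, Algebra.smul_def]
        rfl) (e i) (Finset.mem_map_of_mem _ (Finset.mem_univ i))
    rwa [e.injective.extend_apply] at h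
  exact ⟨Module.Basis.mk hind hz.ge, fun i => Module.Basis.mk_apply _ _ i⟩

omit [DecidableEq σ] in
include hz in
/-- Symmetric powers are spanned by the words in the `dz i`. -/
lemma span_words (ι : Type u) [Fintype ι] :
    Submodule.span B (Set.range fun g : ι → σ =>
      SymmetricPower.tprod B fun i => KaehlerDifferential.D A B (z (g i))) = ⊤ := by
  classical
  rw [eq_top_iff, ← SymmetricPower.span_tprod_eq_top, Submodule.span_le]
  rintro _ ⟨x, rfl⟩
  have hx : ∀ i, ∃ c : σ → B, ∑ j, c j • KaehlerDifferential.D A B (z j) = x i := fun i =>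
    (Submodule.mem_span_range_iff_exists_fun B).1 (by rw [hz]; trivial)
  choose c hc using hx
  rw [show x = fun i => ∑ j, c i j • KaehlerDifferential.D A B (z j) from funext fun i => (hc i).symm,
    MultilinearMap.map_sum, SetLike.mem_coe]
  refine sum_mem fun g _ => ?_
  rw [MultilinearMap.map_smul_univ]
  exact Submodule.smul_mem _ _ (Submodule.subset_span ⟨g, rfl⟩)

include hz hD hDz in
theorem isDiffSmooth_of_dividedPowers : PP16.IsDiffSmooth A B := by
  obtain ⟨b, -⟩ := exists_basis_kaehler z hz Dp hD hDz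
  haveI : Module.Free B (KaehlerDifferential A B) := Module.Free.of_basis b
  refine ⟨inferInstance, fun ι _ => ?_⟩
  rcases isEmpty_or_nonempty ι with hι | hι
  · exact exists_bijective_of_isEmpty A B ι
  obtain ⟨φ, hφ, hφs⟩ := exists_hom_surjective (A := A) (B := B) ι
  refine ⟨φ, hφ, (injective_iff_map_eq_zero φ).2 fun t ht => ?_, hφs⟩
  classical
  let cnt : (ι → σ) → (σ → ℕ) := fun g => Finsupp.equivFunOnFinite (∑ i, Finsupp.single (g i) (1 : ℕ))
  obtain ⟨c, rfl⟩ := (Submodule.mem_span_range_iff_exists_fun B).1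
    (show t ∈ Submodule.span B _ by rw [span_words z hz ι]; trivial)
  let S : Finset (σ → ℕ) := Finset.univ.image cnt
  have hrep : ∀ q ∈ S, ∃ g, cnt g = q := fun q hq => by
    obtain ⟨g, -, hg⟩ := Finset.mem_image.1 hq
    exact ⟨g, hg⟩
  have hword : ∀ g g' : ι → σ, cnt g = cnt g' →
      SymmetricPower.tprod B (fun i => KaehlerDifferential.D A B (z (g i))) =
        SymmetricPower.tprod B (fun i => KaehlerDifferential.D A B (z (g' i))) := fun g g' h =>
    Groth.Ega41SymGr.tprod_eq_of_count_eq (fun j => KaehlerDifferential.D A B (z j))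
      (Finsupp.equivFunOnFinite.injective h)
  have hcnt : ∀ g : ι → σ, ∑ j, cnt g j = Fintype.card ι := fun g => by
    show ∑ j, (∑ i, Finsupp.single (g i) (1 : ℕ) : σ →₀ ℕ) j = _
    simp only [Finsupp.coe_finsetSum, Finset.sum_apply]
    rw [Finset.sum_comm]
    simp [Finsupp.single_apply]
  have hmon : ∀ g : ι → σ, (∏ i, Groth.DiffOps.del A (z (g i))) = mon A z (cnt g) := fun g => by
    show _ = ∏ j, Groth.DiffOps.del A (z j) ^ (∑ i, Finsupp.single (g i) (1 : ℕ) : σ →₀ ℕ) j
    simp only [Finsupp.coe_finsetSum, Finset.sum_apply, ← Finset.prod_pow_eq_pow_sum]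
    rw [Finset.prod_comm]
    refine Finset.prod_congr rfl fun i _ => ?_
    rw [Finset.prod_eq_single (g i) (fun j _ hj => by rw [Finsupp.single_eq_of_ne hj, pow_zero])
      (fun h => absurd (Finset.mem_univ _) h), Finsupp.single_eq_same, pow_one]
  let l : (σ → ℕ) → B := fun q => ∑ g ∈ Finset.univ.filter (fun g => cnt g = q), c g
  have hzero : ∀ q ∈ S, l q = 0 := by
    refine coeff_eq_zero z hz Dp hD hDz (Fintype.card ι) S (fun q hq => ?_) l ?_
    · obtain ⟨g, rfl⟩ := hrep q hq
      rw [hcnt]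
    · have h1 : ∑ q ∈ S, l q • mon A z q = ∑ g, c g • ∏ i, Groth.DiffOps.del A (z (g i)) := by
        simp only [hmon, l, Finset.sum_smul]
        rw [← Finset.sum_fiberwise_of_maps_to (g := cnt) (t := S)
          (fun g _ => Finset.mem_image_of_mem _ (Finset.mem_univ g)) (fun g => c g • mon A z (cnt g))]
        refine Finset.sum_congr rfl fun q _ => Finset.sum_congr rfl fun g hg => ?_
        rw [(Finset.mem_filter.1 hg).2]
      rw [h1]
      rw [map_sum] at ht
      simp only [map_smul, hφ, PP16.zetaProd, ← Submodule.mkQ_apply] at ht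
      simp only [← map_smul, ← map_sum] at ht
      rw [Submodule.mkQ_apply, Submodule.Quotient.mk_eq_zero, Submodule.mem_comap, map_sum] at ht
      exact ht
  rw [← Finset.sum_fiberwise_of_maps_to (g := cnt) (t := S)
    (fun g _ => Finset.mem_image_of_mem _ (Finset.mem_univ g))
    (fun g => c g • SymmetricPower.tprod B (fun i => KaehlerDifferential.D A B (z (g i))))]
  refine Finset.sum_eq_zero fun q hq => ?_
  obtain ⟨g₀, hg₀⟩ := hrep q hq
  rw [Finset.sum_congr rfl fun g hg => by
    rw [hword g g₀ ((Finset.mem_filter.1 hg).2.trans hg₀.symm)], ← Finset.sum_smul, show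
    ∑ g ∈ Finset.univ.filter (fun g => cnt g = q), c g = l q from rfl, hzero q hq, zero_smul]

omit [Fintype σ] [DecidableEq σ] in
lemma lin_smul (c : B) (D : B →ₗ[A] B) : lin (c • D) = c • lin D := by
  refine LinearMap.ext fun x => ?_
  induction x using TensorProduct.induction_on with
  | zero => rw [map_zero, map_zero]
  | tmul b d => rw [LinearMap.smul_apply, lin_tmul, lin_tmul, LinearMap.smul_apply, smul_eq_mul, smul_eq_mul]; ring
  | add x y hx hy => rw [map_add, map_add, hx, hy]

omit [Fintype σ] [DecidableEq σ] in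
lemma lin_sum {κ : Type*} (s : Finset κ) (D : κ → (B →ₗ[A] B)) :
    lin (∑ i ∈ s, D i) = ∑ i ∈ s, lin (D i) := by
  refine LinearMap.ext fun x => ?_
  induction x using TensorProduct.induction_on with
  | zero => rw [map_zero, map_zero]
  | tmul b d => simp [lin_tmul, Finset.mul_sum]
  | add x y hx hy => rw [map_add, map_add, hx, hy]

include hz hD hDz in
theorem existsUnique_expansion (m : ℕ) (D : B →ₗ[A] B) (h : Diff16.IsDiffOpLE A B B B m D) :
    ∃! a : {p : σ → ℕ // ∑ i, p i ≤ m} →₀ B, D = a.sum fun p c => c • Dp p.1 := by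
  classical
  haveI : Finite {p : σ → ℕ // ∑ i, p i ≤ m} :=
    Finite.of_injective (fun p (i : σ) => (⟨p.1 i, Nat.lt_succ_of_le
      ((Finset.single_le_sum (fun j _ => Nat.zero_le (p.1 j)) (Finset.mem_univ i)).trans p.2)⟩ : Fin (m + 1)))
      fun p q hpq => Subtype.ext (funext fun i => congrArg Fin.val (congrFun hpq i))
  letI := Fintype.ofFinite {p : σ → ℕ // ∑ i, p i ≤ m}
  have hval : ∀ (a : {p : σ → ℕ // ∑ i, p i ≤ m} →₀ B) (q : σ → ℕ),
      lin (a.sum fun p c => c • Dp p.1) (mon A z q) = if hq : ∑ i, q i ≤ m then a ⟨q, hq⟩ else 0 := fun a q => by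
    rw [Finsupp.sum_fintype a (fun p c => c • Dp p.1) fun p => zero_smul _ _, lin_sum, LinearMap.sum_apply]
    have hd : ∀ p, lin (Dp p) (mon A z q) = if p = q then (1 : B) else 0 := fun p => isDual_lin z Dp hDz p q
    simp only [lin_smul, LinearMap.smul_apply, hd, smul_eq_mul, mul_ite, mul_one, mul_zero]
    split_ifs with hq
    · rw [Finset.sum_eq_single ⟨q, hq⟩ (fun p _ hp => if_neg fun e => hp (Subtype.ext e))
        (fun hn => absurd (Finset.mem_univ _) hn), if_pos rfl]
    · exact Finset.sum_eq_zero fun p _ => if_neg fun (e : p.1 = q) => hq (e ▸ p.2)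
  have hext : ∀ E : B →ₗ[A] B, Diff16.IsDiffOpLE A B B B m E →
      (∀ q : σ → ℕ, ∑ i, q i ≤ m → lin E (mon A z q) = lin D (mon A z q)) → D = E := fun E hE hq => by
    refine LinearMap.ext fun c => ?_
    have hzero := eq_zero_of_mon z hz (lin D - lin E) (N := m + 1) (fun x hx => by
      rw [LinearMap.sub_apply, (isDiffOpLE_iff_lin m D).1 h x hx, (isDiffOpLE_iff_lin m E).1 hE x hx,
        sub_zero]) 0 (fun q _ => by
      rw [LinearMap.sub_apply]
      rcases le_or_gt (∑ i, q i) m with hle | hgt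
      · rw [hq q hle, sub_self]
      · rw [(isDiffOpLE_iff_lin m D).1 h _ (mon_mem_of_le z hgt),
          (isDiffOpLE_iff_lin m E).1 hE _ (mon_mem_of_le z hgt), sub_zero]) ((1 : B) ⊗ₜ[A] c) (by
      show _ ∈ KaehlerDifferential.ideal A B ^ 0
      rw [Submodule.pow_zero (KaehlerDifferential.ideal A B), Ideal.one_eq_top]; trivial)
    rw [LinearMap.sub_apply, lin_tmul, lin_tmul, one_mul, one_mul, sub_eq_zero] at hzero
    exact hzero
  let a : {p : σ → ℕ // ∑ i, p i ≤ m} →₀ B := Finsupp.equivFunOnFinite.symm fun p => lin D (mon A z p.1)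
  refine ⟨a, hext _ ?_ fun q hq => ?_, fun a' ha' => ?_⟩
  · rw [Finsupp.sum_fintype a (fun p c => c • Dp p.1) fun p => zero_smul _ _]
    exact Groth.DiffOps.sum_mem m _ _ fun p _ =>
      Groth.DiffOps.smul_mem m _ (Groth.DiffOps.mono p.2 (order_le z hz Dp hD hDz p.1))
  · rw [hval, dif_pos hq]; rfl
  · ext p
    have h1 := hval a' p.1
    rw [← ha', dif_pos p.2] at h1
    exact h1.symm.trans rfl

end dualToSmooth

end Groth.PP
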