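import Groth.Agent.PP.Functorial
import Groth.Agent.PP.DividedPowers
import Mathlib.RingTheory.Kaehler.TensorProduct
import Mathlib.RingTheory.Flat.FaithfullyFlat.Basic
import Mathlib.RingTheory.Flat.FaithfullyFlat.Algebra
import Mathlib.RingTheory.Flat.EquationalCriterion
import Mathlib.RingTheory.Finiteness.Descent
import Mathlib.RingTheory.TensorProduct.MvPolynomial

/-!
Differential smoothness under base change and faithfully flat descent.
-/

set_option autoImplicit false
set_option linter.style.haveILetI false

universe u

open scoped TensorProduct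

namespace Groth.PP

section symmetricPower

variable {B : Type u} [CommRing B] {N : Type u} [AddCommGroup N] [Module B N] {ι : Type u} [Fintype ι]

/-- Symmetric powers are spanned by words in a generating family. -/
lemma span_tprod_of_span {κ : Type*} (v : κ → N) (hv : Submodule.span B (Set.range v) = ⊤) :
    Submodule.span B (Set.range fun g : ι → κ => SymmetricPower.tprod B fun i => v (g i)) = ⊤ := by
  classical
  rw [eq_top_iff, ← SymmetricPower.span_tprod_eq_top, Submodule.span_le]
  rintro _ ⟨x, rfl⟩
  have hx : ∀ i, ∃ c : κ →₀ B, (c.sum fun j r => r • v j) = x i := fun i =>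
    Finsupp.mem_span_range_iff_exists_finsupp.1 (by rw [hv]; trivial)
  choose c hc using hx
  rw [show x = fun i => ∑ j ∈ (c i).support, c i j • v j from funext fun i => (hc i).symm,
    MultilinearMap.map_sum_finset, SetLike.mem_coe]
  refine sum_mem fun g _ => ?_
  rw [MultilinearMap.map_smul_univ]
  exact Submodule.smul_mem _ _ (Submodule.subset_span ⟨g, rfl⟩)

/-- A section of `N` gives a retraction of the products of linear forms. -/
theorem exists_theta_split (s : N →ₗ[B] (N →₀ B)) (hs : Finsupp.linearCombination B id ∘ₗ s = LinearMap.id) :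
    ∃ (θ : SymmetricPower B ι N →ₗ[B] MvPolynomial N B) (χ : MvPolynomial N B →ₗ[B] SymmetricPower B ι N),
      (∀ x, θ (SymmetricPower.tprod B x) = ∏ i, Groth.Ega41SymGr.lin s (x i)) ∧ χ ∘ₗ θ = LinearMap.id := by
  classical
  let θ : SymmetricPower B ι N →ₗ[B] MvPolynomial N B :=
    Groth.Ega41SymGr.symLift ((MultilinearMap.mkPiAlgebra B ι (MvPolynomial N B)).compLinearMap fun _ => Groth.Ega41SymGr.lin s)
      (fun e f => by simpa using Equiv.prod_comp e fun i => Groth.Ega41SymGr.lin s (f i))
  have hθ : ∀ x, θ (SymmetricPower.tprod B x) = ∏ i, Groth.Ega41SymGr.lin s (x i) :=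
    fun x => (Groth.Ega41SymGr.symLift_tprod _ _ x).trans (by simp)
  let pick : (N →₀ ℕ) → SymmetricPower B ι N := fun d =>
    if h : d.degree = Fintype.card ι then SymmetricPower.tprod B (Groth.Ega41SymGr.exists_sum_single_eq d h).choose else 0
  let χ : MvPolynomial N B →ₗ[B] SymmetricPower B ι N := (MvPolynomial.basisMonomials N B).constr B pick
  have hχ : ∀ g : ι → N, χ (∏ i, MvPolynomial.X (g i)) = SymmetricPower.tprod B g := by
    intro g
    have hd : (∑ i, Finsupp.single (g i) (1 : ℕ)).degree = Fintype.card ι := by simp [map_sum]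
    rw [show (∏ i, MvPolynomial.X (g i) : MvPolynomial N B) =
      MvPolynomial.basisMonomials N B (∑ i, Finsupp.single (g i) 1) by
        simp only [MvPolynomial.coe_basisMonomials]; rw [MvPolynomial.monomial_sum_one]; rfl,
      Module.Basis.constr_basis]
    simp only [pick, dif_pos hd]
    exact Groth.Ega41SymGr.tprod_eq_of_count_eq id (Groth.Ega41SymGr.exists_sum_single_eq _ hd).choose_spec
  refine ⟨θ, χ, hθ, Groth.Ega41SymGr.symPower_ext fun x => ?_⟩
  rw [LinearMap.comp_apply, hθ, LinearMap.id_apply]
  simp only [Groth.Ega41SymGr.lin, LinearMap.comp_apply, Finsupp.linearCombination_apply, Finsupp.sum]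
  rw [Finset.prod_univ_sum, map_sum]
  conv_rhs => rw [show x = fun i => ∑ y ∈ (s (x i)).support, s (x i) y • y from funext fun i => by
      conv_lhs => rw [← LinearMap.id_apply (R := B) (x i), ← hs, LinearMap.comp_apply,
        Finsupp.linearCombination_apply, Finsupp.sum]
      rfl,
    MultilinearMap.map_sum_finset]
  refine Finset.sum_congr rfl fun g _ => ?_
  rw [MultilinearMap.map_smul_univ, ← hχ, Finset.prod_smul, map_smul]

theorem projective_symPower [Module.Projective B N] : Module.Projective B (SymmetricPower B ι N) := by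
  obtain ⟨s, hs⟩ := Module.projective_def'.mp (inferInstance : Module.Projective B N)
  obtain ⟨θ, χ, -, h⟩ := exists_theta_split (ι := ι) s hs
  exact Module.Projective.of_split θ χ h

end symmetricPower

section sequence

variable (A B : Type u) [CommRing A] [CommRing B] [Algebra A B]

/-- The inclusion of a graded piece in the principal parts of the same order. -/
noncomputable def grIIncl (n : ℕ) : PP16.grI A B n →ₗ[B] PP16.P n A B :=
  Submodule.liftQ _ ((Ideal.Quotient.mkₐ B (KaehlerDifferential.ideal A B ^ (n + 1))).toLinearMap ∘ₗ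
      ((KaehlerDifferential.ideal A B ^ n).restrictScalars B).subtype)
    fun _ hx => LinearMap.mem_ker.2 (Ideal.Quotient.eq_zero_iff_mem.2 hx)

lemma grIIncl_mk (n : ℕ) (x : ↥((KaehlerDifferential.ideal A B ^ n).restrictScalars B)) :
    grIIncl A B n (Submodule.Quotient.mk x) = Ideal.Quotient.mk _ (x : B ⊗[A] B) := rfl

lemma grIIncl_injective (n : ℕ) : Function.Injective (grIIncl A B n) := by
  refine (injective_iff_map_eq_zero _).2 fun y hy => ?_
  obtain ⟨x, rfl⟩ := Submodule.Quotient.mk_surjective _ y
  rw [grIIncl_mk, Ideal.Quotient.eq_zero_iff_mem] at hy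
  exact (Submodule.Quotient.mk_eq_zero _).2 hy

/-- The truncation of principal parts. -/
noncomputable def trunc (n : ℕ) : PP16.P (n + 1) A B →ₗ[B] PP16.P n A B :=
  (Ideal.Quotient.factorₐ B (Ideal.pow_le_pow_right (I := KaehlerDifferential.ideal A B)
    (Nat.le_succ (n + 1)))).toLinearMap

lemma trunc_mk (n : ℕ) (x : B ⊗[A] B) :
    trunc A B n (Ideal.Quotient.mk _ x) = Ideal.Quotient.mk _ x := rfl

lemma trunc_surjective (n : ℕ) : Function.Surjective (trunc A B n) := fun y => by
  obtain ⟨x, rfl⟩ := Ideal.Quotient.mk_surjective y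
  exact ⟨Ideal.Quotient.mk _ x, rfl⟩

lemma exact_trunc (n : ℕ) : Function.Exact (grIIncl A B (n + 1)) (trunc A B n) := by
  intro y
  obtain ⟨x, rfl⟩ := Ideal.Quotient.mk_surjective y
  rw [trunc_mk, Ideal.Quotient.eq_zero_iff_mem]
  constructor
  · intro hx
    exact ⟨Submodule.Quotient.mk ⟨x, hx⟩, rfl⟩
  · rintro ⟨z, hz⟩
    obtain ⟨⟨w, hw⟩, rfl⟩ := Submodule.Quotient.mk_surjective _ z
    rw [grIIncl_mk, Ideal.Quotient.eq] at hz
    rw [← sub_sub_cancel w x]
    exact sub_mem hw (Ideal.pow_le_pow_right (Nat.le_succ (n + 1)) hz)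

lemma grIIncl_zero_surjective : Function.Surjective (grIIncl A B 0) := fun y => by
  obtain ⟨x, rfl⟩ := Ideal.Quotient.mk_surjective y
  refine ⟨Submodule.Quotient.mk ⟨x, ?_⟩, rfl⟩
  rw [Submodule.restrictScalars_mem, Submodule.pow_zero (KaehlerDifferential.ideal A B), Ideal.one_eq_top]
  trivial

variable {A B}

lemma projective_grI (h : PP16.IsDiffSmooth A B) (n : ℕ) : Module.Projective B (PP16.grI A B n) := by
  obtain ⟨ι, _, hι⟩ : ∃ (ι : Type u) (_ : Fintype ι), Fintype.card ι = n :=
    ⟨ULift (Fin n), inferInstance, by simp⟩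
  subst hι
  haveI := h.1
  obtain ⟨φ, -, hφ⟩ := h.2 ι
  haveI := projective_symPower (B := B) (N := KaehlerDifferential A B) (ι := ι)
  exact Module.Projective.of_equiv (LinearEquiv.ofBijective φ hφ)

lemma exists_retraction_and_projective (h : PP16.IsDiffSmooth A B) :
    ∀ n, Module.Projective B (PP16.P n A B) ∧
      ∃ r : PP16.P n A B →ₗ[B] PP16.grI A B n, r ∘ₗ grIIncl A B n = LinearMap.id := by
  intro n
  induction n with
  | zero =>
    let e := LinearEquiv.ofBijective (grIIncl A B 0) ⟨grIIncl_injective A B 0, grIIncl_zero_surjective A B⟩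
    haveI := projective_grI h 0
    exact ⟨Module.Projective.of_equiv e, e.symm.toLinearMap, LinearMap.ext e.symm_apply_apply⟩
  | succ n ih =>
    obtain ⟨hP, -⟩ := ih
    haveI := hP
    haveI := projective_grI h (n + 1)
    obtain ⟨σ, hσ⟩ := Module.projective_lifting_property (trunc A B n) LinearMap.id (trunc_surjective A B n)
    let q : PP16.P (n + 1) A B →ₗ[B] PP16.P (n + 1) A B := LinearMap.id - σ ∘ₗ trunc A B n
    have hq : ∀ y, q y ∈ LinearMap.range (grIIncl A B (n + 1)) := fun y => (exact_trunc A B n _).1 (by
      show trunc A B n (y - σ (trunc A B n y)) = 0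
      rw [map_sub, ← LinearMap.comp_apply (trunc A B n) σ, hσ, LinearMap.id_apply, sub_self])
    let e := LinearEquiv.ofInjective (grIIncl A B (n + 1)) (grIIncl_injective A B (n + 1))
    let r : PP16.P (n + 1) A B →ₗ[B] PP16.grI A B (n + 1) := e.symm.toLinearMap ∘ₗ q.codRestrict _ hq
    have hr : r ∘ₗ grIIncl A B (n + 1) = LinearMap.id := LinearMap.ext fun z => e.injective (by
      refine (e.apply_symm_apply _).trans (Subtype.ext ?_)
      show grIIncl A B (n + 1) z - σ (trunc A B n (grIIncl A B (n + 1) z)) = grIIncl A B (n + 1) z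
      rw [(exact_trunc A B n).apply_apply_eq_zero, map_zero, sub_zero])
    refine ⟨Module.Projective.of_split (r.prod (trunc A B n)) ((grIIncl A B (n + 1)).coprod σ)
      (LinearMap.ext fun y => ?_), r, hr⟩
    show grIIncl A B (n + 1) (r y) + σ (trunc A B n y) = y
    have : grIIncl A B (n + 1) (r y) = q y := congrArg Subtype.val (e.apply_symm_apply ⟨q y, hq y⟩)
    rw [this]
    exact sub_add_cancel _ _

end sequence

section baseChange

variable (A B A' B' : Type u) [CommRing A] [CommRing B] [Algebra A B]
  [CommRing A'] [CommRing B'] [Algebra A' B'] [Algebra A A'] [Algebra B B'] [Algebra A B']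
  [IsScalarTower A A' B'] [IsScalarTower A B B'] [Algebra.IsPushout A B A' B']

/-- The tensor comparison of differentials. -/
noncomputable def kaehlerEquiv :
    B' ⊗[B] KaehlerDifferential A B ≃ₗ[B'] KaehlerDifferential A' B' :=
  haveI : Algebra.IsPushout A A' B B' := Algebra.IsPushout.symm inferInstance
  KaehlerDifferential.tensorKaehlerEquiv A A' B B'

lemma kaehlerEquiv_tmul_D (b : B) (c : B') :
    kaehlerEquiv A B A' B' (c ⊗ₜ KaehlerDifferential.D A B b) =
      c • KaehlerDifferential.D A' B' (algebraMap B B' b) :=
  haveI : Algebra.IsPushout A A' B B' := Algebra.IsPushout.symm inferInstance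
  KaehlerDifferential.tensorKaehlerEquiv_tmul_D A A' B B' c b

include A in
lemma span_D_algebraMap :
    Submodule.span B' (Set.range fun b : B => KaehlerDifferential.D A' B' (algebraMap B B' b)) = ⊤ := by
  rw [eq_top_iff]
  intro y _
  obtain ⟨t, rfl⟩ := (kaehlerEquiv A B A' B').surjective y
  induction t using TensorProduct.induction_on with
  | zero => rw [map_zero]; exact zero_mem _
  | add x y hx hy => rw [map_add]; exact add_mem (hx trivial) (hy trivial)
  | tmul c w =>
    have hw : w ∈ Submodule.span B (Set.range (KaehlerDifferential.D A B)) := by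
      rw [KaehlerDifferential.span_range_derivation]; trivial
    induction hw using Submodule.span_induction generalizing c with
    | mem z hz =>
      obtain ⟨b, rfl⟩ := hz
      rw [kaehlerEquiv_tmul_D]
      exact Submodule.smul_mem _ _ (Submodule.subset_span ⟨b, rfl⟩)
    | zero => rw [TensorProduct.tmul_zero, map_zero]; exact zero_mem _
    | add x y _ _ hx hy => rw [TensorProduct.tmul_add, map_add]; exact add_mem (hx c trivial) (hy c trivial)
    | smul r x _ hx => rw [TensorProduct.tmul_smul, TensorProduct.smul_tmul']; exact hx _ trivial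

/-- The base change map on symmetric powers of differentials. -/
theorem exists_chi (ι : Type u) [Fintype ι] :
    ∃ χ : B' ⊗[B] SymmetricPower B ι (KaehlerDifferential A B) →ₗ[B']
        SymmetricPower B' ι (KaehlerDifferential A' B'),
      (∀ (c : B') (x : ι → KaehlerDifferential A B), χ (c ⊗ₜ SymmetricPower.tprod B x) =
        c • SymmetricPower.tprod B' fun i => kaehlerEquiv A B A' B' (1 ⊗ₜ x i)) ∧ Function.Surjective χ := by
  classical
  letI : Module B (SymmetricPower B' ι (KaehlerDifferential A' B')) := Module.compHom _ (algebraMap B B')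
  haveI : IsScalarTower B B' (SymmetricPower B' ι (KaehlerDifferential A' B')) :=
    IsScalarTower.of_algebraMap_smul fun _ _ => rfl
  let m : KaehlerDifferential A B → KaehlerDifferential A' B' := fun x => kaehlerEquiv A B A' B' (1 ⊗ₜ x)
  let g : MultilinearMap B (fun _ : ι => KaehlerDifferential A B)
      (SymmetricPower B' ι (KaehlerDifferential A' B')) :=
    { toFun := fun x => SymmetricPower.tprod B' fun i => m (x i)
      map_update_add' := fun {inst} x i a b => by
        cases Subsingleton.elim inst (Classical.decEq ι)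
        simp only [Function.apply_update (fun _ => m)]
        rw [show m (a + b) = m a + m b by simp only [m, TensorProduct.tmul_add, map_add],
          MultilinearMap.map_update_add]
      map_update_smul' := fun {inst} x i c a => by
        cases Subsingleton.elim inst (Classical.decEq ι)
        simp only [Function.apply_update (fun _ => m)]
        rw [show m (c • a) = algebraMap B B' c • m a by
            simp only [m]
            rw [← map_smul, TensorProduct.smul_tmul', TensorProduct.tmul_smul, TensorProduct.smul_tmul',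
              Algebra.smul_def, smul_eq_mul],
          MultilinearMap.map_update_smul]
        rfl }
  let χ := (Groth.Ega41SymGr.symLift g fun e f => SymmetricPower.tprod_equiv e fun i => m (f i)).liftBaseChange B'
  have hχ : ∀ (c : B') (x : ι → KaehlerDifferential A B), χ (c ⊗ₜ SymmetricPower.tprod B x) =
      c • SymmetricPower.tprod B' fun i => m (x i) := fun c x => by
    rw [LinearMap.liftBaseChange_tmul, Groth.Ega41SymGr.symLift_tprod]
    rfl
  refine ⟨χ, hχ, LinearMap.range_eq_top.1 (eq_top_iff.2 ?_)⟩
  rw [← span_tprod_of_span (ι := ι) _ (span_D_algebraMap A B A' B'), Submodule.span_le]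
  rintro _ ⟨b, rfl⟩
  refine ⟨1 ⊗ₜ SymmetricPower.tprod B fun i => KaehlerDifferential.D A B (b i), ?_⟩
  rw [hχ, one_smul]
  congr 1
  funext i
  show kaehlerEquiv A B A' B' (1 ⊗ₜ KaehlerDifferential.D A B (b i)) = _
  rw [kaehlerEquiv_tmul_D, one_smul]

/-- Base change for principal parts as modules. -/
theorem exists_equiv_P (n : ℕ) :
    ∃ e : B' ⊗[B] PP16.P n A B ≃ₗ[B'] PP16.P n A' B',
      ∀ (c : B') (p : PP16.P n A B), e (c ⊗ₜ p) = c • PP16.map n A B A' B' p := by
  letI := PP16.mapAlgebra n A B A' B'
  haveI := PP16.isScalarTower_mapAlgebra n A B A' B'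
  haveI h := isPushout_map n A B A' B'
  have hb : IsBaseChange B' (IsScalarTower.toAlgHom B (PP16.P n A B) (PP16.P n A' B')).toLinearMap :=
    (Algebra.IsPushout.symm h).1
  exact ⟨hb.equiv, fun c p => hb.equiv_tmul c p⟩

/-- The comparison square between symmetric powers and principal parts. -/
theorem exists_square (ι : Type u) [Fintype ι]
    (φ : SymmetricPower B ι (KaehlerDifferential A B) →ₗ[B] PP16.grI A B (Fintype.card ι))
    (hφ : ∀ b : ι → B, φ (SymmetricPower.tprod B fun i => KaehlerDifferential.D A B (b i)) =
      PP16.zetaProd A B b)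
    (φ' : SymmetricPower B' ι (KaehlerDifferential A' B') →ₗ[B'] PP16.grI A' B' (Fintype.card ι))
    (hφ' : ∀ b : ι → B', φ' (SymmetricPower.tprod B' fun i => KaehlerDifferential.D A' B' (b i)) =
      PP16.zetaProd A' B' b) :
    ∃ (χ : B' ⊗[B] SymmetricPower B ι (KaehlerDifferential A B) →ₗ[B']
        SymmetricPower B' ι (KaehlerDifferential A' B'))
      (e : B' ⊗[B] PP16.P (Fintype.card ι) A B ≃ₗ[B'] PP16.P (Fintype.card ι) A' B'),
      (∀ (c : B') (x : ι → KaehlerDifferential A B), χ (c ⊗ₜ SymmetricPower.tprod B x) =
        c • SymmetricPower.tprod B' fun i => kaehlerEquiv A B A' B' (1 ⊗ₜ x i)) ∧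
      Function.Surjective χ ∧
      ∀ t, grIIncl A' B' (Fintype.card ι) (φ' (χ t)) = e ((grIIncl A B (Fintype.card ι) ∘ₗ φ).baseChange B' t) := by
  obtain ⟨χ, hχ, hχs⟩ := exists_chi A B A' B' ι
  obtain ⟨e, he⟩ := exists_equiv_P A B A' B' (Fintype.card ι)
  refine ⟨χ, e, hχ, hχs, fun t => ?_⟩
  induction t using TensorProduct.induction_on with
  | zero => simp only [map_zero]
  | add x y hx hy => simp only [map_add, hx, hy]
  | tmul c w =>
    have hw : w ∈ Submodule.span B (Set.range fun g : ι → B =>
        SymmetricPower.tprod B fun i => KaehlerDifferential.D A B (g i)) := by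
      rw [span_tprod_of_span _ (KaehlerDifferential.span_range_derivation A B)]; trivial
    induction hw using Submodule.span_induction generalizing c with
    | mem z hz =>
      obtain ⟨b, rfl⟩ := hz
      rw [hχ, LinearMap.baseChange_tmul, LinearMap.comp_apply, hφ, he, map_smul, map_smul]
      congr 1
      rw [show (fun i => kaehlerEquiv A B A' B' (1 ⊗ₜ KaehlerDifferential.D A B (b i))) =
          fun i => KaehlerDifferential.D A' B' (algebraMap B B' (b i)) from
        funext fun i => by rw [kaehlerEquiv_tmul_D, one_smul], hφ']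
      simp only [PP16.zetaProd, grIIncl_mk, map_prod]
      refine Finset.prod_congr rfl fun i _ => ?_
      rw [← del_eq_mk, ← del_eq_mk, map_del]
    | zero => simp only [TensorProduct.tmul_zero, map_zero]
    | add x y _ _ hx hy => simp only [TensorProduct.tmul_add, map_add, hx c, hy c]
    | smul r x _ hx => rw [TensorProduct.tmul_smul, TensorProduct.smul_tmul']; exact hx _

theorem isDiffSmooth_baseChange (h : PP16.IsDiffSmooth A B) : PP16.IsDiffSmooth A' B' := by
  haveI := h.1
  refine ⟨Module.Projective.of_equiv (kaehlerEquiv A B A' B'), fun ι _ => ?_⟩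
  rcases isEmpty_or_nonempty ι with hι | hι
  · exact exists_bijective_of_isEmpty A' B' ι
  obtain ⟨φ', hφ', hφs'⟩ := exists_hom_surjective (A := A') (B := B') ι
  obtain ⟨φ, hφ, hφb⟩ := h.2 ι
  obtain ⟨χ, e, -, hχs, hsq⟩ := exists_square A B A' B' ι φ hφ φ' hφ'
  refine ⟨φ', hφ', fun x y hxy => ?_, hφs'⟩
  obtain ⟨x, rfl⟩ := hχs x
  obtain ⟨y, rfl⟩ := hχs y
  obtain ⟨-, r, hr⟩ := exists_retraction_and_projective h (Fintype.card ι)
  have hinj : Function.Injective ((grIIncl A B (Fintype.card ι) ∘ₗ φ).baseChange B') := by
    refine Function.LeftInverse.injective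
      (g := ((LinearEquiv.ofBijective φ hφb).symm.toLinearMap ∘ₗ r).baseChange B') fun z => ?_
    rw [← LinearMap.comp_apply, ← LinearMap.baseChange_comp, LinearMap.comp_assoc,
      ← LinearMap.comp_assoc φ (grIIncl A B _) r, hr, LinearMap.id_comp,
      show (LinearEquiv.ofBijective φ hφb).symm.toLinearMap ∘ₗ φ = LinearMap.id from
        LinearMap.ext (LinearEquiv.ofBijective φ hφb).symm_apply_apply, LinearMap.baseChange_id,
      LinearMap.id_apply]
  have := congrArg (grIIncl A' B' (Fintype.card ι)) hxy
  rw [hsq, hsq] at this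
  rw [hinj (e.injective this)]

/-- Finite modules projective after faithfully flat base change are projective. -/
theorem projective_of_faithfullyFlat {R : Type u} [CommRing R] (S : Type u) [CommRing S] [Algebra R S]
    [Module.FaithfullyFlat R S] (M : Type u) [AddCommGroup M] [Module R M] [Module.Finite R M]
    [Module.Projective S (S ⊗[R] M)] : Module.Projective R M := by
  haveI : Module.Flat R M := Module.Flat.of_flat_tensorProduct _ _ S
  obtain ⟨k, f, hf⟩ := Module.Finite.exists_fin' R M
  haveI : Module.FinitePresentation S (S ⊗[R] M) := Module.finitePresentation_of_projective S _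
  have hg : Function.Surjective (f.baseChange S) := by
    rw [LinearMap.baseChange_eq_ltensor]
    exact LinearMap.lTensor_surjective S hf
  have hfg : (LinearMap.ker (f.baseChange S)).FG := Module.FinitePresentation.fg_ker _ hg
  let j : ↥(LinearMap.ker f) →ₗ[R] (Fin k → R) := (LinearMap.ker f).subtype
  have hinj : Function.Injective (j.baseChange S) := by
    rw [LinearMap.baseChange_eq_ltensor]
    exact Module.Flat.lTensor_preserves_injective_linearMap _ (LinearMap.ker f).injective_subtype
  have hker : LinearMap.range (j.baseChange S) = LinearMap.ker (f.baseChange S) := by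
    have hex : Function.Exact (j.lTensor S) (f.lTensor S) := lTensor_exact S (LinearMap.exact_subtype_ker_map f) hf
    refine SetLike.ext fun x => ?_
    rw [LinearMap.mem_range, LinearMap.mem_ker, LinearMap.baseChange_eq_ltensor, LinearMap.baseChange_eq_ltensor]
    exact (hex x).symm
  haveI : Module.Finite S ↥(LinearMap.range (j.baseChange S)) := Module.Finite.iff_fg.2 (hker ▸ hfg)
  haveI : Module.Finite S (S ⊗[R] ↥(LinearMap.ker f)) :=
    Module.Finite.equiv (LinearEquiv.ofInjective _ hinj).symm
  haveI : Module.Finite R ↥(LinearMap.ker f) := Module.Finite.of_finite_tensorProduct_of_faithfullyFlat S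
  haveI : Module.FinitePresentation R M :=
    Module.finitePresentation_of_surjective f hf (Module.Finite.iff_fg.1 inferInstance)
  exact Module.Flat.projective_of_finitePresentation

theorem isDiffSmooth_descent [Module.FaithfullyFlat A A'] (h : PP16.IsDiffSmooth A' B')
    (hfin : Module.Finite B' (KaehlerDifferential A' B')) :
    PP16.IsDiffSmooth A B ∧ Module.Finite B (KaehlerDifferential A B) := by
  haveI : Module.FaithfullyFlat B B' :=
    Module.FaithfullyFlat.of_linearEquiv B (B ⊗[A] A') (Algebra.IsPushout.equiv A B A' B').toLinearEquiv.symm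
  haveI := h.1
  haveI : Module.Projective B' (B' ⊗[B] KaehlerDifferential A B) :=
    Module.Projective.of_equiv (kaehlerEquiv A B A' B').symm
  haveI : Module.Finite B' (B' ⊗[B] KaehlerDifferential A B) :=
    Module.Finite.equiv (kaehlerEquiv A B A' B').symm
  haveI hfinB : Module.Finite B (KaehlerDifferential A B) :=
    Module.Finite.of_finite_tensorProduct_of_faithfullyFlat B'
  haveI hproj : Module.Projective B (KaehlerDifferential A B) := projective_of_faithfullyFlat B' _
  refine ⟨⟨hproj, fun ι _ => ?_⟩, hfinB⟩
  rcases isEmpty_or_nonempty ι with hι | hι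
  · exact exists_bijective_of_isEmpty A B ι
  obtain ⟨φ, hφ, hφs⟩ := exists_hom_surjective (A := A) (B := B) ι
  obtain ⟨φ', hφ', hφb'⟩ := h.2 ι
  obtain ⟨χ, e, hχ, -, hsq⟩ := exists_square A B A' B' ι φ hφ φ' hφ'
  refine ⟨φ, hφ, ?_, hφs⟩
  -- the base change map on symmetric powers is injective
  obtain ⟨s, hs⟩ := Module.projective_def'.mp hproj
  obtain ⟨θ, χ₀, hθ, hsplit⟩ := exists_theta_split (ι := ι) s hs
  have hθinj : Function.Injective θ :=
    Function.LeftInverse.injective fun x => LinearMap.congr_fun hsplit x
  let E := MvPolynomial.algebraTensorAlgEquiv (σ := KaehlerDifferential A B) B B'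
  let L : KaehlerDifferential A' B' →ₗ[B'] MvPolynomial (KaehlerDifferential A B) B' :=
    E.toLinearMap ∘ₗ (Groth.Ega41SymGr.lin s).baseChange B' ∘ₗ (kaehlerEquiv A B A' B').symm.toLinearMap
  let θ' : SymmetricPower B' ι (KaehlerDifferential A' B') →ₗ[B'] MvPolynomial (KaehlerDifferential A B) B' :=
    Groth.Ega41SymGr.symLift ((MultilinearMap.mkPiAlgebra B' ι _).compLinearMap fun _ => L)
      (fun e f => by simpa using Equiv.prod_comp e fun i => L (f i))
  have hχinj : Function.Injective χ := by
    have hb : Function.Injective (θ.baseChange B') := by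
      rw [LinearMap.baseChange_eq_ltensor]
      exact Module.Flat.lTensor_preserves_injective_linearMap _ hθinj
    have hcomp : ∀ t, θ' (χ t) = E (θ.baseChange B' t) := fun t => by
      induction t using TensorProduct.induction_on with
      | zero => simp only [map_zero]
      | add x y hx hy => simp only [map_add, hx, hy]
      | tmul c w =>
        induction (show w ∈ Submodule.span B (Set.range (SymmetricPower.tprod B (ι := ι)
            (M := KaehlerDifferential A B))) by
          rw [SymmetricPower.span_tprod_eq_top]; trivial) using Submodule.span_induction generalizing c with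
        | mem z hz =>
          obtain ⟨x, rfl⟩ := hz
          rw [hχ, map_smul, Groth.Ega41SymGr.symLift_tprod, LinearMap.baseChange_tmul, hθ,
            show c ⊗ₜ[B] (∏ i, Groth.Ega41SymGr.lin s (x i)) = c • (1 : B') ⊗ₜ[B] ∏ i, Groth.Ega41SymGr.lin s (x i) by
              rw [TensorProduct.smul_tmul', smul_eq_mul, mul_one],
            map_smul]
          congr 1
          simp only [MultilinearMap.compLinearMap_apply, MultilinearMap.mkPiAlgebra_apply, L,
            LinearMap.comp_apply, LinearEquiv.coe_coe, LinearEquiv.symm_apply_apply, LinearMap.baseChange_tmul]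
          exact ((map_prod (E.toAlgHom.toRingHom.comp
            (Algebra.TensorProduct.includeRight : MvPolynomial (KaehlerDifferential A B) B →ₐ[B]
              B' ⊗[B] MvPolynomial (KaehlerDifferential A B) B).toRingHom) _ _).symm)
        | zero => simp only [TensorProduct.tmul_zero, map_zero]
        | add x y _ _ hx hy => simp only [TensorProduct.tmul_add, map_add, hx c, hy c]
        | smul r x _ hx => rw [TensorProduct.tmul_smul, TensorProduct.smul_tmul']; exact hx _
    intro x y hxy
    exact hb (E.injective (by rw [← hcomp, ← hcomp, hxy]))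
  have hbc : Function.Injective (φ.baseChange B') := fun x y hxy => by
    refine hχinj (hφb'.1 (grIIncl_injective A' B' _ ?_))
    rw [hsq, hsq, LinearMap.baseChange_comp, LinearMap.comp_apply, LinearMap.comp_apply, hxy]
  rw [LinearMap.baseChange_eq_ltensor] at hbc
  exact (Module.FaithfullyFlat.lTensor_injective_iff_injective B B' φ).1 hbc

end baseChange

end Groth.PP
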