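import Groth.Prelude.Def_PP16
import Mathlib.RingTheory.IsTensorProduct
import Mathlib.LinearAlgebra.SymmetricAlgebra.Basic
import Mathlib.RingTheory.Finiteness.ModuleFinitePresentation
import Mathlib.RingTheory.Localization.Basic
import Mathlib.RingTheory.Localization.FractionRing
import Mathlib.RingTheory.MvPolynomial.Ideal

/-!
Principal parts: the universal property and its first consequences.
-/

set_option autoImplicit false
set_option linter.style.haveILetI false

universe u

open scoped TensorProduct

namespace Groth.PP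

section universal

variable {n : ℕ} {A B : Type u} [CommRing A] [CommRing B] [Algebra A B]

/-- `1 ⊗ b - b ⊗ 1` in the ring of principal parts. -/
noncomputable def del (n : ℕ) (A : Type u) {B : Type u} [CommRing A] [CommRing B] [Algebra A B] (b : B) :
    PP16.P n A B :=
  PP16.dn n A B b - algebraMap B (PP16.P n A B) b

lemma dn_eq_mk (b : B) : PP16.dn n A B b = Ideal.Quotient.mk _ ((1 : B) ⊗ₜ[A] b) := rfl

lemma algebraMap_eq_mk (b : B) :
    algebraMap B (PP16.P n A B) b = Ideal.Quotient.mk _ (b ⊗ₜ[A] (1 : B)) := rfl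

lemma smul_dn (b c : B) : b • PP16.dn n A B c = Ideal.Quotient.mk _ (b ⊗ₜ[A] c) := by
  rw [Algebra.smul_def, algebraMap_eq_mk, dn_eq_mk, ← map_mul, Algebra.TensorProduct.tmul_mul_tmul,
    mul_one, one_mul]

lemma del_eq_mk (b : B) :
    del n A b = Ideal.Quotient.mk _ ((1 : B) ⊗ₜ[A] b - b ⊗ₜ[A] (1 : B)) := by
  rw [map_sub]; rfl

lemma augIdeal_eq_span : PP16.augIdeal n A B = Ideal.span (Set.range (del n A (B := B))) := by
  refine (congrArg (Ideal.map _) (KaehlerDifferential.span_range_eq_ideal A B).symm).trans ?_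
  rw [Ideal.map_span, ← Set.range_comp]
  rfl

lemma augIdeal_pow_eq_bot : PP16.augIdeal n A B ^ (n + 1) = ⊥ := by
  rw [PP16.augIdeal, ← Ideal.map_pow, Ideal.map_quotient_self]

lemma prod_del_eq_zero (b : Fin (n + 1) → B) : ∏ i, del n A (b i) = 0 := by
  classical
  rw [← Ideal.mem_bot, ← augIdeal_pow_eq_bot (A := A) (B := B) (n := n)]
  suffices h : ∀ s : Finset (Fin (n + 1)), ∏ i ∈ s, del n A (b i) ∈ PP16.augIdeal n A B ^ s.card by
    simpa using h Finset.univ
  intro s
  induction s using Finset.induction_on with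
  | empty =>
    rw [Finset.card_empty, Submodule.pow_zero (PP16.augIdeal n A B), Ideal.one_eq_top]; trivial
  | insert a s ha ih =>
    rw [Finset.prod_insert ha, Finset.card_insert_of_notMem ha, pow_succ' (PP16.augIdeal n A B)]
    exact Ideal.mul_mem_mul
      ((augIdeal_eq_span (n := n) (A := A) (B := B)).ge (Ideal.subset_span ⟨_, rfl⟩)) ih

/-- The principal parts of the generators generate. -/
lemma span_range_dn : Submodule.span B (Set.range (PP16.dn n A B)) = ⊤ := by
  rw [eq_top_iff]
  intro x _
  obtain ⟨x, rfl⟩ := Ideal.Quotient.mk_surjective x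
  induction x using TensorProduct.induction_on with
  | zero => rw [map_zero]; exact zero_mem _
  | tmul b c => rw [← smul_dn]; exact Submodule.smul_mem _ _ (Submodule.subset_span ⟨c, rfl⟩)
  | add x y hx hy => rw [map_add]; exact add_mem (hx trivial) (hy trivial)

variable {C : Type*} [CommRing C] [Algebra A C]

/-- Ring maps out of the principal parts agree if they agree on both factors. -/
lemma ringHom_ext {R : Type*} [CommRing R] {φ ψ : PP16.P n A B →+* R}
    (h₁ : ∀ b, φ (algebraMap B _ b) = ψ (algebraMap B _ b))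
    (h₂ : ∀ b, φ (PP16.dn n A B b) = ψ (PP16.dn n A B b)) : φ = ψ := by
  refine RingHom.ext fun x => ?_
  have hx : x ∈ Submodule.span B (Set.range (PP16.dn n A B)) := by rw [span_range_dn]; trivial
  induction hx using Submodule.span_induction with
  | mem y hy => obtain ⟨b, rfl⟩ := hy; exact h₂ b
  | zero => rw [map_zero, map_zero]
  | add y z _ _ hy hz => rw [map_add, map_add, hy, hz]
  | smul b y _ hy => rw [Algebra.smul_def, map_mul, map_mul, h₁, hy]

variable [Algebra B C] [IsScalarTower A B C]

lemma algHom_ext {φ ψ : PP16.P n A B →ₐ[B] C} (h : ∀ b, φ (PP16.dn n A B b) = ψ (PP16.dn n A B b)) :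
    φ = ψ :=
  AlgHom.coe_ringHom_injective (ringHom_ext (fun b => (φ.commutes b).trans (ψ.commutes b).symm) h)

/-- Universal property: an `A`-algebra map congruent to the structure map modulo an ideal `J` with
`J ^ (n + 1) = ⊥` factors through the principal parts. -/
noncomputable def lift (g : B →ₐ[A] C) (J : Ideal C) (hJ : J ^ (n + 1) = ⊥)
    (hg : ∀ b, g b - algebraMap B C b ∈ J) : PP16.P n A B →ₐ[B] C :=
  Ideal.Quotient.liftₐ _
    (Algebra.TensorProduct.lift (Algebra.ofId B C) g fun _ _ => Commute.all _ _)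
    (by
      intro x hx
      have hle : (KaehlerDifferential.ideal A B).map
          (Algebra.TensorProduct.lift (Algebra.ofId B C) g fun _ _ => Commute.all _ _).toRingHom ≤ J := by
        rw [← KaehlerDifferential.span_range_eq_ideal, Ideal.map_span, Ideal.span_le]
        rintro _ ⟨_, ⟨b, rfl⟩, rfl⟩
        simpa using hg b
      have h := Ideal.pow_right_mono hle (n + 1)
      rw [← Ideal.map_pow, hJ, le_bot_iff] at h
      exact Ideal.mem_bot.1 (h ▸ Ideal.mem_map_of_mem _ hx))

@[simp] lemma lift_dn (g : B →ₐ[A] C) (J : Ideal C) (hJ : J ^ (n + 1) = ⊥)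
    (hg : ∀ b, g b - algebraMap B C b ∈ J) (b : B) : lift g J hJ hg (PP16.dn n A B b) = g b := by
  show Algebra.TensorProduct.lift (Algebra.ofId B C) g (fun _ _ => Commute.all _ _) ((1 : B) ⊗ₜ[A] b) = _
  simp

end universal

section functoriality

variable (n : ℕ) (A B A' B' : Type u) [CommRing A] [CommRing B] [Algebra A B]
  [CommRing A'] [CommRing B'] [Algebra A' B'] [Algebra A A'] [Algebra B B'] [Algebra A B']
  [IsScalarTower A A' B'] [IsScalarTower A B B']

lemma map_del (b : B) : PP16.map n A B A' B' (del n A b) = del n A' (algebraMap B B' b) := by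
  rw [del, map_sub, PP16.map_dn, PP16.map_algebraMap]; rfl

lemma map_augIdeal_le :
    (PP16.augIdeal n A B).map (PP16.map n A B A' B') ≤ PP16.augIdeal n A' B' := by
  rw [augIdeal_eq_span, Ideal.map_span, Ideal.span_le]
  rintro _ ⟨_, ⟨b, rfl⟩, rfl⟩
  rw [map_del, augIdeal_eq_span]
  exact Ideal.subset_span ⟨_, rfl⟩

end functoriality

end Groth.PP
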