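import Groth.Agent.PP.DividedPowers
import Mathlib.RingTheory.PowerSeries.Basic
import Mathlib.Algebra.TrivSqZeroExt.Basic

/-!
In characteristic zero, projective differentials imply differential smoothness.
-/

set_option autoImplicit false
set_option linter.style.haveILetI false

universe u

open scoped TensorProduct

namespace Groth.PP

section taylor

variable {A R : Type u} [CommRing A] [CommRing R] [Algebra A R] [Algebra ℚ R] (δ : Derivation A R R)

/-- `δ ^ k / k !`. -/
noncomputable def taylorTerm (k : ℕ) (x : R) : R := algebraMap ℚ R ((k.factorial : ℚ)⁻¹) * δ^[k] x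

lemma taylorTerm_zero (x : R) : taylorTerm δ 0 x = x := by simp [taylorTerm]

lemma derivation_algebraMap_rat (q : ℚ) : δ (algebraMap ℚ R q) = 0 := by
  have h : ((q.den : R)) * algebraMap ℚ R q = (q.num : R) := by
    rw [← map_natCast (algebraMap ℚ R), ← map_mul, mul_comm, Rat.mul_den_eq_num, map_intCast]
  have h1 := congrArg δ h
  rw [Derivation.map_intCast, Derivation.leibniz, Derivation.map_natCast, smul_zero, add_zero] at h1
  have hu : IsUnit (q.den : R) := by
    rw [← map_natCast (algebraMap ℚ R)]
    exact (IsUnit.mk0 _ (Nat.cast_ne_zero.2 q.den_nz)).map _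
  exact hu.smul_eq_zero.1 h1

lemma derivation_taylorTerm (k : ℕ) (x : R) :
    δ (taylorTerm δ k x) = (k + 1 : ℕ) * taylorTerm δ (k + 1) x := by
  rw [taylorTerm, taylorTerm, Derivation.leibniz, derivation_algebraMap_rat, smul_zero, add_zero,
    Function.iterate_succ_apply', smul_eq_mul, ← mul_assoc, ← map_natCast (algebraMap ℚ R), ← map_mul]
  congr 2
  rw [Nat.factorial_succ, Nat.cast_mul]
  field_simp

lemma taylorTerm_mul (x y : R) : ∀ m : ℕ, taylorTerm δ m (x * y) =
    ∑ p ∈ Finset.HasAntidiagonal.antidiagonal m, taylorTerm δ p.1 x * taylorTerm δ p.2 y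
  | 0 => by simp [taylorTerm_zero]
  | m + 1 => by
    have hu : IsUnit ((m + 1 : ℕ) : R) := by
      rw [← map_natCast (algebraMap ℚ R)]
      exact (IsUnit.mk0 _ (Nat.cast_ne_zero.2 m.succ_ne_zero)).map _
    refine hu.mul_left_cancel ?_
    have h1 := derivation_taylorTerm δ m (x * y)
    rw [taylorTerm_mul x y m] at h1
    rw [← h1, map_sum]
    simp only [Derivation.leibniz, derivation_taylorTerm, smul_eq_mul]
    have hR : ((m + 1 : ℕ) : R) * ∑ p ∈ Finset.HasAntidiagonal.antidiagonal (m + 1),
          taylorTerm δ p.1 x * taylorTerm δ p.2 y =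
        ∑ p ∈ Finset.HasAntidiagonal.antidiagonal (m + 1), ((p.1 : R) * (taylorTerm δ p.1 x * taylorTerm δ p.2 y) +
          (p.2 : R) * (taylorTerm δ p.1 x * taylorTerm δ p.2 y)) := by
      rw [Finset.mul_sum]
      refine Finset.sum_congr rfl fun p hp => ?_
      rw [← Finset.HasAntidiagonal.mem_antidiagonal.1 hp, Nat.cast_add, add_mul]
    rw [hR, Finset.sum_add_distrib, Finset.sum_add_distrib, Finset.Nat.sum_antidiagonal_succ,
      Finset.Nat.sum_antidiagonal_succ']
    simp only [Nat.cast_zero, zero_mul, zero_add]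
    rw [add_comm]
    congr 1 <;> exact Finset.sum_congr rfl fun p _ => by ring

/-- The Taylor series of a derivation, a ring homomorphism in characteristic zero. -/
noncomputable def taylor : R →+* PowerSeries R where
  toFun x := PowerSeries.mk fun k => taylorTerm δ k x
  map_one' := by
    ext k
    rw [PowerSeries.coeff_mk, PowerSeries.coeff_one]
    rcases k with - | k
    · simp [taylorTerm_zero]
    · rw [if_neg k.succ_ne_zero, taylorTerm, Function.iterate_succ_apply, Derivation.map_one_eq_zero,
        iterate_map_zero δ, mul_zero]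
  map_mul' x y := by
    ext m
    simp only [PowerSeries.coeff_mk, PowerSeries.coeff_mul, taylorTerm_mul]
  map_zero' := by
    ext k
    simp [taylorTerm, iterate_map_zero δ]
  map_add' x y := by
    ext k
    simp [taylorTerm, iterate_map_add δ, mul_add]

lemma coeff_taylor (k : ℕ) (x : R) : PowerSeries.coeff k (taylor δ x) = taylorTerm δ k x := by
  show PowerSeries.coeff k (PowerSeries.mk fun k => taylorTerm δ k x) = _
  rw [PowerSeries.coeff_mk]

lemma taylor_of_derivation_eq_zero (x : R) (h : δ x = 0) : taylor δ x = PowerSeries.C x := by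
  ext k
  rw [coeff_taylor, PowerSeries.coeff_C]
  rcases k with - | k
  · simp [taylorTerm_zero]
  · rw [if_neg k.succ_ne_zero, taylorTerm, Function.iterate_succ_apply, h, iterate_map_zero δ, mul_zero]

end taylor

section extend

variable {A B : Type u} [CommRing A] [CommRing B] [Algebra A B] {N : Type u}
  (d : Derivation A B (MvPolynomial N B))

/-- The ring map `p ↦ (p, δ p)`. -/
noncomputable def extendHom : MvPolynomial N B →+* TrivSqZeroExt (MvPolynomial N B) (MvPolynomial N B) :=
  MvPolynomial.eval₂Hom
    { toFun := fun b => TrivSqZeroExt.inl (MvPolynomial.C b) + TrivSqZeroExt.inr (d b)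
      map_one' := by ext <;> simp
      map_zero' := by ext <;> simp
      map_add' := fun a b => by ext <;> simp
      map_mul' := fun a b => by
        refine TrivSqZeroExt.ext ?_ ?_
        · simp
        · simp only [TrivSqZeroExt.snd_add, TrivSqZeroExt.snd_inl, TrivSqZeroExt.snd_inr, zero_add,
            TrivSqZeroExt.snd_mul, TrivSqZeroExt.fst_add, TrivSqZeroExt.fst_inl, TrivSqZeroExt.fst_inr, add_zero,
            op_smul_eq_smul, Derivation.leibniz, Algebra.smul_def, Algebra.algebraMap_self_apply,
            MvPolynomial.algebraMap_eq] }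
    fun y => TrivSqZeroExt.inl (MvPolynomial.X y)

lemma fst_extendHom (p : MvPolynomial N B) : (extendHom d p).fst = p := by
  induction p using MvPolynomial.induction_on with
  | C a => simp [extendHom]
  | add p q hp hq => simp [hp, hq]
  | mul_X p i hp => simp only [map_mul, TrivSqZeroExt.fst_mul, hp]; simp [extendHom]

lemma extendHom_algebraMap (a : A) :
    extendHom d (algebraMap A (MvPolynomial N B) a) = TrivSqZeroExt.inl (algebraMap A (MvPolynomial N B) a) := by
  rw [MvPolynomial.algebraMap_apply]
  ext <;> simp [extendHom]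

/-- The derivation extending `d`, constant on the indeterminates. -/
noncomputable def extendDer : Derivation A (MvPolynomial N B) (MvPolynomial N B) :=
  Derivation.mk'
    { toFun := fun p => (extendHom d p).snd
      map_add' := fun p q => by rw [map_add, TrivSqZeroExt.snd_add]
      map_smul' := fun a p => by
        rw [Algebra.smul_def, map_mul, extendHom_algebraMap, TrivSqZeroExt.snd_mul, TrivSqZeroExt.snd_inl,
          smul_zero, add_zero, TrivSqZeroExt.fst_inl, RingHom.id_apply, smul_eq_mul, ← Algebra.smul_def] }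
    fun p q => by
      show (extendHom d (p * q)).snd = p • (extendHom d q).snd + q • (extendHom d p).snd
      rw [map_mul, TrivSqZeroExt.snd_mul, fst_extendHom, fst_extendHom, op_smul_eq_smul]

lemma extendDer_C (b : B) : extendDer d (MvPolynomial.C b) = d b := by
  show (extendHom d (MvPolynomial.C b)).snd = _
  simp [extendHom]

end extend

section main

variable {A B : Type u} [CommRing A] [CommRing B] [Algebra A B]

/-- Symmetric powers of the differentials are spanned by symmetric products of exact ones. -/
lemma span_tprod_D (ι : Type u) [Fintype ι] :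
    Submodule.span B (Set.range fun b : ι → B =>
      SymmetricPower.tprod B fun i => KaehlerDifferential.D A B (b i)) = ⊤ := by
  classical
  rw [eq_top_iff, ← SymmetricPower.span_tprod_eq_top, Submodule.span_le]
  rintro _ ⟨x, rfl⟩
  have hx : ∀ i, ∃ c : B →₀ B, Finsupp.linearCombination B (KaehlerDifferential.D A B) c = x i := fun i =>
    Finsupp.mem_span_range_iff_exists_finsupp.1
      (by rw [KaehlerDifferential.span_range_derivation]; trivial) |>.imp fun c hc => by
        rw [Finsupp.linearCombination_apply, hc]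
  choose c hc using hx
  rw [show x = fun i => ∑ y ∈ (c i).support, c i y • KaehlerDifferential.D A B y from funext fun i => by
      rw [← hc i, Finsupp.linearCombination_apply, Finsupp.sum],
    MultilinearMap.map_sum_finset, SetLike.mem_coe]
  refine sum_mem fun g _ => ?_
  rw [MultilinearMap.map_smul_univ]
  exact Submodule.smul_mem _ _ (Submodule.subset_span ⟨g, rfl⟩)

lemma coeff_prod_eq {R : Type u} [CommRing R] {ι : Type u} [Fintype ι] (f : ι → PowerSeries R)
    (h : ∀ i, PowerSeries.constantCoeff (f i) = 0) :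
    PowerSeries.coeff (Fintype.card ι) (∏ i, f i) = ∏ i, PowerSeries.coeff 1 (f i) := by
  choose g hg using fun i => PowerSeries.X_dvd_iff.2 (h i)
  rw [Finset.prod_congr rfl fun i _ => hg i, Finset.prod_mul_distrib, Finset.prod_const, Finset.card_univ,
    Finset.prod_congr rfl (g := fun i => PowerSeries.constantCoeff (g i)) fun i _ => ?_]
  · rw [PowerSeries.coeff_X_pow_mul', if_pos le_rfl, Nat.sub_self, PowerSeries.coeff_zero_eq_constantCoeff_apply,
      map_prod]
  · rw [hg i, PowerSeries.coeff_succ_X_mul, PowerSeries.coeff_zero_eq_constantCoeff_apply]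

theorem isDiffSmooth_of_projective [Algebra ℚ B] [Module.Projective B (KaehlerDifferential A B)] :
    PP16.IsDiffSmooth A B := by
  refine ⟨inferInstance, fun ι _ => ?_⟩
  rcases isEmpty_or_nonempty ι with hι | hι
  · exact exists_bijective_of_isEmpty A B ι
  obtain ⟨φ, hφ, hφs⟩ := exists_hom_surjective (A := A) (B := B) ι
  refine ⟨φ, hφ, ?_, hφs⟩
  obtain ⟨s, hs⟩ := Module.projective_def'.mp (inferInstance : Module.Projective B (KaehlerDifferential A B))
  let L := Groth.Ega41SymGr.lin s
  let R := MvPolynomial (KaehlerDifferential A B) B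
  let δ : Derivation A R R := extendDer (L.compDer (KaehlerDifferential.D A B))
  let θ₀ : B →ₐ[A] PowerSeries R :=
    { (taylor δ).comp (MvPolynomial.C : B →+* R) with
      commutes' := fun a => by
        show taylor δ (MvPolynomial.C (algebraMap A B a)) = algebraMap A (PowerSeries R) a
        rw [taylor_of_derivation_eq_zero δ _ (by
          rw [extendDer_C]; exact (L.compDer (KaehlerDifferential.D A B)).map_algebraMap a)]
        rw [PowerSeries.algebraMap_apply, MvPolynomial.algebraMap_apply] }
  let θ₁ : B →ₐ[A] PowerSeries R := IsScalarTower.toAlgHom A B (PowerSeries R)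
  let E : B ⊗[A] B →ₐ[B] PowerSeries R :=
    Algebra.TensorProduct.lift (Algebra.ofId B _) θ₀ fun _ _ => Commute.all _ _
  let n := Fintype.card ι
  let Ψ₀ : B ⊗[A] B →ₗ[B] R := ((PowerSeries.coeff n).restrictScalars B) ∘ₗ E.toLinearMap
  have hEdel : ∀ b : B, PowerSeries.constantCoeff (E ((1 : B) ⊗ₜ[A] b - b ⊗ₜ[A] (1 : B))) = 0 ∧
      PowerSeries.coeff 1 (E ((1 : B) ⊗ₜ[A] b - b ⊗ₜ[A] (1 : B))) = L (KaehlerDifferential.D A B b) := fun b => by
    have e : E ((1 : B) ⊗ₜ[A] b - b ⊗ₜ[A] (1 : B)) = taylor δ (MvPolynomial.C b) - PowerSeries.C (MvPolynomial.C b) := by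
      rw [map_sub]
      simp [E, θ₀, R, PowerSeries.algebraMap_apply, MvPolynomial.algebraMap_eq]
    rw [e]
    refine ⟨?_, ?_⟩
    · rw [map_sub, ← PowerSeries.coeff_zero_eq_constantCoeff_apply, coeff_taylor, taylorTerm_zero,
        PowerSeries.constantCoeff_C, sub_self]
    · rw [map_sub, coeff_taylor, PowerSeries.coeff_C, if_neg one_ne_zero, sub_zero, taylorTerm]
      simp [δ]
      exact extendDer_C (L.compDer (KaehlerDifferential.D A B)) b
  have hkill : ∀ x ∈ KaehlerDifferential.ideal A B ^ (n + 1), Ψ₀ x = 0 := fun x hx => by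
    have hle : (KaehlerDifferential.ideal A B).map E.toRingHom ≤ Ideal.span {PowerSeries.X} := by
      rw [← KaehlerDifferential.span_range_eq_ideal, Ideal.map_span, Ideal.span_le]
      rintro _ ⟨_, ⟨b, rfl⟩, rfl⟩
      exact Ideal.mem_span_singleton.2 (PowerSeries.X_dvd_iff.2 (hEdel b).1)
    have h := ((Ideal.map_pow _ _ _).le.trans (Ideal.pow_right_mono hle (n + 1))) (Ideal.mem_map_of_mem E.toRingHom hx)
    rw [Ideal.span_singleton_pow, Ideal.mem_span_singleton] at h
    exact PowerSeries.X_pow_dvd_iff.1 h n (Nat.lt_succ_self n)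
  let Ψ : PP16.grI A B n →ₗ[B] R :=
    Submodule.liftQ _ (Ψ₀ ∘ₗ ((KaehlerDifferential.ideal A B ^ n).restrictScalars B).subtype)
      fun x hx => LinearMap.mem_ker.2 (hkill _ hx)
  obtain ⟨θ, hθ⟩ : ∃ θ : SymmetricPower B ι (KaehlerDifferential A B) →ₗ[B] R,
      ∀ x, θ (SymmetricPower.tprod B x) = ∏ i, L (x i) :=
    ⟨Groth.Ega41SymGr.symLift ((MultilinearMap.mkPiAlgebra B ι R).compLinearMap fun _ => L)
      (fun e f => by simpa using Equiv.prod_comp e fun i => L (f i)),
      fun x => (Groth.Ega41SymGr.symLift_tprod _ _ x).trans (by simp)⟩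
  have hθinj : Function.Injective θ :=
    Groth.Ega41SymGr.injective_of_split (C := B) Function.surjective_id s hs θ hθ
  have hcomp : Ψ ∘ₗ φ = θ := LinearMap.ext_on (span_tprod_D ι) (by
    rintro _ ⟨b, rfl⟩
    rw [LinearMap.comp_apply, hφ, hθ]
    show PowerSeries.coeff n (E (∏ i, ((1 : B) ⊗ₜ[A] b i - b i ⊗ₜ[A] (1 : B)))) = _
    rw [map_prod, coeff_prod_eq _ fun i => (hEdel (b i)).1]
    exact Finset.prod_congr rfl fun i _ => (hEdel (b i)).2)
  exact fun x y h => hθinj (by rw [← hcomp, LinearMap.comp_apply, LinearMap.comp_apply, h])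

end main

end Groth.PP
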