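import Groth.Agent.PP.Basic
import Groth.Agent.Ega41SymGr.Criterion
import Mathlib.RingTheory.Smooth.Basic

/-!
Differential smoothness and the symmetric algebra criterion for the kernel of multiplication.
-/

set_option autoImplicit false
set_option linter.style.haveILetI false

universe u

open scoped TensorProduct

namespace Groth.PP

section changeRing

variable {B C : Type u} [CommRing B] [CommRing C] [Algebra B C] (μ : C →+* B)
  (N : Type u) [AddCommGroup N] [Module B N] [Module C N] [IsScalarTower B C N]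

/-- Symmetric powers over an algebra acting through a retraction. -/
theorem exists_symPower_changeRing (hμ : ∀ b, μ (algebraMap B C b) = b)
    (hN : ∀ (c : C) (x : N), c • x = μ c • x) (ι : Type u) [Nonempty ι] :
    ∃ Φ : SymmetricPower B ι N →+ SymmetricPower C ι N,
      (∀ (b : B) t, Φ (b • t) = algebraMap B C b • Φ t) ∧
      (∀ x, Φ (SymmetricPower.tprod B x) = SymmetricPower.tprod C x) ∧ Function.Bijective Φ := by
  classical
  letI : Module B (SymmetricPower C ι N) := Module.compHom _ (algebraMap B C)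
  let g : MultilinearMap B (fun _ : ι => N) (SymmetricPower C ι N) :=
    { toFun := fun x => SymmetricPower.tprod C x
      map_update_add' := fun x i a b => MultilinearMap.map_update_add _ x i a b
      map_update_smul' := fun x i c a => by
        rw [← algebraMap_smul C c a, MultilinearMap.map_update_smul]; rfl }
  let Φ : SymmetricPower B ι N →ₗ[B] SymmetricPower C ι N :=
    Groth.Ega41SymGr.symLift g fun e f => SymmetricPower.tprod_equiv e f
  letI : Module C (SymmetricPower B ι N) := Module.compHom _ μ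
  let h : MultilinearMap C (fun _ : ι => N) (SymmetricPower B ι N) :=
    { toFun := fun x => SymmetricPower.tprod B x
      map_update_add' := fun x i a b => MultilinearMap.map_update_add _ x i a b
      map_update_smul' := fun x i c a => by
        rw [hN c a, MultilinearMap.map_update_smul]; rfl }
  let Ψ : SymmetricPower C ι N →ₗ[C] SymmetricPower B ι N :=
    Groth.Ega41SymGr.symLift h fun e f => SymmetricPower.tprod_equiv e f
  have hΦ : ∀ x, Φ (SymmetricPower.tprod B x) = SymmetricPower.tprod C x :=
    fun x => Groth.Ega41SymGr.symLift_tprod g _ x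
  have hΨ : ∀ x, Ψ (SymmetricPower.tprod C x) = SymmetricPower.tprod B x :=
    fun x => Groth.Ega41SymGr.symLift_tprod h _ x
  have hkill : ∀ (c : C) (y : SymmetricPower C ι N), algebraMap B C (μ c) • y = c • y := fun c y => by
    induction (show y ∈ Submodule.span C (Set.range (SymmetricPower.tprod C (ι := ι) (M := N))) by
      rw [SymmetricPower.span_tprod_eq_top]; trivial) using Submodule.span_induction with
    | mem z hz =>
      obtain ⟨x, rfl⟩ := hz
      obtain ⟨i⟩ := ‹Nonempty ι›
      rw [← Function.update_eq_self i x, ← MultilinearMap.map_update_smul, ← MultilinearMap.map_update_smul,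
        algebraMap_smul, ← hN]
    | zero => rw [smul_zero, smul_zero]
    | add y z _ _ hy hz => rw [smul_add, smul_add, hy, hz]
    | smul r z _ hz => rw [smul_comm, hz, smul_comm]
  refine ⟨Φ.toAddMonoidHom, fun b t => Φ.map_smul b t, hΦ,
    Function.bijective_iff_has_inverse.2 ⟨Ψ, fun t => ?_, fun t => ?_⟩⟩
  · show Ψ (Φ t) = t
    induction (show t ∈ Submodule.span B (Set.range (SymmetricPower.tprod B (ι := ι) (M := N))) by
      rw [SymmetricPower.span_tprod_eq_top]; trivial) using Submodule.span_induction with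
    | mem y hy => obtain ⟨x, rfl⟩ := hy; rw [hΦ, hΨ]
    | zero => rw [map_zero, map_zero]
    | add y z _ _ hy hz => rw [map_add, map_add, hy, hz]
    | smul b y _ hy =>
      rw [Φ.map_smul, show b • Φ y = algebraMap B C b • Φ y from rfl, Ψ.map_smul, hy]
      show μ (algebraMap B C b) • y = b • y
      rw [hμ]
  · show Φ (Ψ t) = t
    induction (show t ∈ Submodule.span C (Set.range (SymmetricPower.tprod C (ι := ι) (M := N))) by
      rw [SymmetricPower.span_tprod_eq_top]; trivial) using Submodule.span_induction with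
    | mem y hy => obtain ⟨x, rfl⟩ := hy; rw [hΨ, hΦ]
    | zero => rw [map_zero, map_zero]
    | add y z _ _ hy hz => rw [map_add, map_add, hy, hz]
    | smul c y hy' hy =>
      rw [Ψ.map_smul, show c • Ψ y = μ c • Ψ y from rfl, Φ.map_smul, hy]
      exact hkill c y

end changeRing

section criterion

variable (A B : Type u) [CommRing A] [CommRing B] [Algebra A B]

lemma smul_kaehler (c : B ⊗[A] B) (x : KaehlerDifferential A B) :
    c • x = (Algebra.TensorProduct.lmul' A (S := B)) c • x := by
  obtain ⟨y, rfl⟩ := Ideal.toCotangent_surjective (KaehlerDifferential.ideal A B) x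
  rw [← algebraMap_smul (B ⊗[A] B) ((Algebra.TensorProduct.lmul' A (S := B)) c), ← sub_eq_zero, ← sub_smul]
  refine Ideal.Cotangent.smul_eq_zero_of_mem ?_ _
  show (Algebra.TensorProduct.lmul' A (S := B))
    (c - algebraMap B (B ⊗[A] B) ((Algebra.TensorProduct.lmul' A (S := B)) c)) = 0
  rw [map_sub, Algebra.TensorProduct.algebraMap_apply, Algebra.algebraMap_self_apply,
    Algebra.TensorProduct.lmul'_apply_tmul, mul_one, sub_self]

lemma sub_lmul'_mem (x : B ⊗[A] B) :
    x - (Algebra.TensorProduct.lmul' A (S := B)) x ⊗ₜ[A] (1 : B) ∈ KaehlerDifferential.ideal A B := by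
  show (Algebra.TensorProduct.lmul' A (S := B)) (x - _) = 0
  rw [map_sub, Algebra.TensorProduct.lmul'_apply_tmul, mul_one, sub_self]

/-- The degree zero case. -/
lemma exists_bijective_of_isEmpty (ι : Type u) [Fintype ι] [IsEmpty ι] :
    ∃ φ : SymmetricPower B ι (KaehlerDifferential A B) →ₗ[B] PP16.grI A B (Fintype.card ι),
      (∀ b : ι → B, φ (SymmetricPower.tprod B (fun i => KaehlerDifferential.D A B (b i))) =
          PP16.zetaProd A B b) ∧ Function.Bijective φ := by
  classical
  have hcard : Fintype.card ι = 0 := Fintype.card_eq_zero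
  have hpow : KaehlerDifferential.ideal A B ^ (Fintype.card ι + 1) = KaehlerDifferential.ideal A B := by
    rw [hcard, zero_add, Submodule.pow_one]
  let φ : SymmetricPower B ι (KaehlerDifferential A B) →ₗ[B] PP16.grI A B (Fintype.card ι) :=
    Groth.Ega41SymGr.symLift (MultilinearMap.constOfIsEmpty B _ (PP16.zetaProd A B (isEmptyElim : ι → B)))
      fun _ _ => rfl
  have hφ : ∀ x, φ (SymmetricPower.tprod B x) = PP16.zetaProd A B (isEmptyElim : ι → B) :=
    fun x => Groth.Ega41SymGr.symLift_tprod _ _ x
  refine ⟨φ, fun b => (hφ _).trans (congrArg _ (Subsingleton.elim _ _)), ?_, ?_⟩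
  · refine (injective_iff_map_eq_zero φ).2 fun t ht => ?_
    let t₀ : SymmetricPower B ι (KaehlerDifferential A B) := SymmetricPower.tprod B isEmptyElim
    obtain ⟨r, rfl⟩ : ∃ r : B, r • t₀ = t := by
      refine Submodule.mem_span_singleton.1 ?_
      have : Set.range (SymmetricPower.tprod B (ι := ι) (M := KaehlerDifferential A B)) ⊆ {t₀} := by
        rintro _ ⟨x, rfl⟩
        exact congrArg _ (Subsingleton.elim _ _)
      exact Submodule.span_mono this (by rw [SymmetricPower.span_tprod_eq_top]; trivial)
    rw [φ.map_smul, hφ] at ht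
    have hmem := (Submodule.Quotient.mk_eq_zero _).1 ht
    have hmem : r • (∏ i : ι, ((1 : B) ⊗ₜ[A] (isEmptyElim i : B) - (isEmptyElim i : B) ⊗ₜ[A] (1 : B))) ∈
        KaehlerDifferential.ideal A B := by
      have h := Submodule.mem_comap.1 hmem
      rw [Submodule.restrictScalars_mem] at h
      exact hpow.le h
    rw [Finset.prod_of_isEmpty, Algebra.TensorProduct.one_def, TensorProduct.smul_tmul', smul_eq_mul,
      mul_one] at hmem
    have hr : (Algebra.TensorProduct.lmul' A (S := B)) (r ⊗ₜ[A] (1 : B)) = 0 := hmem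
    rw [Algebra.TensorProduct.lmul'_apply_tmul, mul_one] at hr
    rw [hr, zero_smul]
  · intro y
    obtain ⟨⟨x, hx⟩, rfl⟩ := Submodule.Quotient.mk_surjective _ y
    refine ⟨(Algebra.TensorProduct.lmul' A (S := B)) x • SymmetricPower.tprod B isEmptyElim, ?_⟩
    rw [φ.map_smul, hφ]
    refine (Submodule.Quotient.eq _).2 ?_
    rw [Submodule.mem_comap, Submodule.restrictScalars_mem]
    refine hpow.ge ?_
    rw [← Submodule.neg_mem_iff]
    show -((Algebra.TensorProduct.lmul' A (S := B)) x •
      (∏ i : ι, ((1 : B) ⊗ₜ[A] (isEmptyElim i : B) - (isEmptyElim i : B) ⊗ₜ[A] (1 : B))) - x) ∈ _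
    rw [Finset.prod_of_isEmpty, neg_sub, Algebra.TensorProduct.one_def, TensorProduct.smul_tmul',
      smul_eq_mul, mul_one]
    exact sub_lmul'_mem A B x

/-- The comparison of the two presentations of the graded pieces. -/
noncomputable def grToGrI (n : ℕ) :
    PP16.grJ (B ⊗[A] B) (KaehlerDifferential.ideal A B) n →+ PP16.grI A B n :=
  QuotientAddGroup.map _ _
    { toFun := fun x => ⟨x.1, x.2⟩
      map_zero' := rfl
      map_add' := fun _ _ => rfl }
    fun _ hx => hx

lemma grToGrI_mk (n : ℕ) (x : ↥(KaehlerDifferential.ideal A B ^ n)) :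
    grToGrI A B n (Submodule.Quotient.mk x) = Submodule.Quotient.mk ⟨x.1, x.2⟩ := rfl

lemma grToGrI_bijective (n : ℕ) : Function.Bijective (grToGrI A B n) := by
  constructor
  · refine (injective_iff_map_eq_zero _).2 fun x hx => ?_
    obtain ⟨x, rfl⟩ := Submodule.Quotient.mk_surjective _ x
    rw [grToGrI_mk, Submodule.Quotient.mk_eq_zero] at hx
    exact (Submodule.Quotient.mk_eq_zero _).2 hx
  · intro y
    obtain ⟨y, rfl⟩ := Submodule.Quotient.mk_surjective _ y
    exact ⟨Submodule.Quotient.mk ⟨y.1, y.2⟩, rfl⟩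

lemma grToGrI_smul (n : ℕ) (b : B) (x : PP16.grJ (B ⊗[A] B) (KaehlerDifferential.ideal A B) n) :
    grToGrI A B n (algebraMap B (B ⊗[A] B) b • x) = b • grToGrI A B n x := by
  obtain ⟨x, rfl⟩ := Submodule.Quotient.mk_surjective _ x
  rw [← Submodule.Quotient.mk_smul, grToGrI_mk, grToGrI_mk, ← Submodule.Quotient.mk_smul]
  refine congrArg _ (Subtype.ext ?_)
  show algebraMap B (B ⊗[A] B) b * (x : B ⊗[A] B) = b • (x : B ⊗[A] B)
  rw [Algebra.smul_def]

/-- The symmetric algebra criterion for the kernel of multiplication gives differential smoothness. -/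
theorem isDiffSmooth_of_symGrBijective [Module.Projective B (KaehlerDifferential A B)]
    (h : PP16.SymGrBijective (B ⊗[A] B) (KaehlerDifferential.ideal A B)) : PP16.IsDiffSmooth A B := by
  refine ⟨inferInstance, fun ι _ => ?_⟩
  rcases isEmpty_or_nonempty ι with hι | hι
  · exact exists_bijective_of_isEmpty A B ι
  obtain ⟨ψ, hψ, hψb⟩ : ∃ ψ : SymmetricPower (B ⊗[A] B) ι (KaehlerDifferential A B) →ₗ[B ⊗[A] B]
      PP16.grJ (B ⊗[A] B) (KaehlerDifferential.ideal A B) (Fintype.card ι),
      (∀ x : ι → ↥(KaehlerDifferential.ideal A B),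
        ψ (SymmetricPower.tprod (B ⊗[A] B) fun i => (KaehlerDifferential.ideal A B).toCotangent (x i)) =
          PP16.zetaJ (B ⊗[A] B) (KaehlerDifferential.ideal A B) x) ∧ Function.Bijective ψ := h ι
  obtain ⟨Φ, hΦs, hΦt, hΦb⟩ := exists_symPower_changeRing (Algebra.TensorProduct.lmul' A (S := B)).toRingHom
    (KaehlerDifferential A B) (fun b => by
      show (Algebra.TensorProduct.lmul' A (S := B)) (b ⊗ₜ[A] (1 : B)) = b
      rw [Algebra.TensorProduct.lmul'_apply_tmul, mul_one]) (fun c x => smul_kaehler A B c x) ι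
  let φ : SymmetricPower B ι (KaehlerDifferential A B) →ₗ[B] PP16.grI A B (Fintype.card ι) :=
    { toFun := fun t => grToGrI A B _ (ψ (Φ t))
      map_add' := fun s t => by rw [map_add, map_add, map_add]
      map_smul' := fun b t => by rw [hΦs, ψ.map_smul, grToGrI_smul]; rfl }
  refine ⟨φ, fun b => ?_, (grToGrI_bijective A B _).comp (hψb.comp hΦb)⟩
  show grToGrI A B _ (ψ (Φ (SymmetricPower.tprod B fun i => KaehlerDifferential.D A B (b i)))) = _
  rw [hΦt]
  refine (congrArg _ (hψ fun i => ⟨(1 : B) ⊗ₜ[A] b i - b i ⊗ₜ[A] (1 : B),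
    KaehlerDifferential.one_smul_sub_smul_one_mem_ideal A (b i)⟩)).trans ?_
  rfl

lemma isAdicFormallySmooth_of_formallySmooth {R S : Type u} [CommRing R] [CommRing S] [Algebra R S]
    [Algebra.FormallySmooth R S] (J : Ideal S) : CAlgX.IsAdicFormallySmooth R S J :=
  fun _ _ _ I hI ψ _ => ⟨Algebra.FormallySmooth.lift I ⟨2, hI⟩ ψ,
    AlgHom.ext fun x => Algebra.FormallySmooth.mk_lift I ⟨2, hI⟩ ψ x⟩

theorem isDiffSmooth_of_formallySmooth [Algebra.FormallySmooth A B] : PP16.IsDiffSmooth A B := by
  let f : (B ⊗[A] B) →ₐ[B] B :=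
    { (Algebra.TensorProduct.lmul' A (S := B)).toRingHom with
      commutes' := fun b => by
        show (Algebra.TensorProduct.lmul' A (S := B)) (b ⊗ₜ[A] (1 : B)) = b
        rw [Algebra.TensorProduct.lmul'_apply_tmul, mul_one] }
  have hf : Function.Surjective f := fun b => ⟨algebraMap B _ b, f.commutes b⟩
  haveI : Algebra.FormallySmooth B ((B ⊗[A] B) ⧸ KaehlerDifferential.ideal A B) :=
    Algebra.FormallySmooth.of_equiv (Ideal.quotientKerAlgEquivOfSurjective hf).symm
  exact isDiffSmooth_of_symGrBijective A B (Groth.Ega41SymGr.symGrBijective (A := B)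
    (KaehlerDifferential.ideal A B) (isAdicFormallySmooth_of_formallySmooth _))

end criterion

end Groth.PP
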