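import Groth.Agent.PP.DiffOp
import Groth.Agent.PP.SmoothDiff

/-!
Coordinates: elements `z i` whose differentials generate, the monomials in `1 ⊗ z i - z i ⊗ 1`, and
divided power operators.
-/

set_option autoImplicit false
set_option linter.style.haveILetI false

universe u

open scoped TensorProduct

namespace Groth.PP

variable {A B : Type u} [CommRing A] [CommRing B] [Algebra A B] {ι : Type} [Fintype ι] [DecidableEq ι]

/-- The monomial `∏ (1 ⊗ z i - z i ⊗ 1) ^ q i`. -/
noncomputable def mon (A : Type u) {B : Type u} [CommRing A] [CommRing B] [Algebra A B] {ι : Type} [Fintype ι]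
    (z : ι → B) (q : ι → ℕ) : B ⊗[A] B :=
  ∏ i, Groth.DiffOps.del A (z i) ^ q i

lemma prod_pow_add_single {R : Type*} [CommMonoid R] (x : ι → R) (q : ι → ℕ) (i : ι) :
    ∏ j, x j ^ (q + Pi.single i 1 : ι → ℕ) j = x i * ∏ j, x j ^ q j := by
  simp only [Pi.add_apply, pow_add, Finset.prod_mul_distrib]
  rw [mul_comm]
  congr 1
  rw [Finset.prod_eq_single i (fun j _ hj => by rw [Pi.single_eq_of_ne hj, pow_zero])
    (fun h => absurd (Finset.mem_univ i) h), Pi.single_eq_same, pow_one]

lemma sum_add_single (q : ι → ℕ) (i : ι) : ∑ j, (q + Pi.single i 1 : ι → ℕ) j = (∑ j, q j) + 1 := by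
  simp [Finset.sum_add_distrib, Finset.sum_pi_single']

lemma exists_eq_add_single {q : ι → ℕ} (hq : q ≠ 0) :
    ∃ (i : ι) (q' : ι → ℕ), q = q' + Pi.single i 1 := by
  obtain ⟨i, hi⟩ := Function.ne_iff.1 hq
  refine ⟨i, Function.update q i (q i - 1), funext fun j => ?_⟩
  rcases eq_or_ne j i with rfl | hj
  · simp only [Pi.add_apply, Function.update_self, Pi.single_eq_same]
    simp only [Pi.zero_apply] at hi
    omega
  · simp [hj]

section span

variable (z : ι → B)

variable (A) in
/-- The span of the monomials of degree `k`. -/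
noncomputable def monSpan (k : ℕ) : Submodule B (B ⊗[A] B) :=
  Submodule.span B (mon A z '' {q | ∑ i, q i = k})

variable (A B) in
/-- The powers of the kernel of multiplication, as submodules for the first factor. -/
noncomputable def powI (k : ℕ) : Submodule B (B ⊗[A] B) :=
  (KaehlerDifferential.ideal A B ^ k).restrictScalars B

omit [DecidableEq ι] in
lemma mon_zero : mon A z 0 = 1 := by simp [mon]

lemma mon_add_single (q : ι → ℕ) (i : ι) :
    mon A z (q + Pi.single i 1) = Groth.DiffOps.del A (z i) * mon A z q :=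
  prod_pow_add_single (fun j => Groth.DiffOps.del A (z j)) q i

omit [DecidableEq ι] in
lemma mon_mem (q : ι → ℕ) : mon A z q ∈ powI A B (∑ i, q i) := by
  classical
  suffices h : ∀ s : Finset ι, ∏ i ∈ s, Groth.DiffOps.del A (z i) ^ q i ∈
      KaehlerDifferential.ideal A B ^ (∑ i ∈ s, q i) from h Finset.univ
  intro s
  induction s using Finset.induction_on with
  | empty => rw [Finset.sum_empty, Submodule.pow_zero (KaehlerDifferential.ideal A B), Ideal.one_eq_top]; trivial
  | insert a s ha ih =>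
    rw [Finset.prod_insert ha, Finset.sum_insert ha, pow_add]
    exact Ideal.mul_mem_mul
      (Ideal.pow_mem_pow (KaehlerDifferential.one_smul_sub_smul_one_mem_ideal A (z a)) _) ih

omit [DecidableEq ι] in
lemma mon_mem_of_le {q : ι → ℕ} {k : ℕ} (h : k ≤ ∑ i, q i) : mon A z q ∈ powI A B k :=
  Ideal.pow_le_pow_right h (mon_mem z q)

variable (hz : Submodule.span B (Set.range fun i => KaehlerDifferential.D A B (z i)) = ⊤)

include hz in
lemma powI_one_le : powI A B 1 ≤ monSpan A z 1 ⊔ powI A B 2 := by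
  intro x hx
  have hx : x ∈ KaehlerDifferential.ideal A B :=
    (Submodule.pow_one (KaehlerDifferential.ideal A B)).le hx
  have ht : KaehlerDifferential.fromIdeal A B ⟨x, hx⟩ ∈
      Submodule.span B (Set.range fun i => KaehlerDifferential.D A B (z i)) := by rw [hz]; trivial
  obtain ⟨c, hc⟩ := (Submodule.mem_span_range_iff_exists_fun B).1 ht
  let d : ↥(KaehlerDifferential.ideal A B) := ∑ i, algebraMap B (B ⊗[A] B) (c i) •
    (⟨(1 : B) ⊗ₜ[A] z i - z i ⊗ₜ[A] (1 : B), KaehlerDifferential.one_smul_sub_smul_one_mem_ideal A (z i)⟩ :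
      ↥(KaehlerDifferential.ideal A B))
  have hd : KaehlerDifferential.fromIdeal A B ⟨x, hx⟩ = KaehlerDifferential.fromIdeal A B d := by
    rw [map_sum]
    refine hc.symm.trans (Finset.sum_congr rfl fun i _ => ?_)
    rw [map_smul, algebraMap_smul]
    rfl
  have hd' : x - (d : B ⊗[A] B) ∈ KaehlerDifferential.ideal A B ^ 2 :=
    (Ideal.toCotangent_eq (KaehlerDifferential.ideal A B)).1 hd
  refine Submodule.mem_sup.2 ⟨(d : B ⊗[A] B), ?_, x - d, hd', add_sub_cancel _ _⟩
  rw [Submodule.coe_sum]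
  refine sum_mem fun i _ => ?_
  show algebraMap B (B ⊗[A] B) (c i) * ((1 : B) ⊗ₜ[A] z i - z i ⊗ₜ[A] (1 : B)) ∈ monSpan A z 1
  rw [← Algebra.smul_def]
  refine Submodule.smul_mem _ _ (Submodule.subset_span ⟨0 + Pi.single i 1, ?_, ?_⟩)
  · show ∑ j, (0 + Pi.single i 1 : ι → ℕ) j = 1
    rw [sum_add_single]; simp
  · rw [mon_add_single, mon_zero, mul_one]; rfl

omit [DecidableEq ι] in
lemma monSpan_le_powI (k : ℕ) : monSpan A z k ≤ powI A B k := by
  rw [monSpan, Submodule.span_le]
  rintro _ ⟨q, hq, rfl⟩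
  exact mon_mem_of_le z (le_of_eq (Eq.symm hq))

omit [DecidableEq ι] in
lemma monSpan_mul_le (k l : ℕ) : monSpan A z k * monSpan A z l ≤ monSpan A z (k + l) := by
  rw [monSpan, monSpan, Submodule.span_mul_span, monSpan, Submodule.span_le]
  rintro _ ⟨_, ⟨q, hq, rfl⟩, _, ⟨r, hr, rfl⟩, rfl⟩
  refine Submodule.subset_span ⟨q + r, ?_, ?_⟩
  · show ∑ i, (q + r) i = k + l
    simp only [Pi.add_apply, Finset.sum_add_distrib]
    rw [show ∑ i, q i = k from hq, show ∑ i, r i = l from hr]
  · simp [mon, pow_add, Finset.prod_mul_distrib]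

lemma powI_mul_le (k l : ℕ) : powI A B k * powI A B l ≤ powI A B (k + l) :=
  Submodule.mul_le.2 fun a ha b hb => by
    show a * b ∈ KaehlerDifferential.ideal A B ^ (k + l)
    rw [pow_add]
    exact Ideal.mul_mem_mul ha hb

lemma powI_succ_le (k : ℕ) : powI A B (k + 1) ≤ powI A B 1 * powI A B k := by
  intro x hx
  have hx : x ∈ KaehlerDifferential.ideal A B ^ (1 + k) := by rw [add_comm]; exact hx
  rw [pow_add] at hx
  exact Submodule.mul_induction_on hx (fun a ha b hb => Submodule.mul_mem_mul ha hb)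
    fun a b ha hb => add_mem ha hb

include hz in
lemma powI_le : ∀ k, powI A B k ≤ monSpan A z k ⊔ powI A B (k + 1)
  | 0 => fun x _ => by
    refine Submodule.mem_sup.2 ⟨(Algebra.TensorProduct.lmul' A (S := B)) x ⊗ₜ[A] (1 : B), ?_, _, ?_,
      add_sub_cancel _ x⟩
    · have : (Algebra.TensorProduct.lmul' A (S := B)) x ⊗ₜ[A] (1 : B) =
          (Algebra.TensorProduct.lmul' A (S := B)) x • mon A z 0 := by
        rw [mon_zero, Algebra.TensorProduct.one_def, TensorProduct.smul_tmul', smul_eq_mul, mul_one]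
      rw [this]
      exact Submodule.smul_mem _ _ (Submodule.subset_span ⟨0, by simp, rfl⟩)
    · exact (Submodule.pow_one (KaehlerDifferential.ideal A B)).ge (sub_lmul'_mem A B x)
  | k + 1 => by
    refine (powI_succ_le k).trans ((mul_le_mul' (powI_one_le z hz) (powI_le k)).trans ?_)
    rw [Submodule.sup_mul, Submodule.mul_sup, Submodule.mul_sup]
    refine sup_le (sup_le ?_ ?_) (sup_le ?_ ?_)
    · exact ((monSpan_mul_le z 1 k).trans (by rw [add_comm])).trans le_sup_left
    · exact ((mul_le_mul' (monSpan_le_powI z 1) le_rfl).trans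
        ((powI_mul_le 1 (k + 1)).trans (by rw [add_comm]))).trans le_sup_right
    · exact ((mul_le_mul' le_rfl (monSpan_le_powI z k)).trans
        ((powI_mul_le 2 k).trans (by rw [show 2 + k = k + 1 + 1 by omega]))).trans le_sup_right
    · refine ((powI_mul_le 2 (k + 1)).trans ?_).trans le_sup_right
      exact fun x hx => Ideal.pow_le_pow_right (by omega) hx

include hz in
/-- Everything is a combination of monomials modulo a high power. -/
lemma powI_le_upto (k N : ℕ) :
    powI A B k ≤ Submodule.span B (mon A z '' {q | k ≤ ∑ i, q i ∧ ∑ i, q i < N}) ⊔ powI A B N := by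
  rcases le_or_gt N k with h | h
  · exact fun x hx => Submodule.mem_sup_right (Ideal.pow_le_pow_right h hx)
  obtain ⟨j, rfl⟩ : ∃ j, N = k + j := ⟨N - k, by omega⟩
  clear h
  induction j with
  | zero => exact le_sup_right
  | succ j ih =>
    refine ih.trans (sup_le ?_ ((powI_le z hz (k + j)).trans (sup_le_sup ?_ le_rfl)))
    · exact (Submodule.span_mono (Set.image_mono (fun q hq => ⟨hq.1, by have := hq.2; omega⟩ :
        {q : ι → ℕ | k ≤ ∑ i, q i ∧ ∑ i, q i < k + j} ⊆ {q | k ≤ ∑ i, q i ∧ ∑ i, q i < k + (j + 1)}))).trans le_sup_left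
    · refine Submodule.span_mono (Set.image_mono ?_)
      intro q hq
      have hq : ∑ i, q i = k + j := hq
      exact ⟨by omega, by omega⟩

include hz in
/-- A functional killing the monomials of degree `≥ k` and a high power kills `I ^ k`. -/
lemma eq_zero_of_mon (L : B ⊗[A] B →ₗ[B] B) {N : ℕ} (hN : ∀ x ∈ powI A B N, L x = 0) (k : ℕ)
    (hk : ∀ q : ι → ℕ, k ≤ ∑ i, q i → L (mon A z q) = 0) : ∀ x ∈ powI A B k, L x = 0 := by
  intro x hx
  refine (?_ : _ ≤ LinearMap.ker L) (powI_le_upto z hz k N hx)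
  refine sup_le ?_ fun y hy => LinearMap.mem_ker.2 (hN y hy)
  rw [Submodule.span_le]
  rintro _ ⟨q, hq, rfl⟩
  exact LinearMap.mem_ker.2 (hk q hq.1)

variable (A) in
/-- The classes of the monomials in the principal parts. -/
noncomputable def monP (m : ℕ) (q : ι → ℕ) : PP16.P m A B :=
  Ideal.Quotient.mk _ (mon A z q)

omit [DecidableEq ι] in
lemma monP_eq (m : ℕ) (q : ι → ℕ) :
    monP A z m q = ∏ i, (PP16.dn m A B (z i) - algebraMap B (PP16.P m A B) (z i)) ^ q i := by
  rw [monP, mon, map_prod]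
  refine Finset.prod_congr rfl fun i _ => ?_
  rw [map_pow, Groth.DiffOps.del, map_sub]
  rfl

include hz in
lemma span_monP_eq_top (m : ℕ) :
    Submodule.span B (Set.range fun q : {q : ι → ℕ // ∑ i, q i ≤ m} => monP A z m q.1) = ⊤ := by
  rw [eq_top_iff]
  intro p _
  obtain ⟨x, rfl⟩ := Ideal.Quotient.mk_surjective p
  obtain ⟨a, ha, b, hb, rfl⟩ := Submodule.mem_sup.1
    (powI_le_upto z hz 0 (m + 1) (show x ∈ powI A B 0 by
      show x ∈ KaehlerDifferential.ideal A B ^ 0
      rw [Submodule.pow_zero (KaehlerDifferential.ideal A B), Ideal.one_eq_top]; trivial))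
  rw [map_add, Ideal.Quotient.eq_zero_iff_mem.2 hb, add_zero]
  refine Submodule.span_induction (p := fun a _ => Ideal.Quotient.mk (KaehlerDifferential.ideal A B ^ (m + 1)) a ∈
    Submodule.span B (Set.range fun q : {q : ι → ℕ // ∑ i, q i ≤ m} => monP A z m q.1)) ?_ ?_ ?_ ?_ ha
  · rintro _ ⟨q, hq, rfl⟩
    exact Submodule.subset_span ⟨⟨q, by have := hq.2; omega⟩, rfl⟩
  · rw [map_zero]; exact zero_mem _
  · intro u v _ _ hu hv; rw [map_add]; exact add_mem hu hv
  · intro c u _ hu
    rw [show Ideal.Quotient.mk (KaehlerDifferential.ideal A B ^ (m + 1)) (c • u) = c • Ideal.Quotient.mk _ u from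
      map_smul (Ideal.Quotient.mkₐ B _) c u]
    exact Submodule.smul_mem _ _ hu

end span

section dual

variable (z : ι → B)

/-- `L` is dual to the monomial `p`. -/
def IsDual (L : B ⊗[A] B →ₗ[B] B) (p : ι → ℕ) : Prop :=
  ∀ q : ι → ℕ, L (mon A z q) = if p = q then 1 else 0

/-- `D` acts on monomials as the divided power operator `p`. -/
def IsDividedPower (D : B →ₗ[A] B) (p : ι → ℕ) : Prop :=
  ∀ q : ι → ℕ, D (∏ i, z i ^ q i) =
    ((∏ i, Nat.choose (q i) (p i) : ℕ) : B) * ∏ i, z i ^ (q i - p i)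

/-- The functional attached to an operator. -/
noncomputable def lin (D : B →ₗ[A] B) : B ⊗[A] B →ₗ[B] B where
  toFun x := bilinearize D x 1
  map_add' x y := by rw [map_add, LinearMap.add_apply]
  map_smul' b x := by rw [(bilinearize D).map_smul]; rfl

omit [Fintype ι] [DecidableEq ι] in
lemma lin_tmul (D : B →ₗ[A] B) (b c : B) : lin D (b ⊗ₜ[A] c) = b * D c := by
  show b • D (c • (1 : B)) = _
  rw [smul_eq_mul, smul_eq_mul, mul_one]

omit [Fintype ι] [DecidableEq ι] in
lemma lin_eq_linearize (D : B →ₗ[A] B) (x : B ⊗[A] B) :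
    lin D x = Diff16.linearize A B B B D x := by
  induction x using TensorProduct.induction_on with
  | zero => rw [map_zero, map_zero]
  | tmul b c => rw [lin_tmul, Groth.DiffOps.linearize_tmul, smul_eq_mul]
  | add x y hx hy => rw [map_add, map_add, hx, hy]

omit [Fintype ι] [DecidableEq ι] in
lemma isDiffOpLE_iff_lin (n : ℕ) (D : B →ₗ[A] B) :
    Diff16.IsDiffOpLE A B B B n D ↔ ∀ x ∈ powI A B (n + 1), lin D x = 0 := by
  rw [Groth.DiffOps.iff_linearize]
  simp only [lin_eq_linearize]
  rfl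

omit [Fintype ι] [DecidableEq ι] in
lemma lin_commutator (D : B →ₗ[A] B) (b : B) (x : B ⊗[A] B) :
    lin (Diff16.commutator A B B B D b) x = lin D (Groth.DiffOps.del A b * x) := by
  rw [lin_eq_linearize, lin_eq_linearize, Groth.DiffOps.linearize_commutator]

/-- The operator attached to a functional. -/
noncomputable def opFun (L : B ⊗[A] B →ₗ[B] B) : B →ₗ[A] B :=
  (L.restrictScalars A) ∘ₗ
    (Algebra.TensorProduct.includeRight : B →ₐ[A] B ⊗[A] B).toLinearMap

omit [Fintype ι] [DecidableEq ι] in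
lemma opFun_apply (L : B ⊗[A] B →ₗ[B] B) (c : B) : opFun L c = L ((1 : B) ⊗ₜ[A] c) := rfl

omit [Fintype ι] [DecidableEq ι] in
lemma lin_opFun (L : B ⊗[A] B →ₗ[B] B) : lin (opFun L) = L := by
  refine LinearMap.ext fun x => ?_
  induction x using TensorProduct.induction_on with
  | zero => rw [map_zero, map_zero]
  | tmul b c =>
    rw [lin_tmul, opFun_apply, ← smul_eq_mul, ← map_smul, TensorProduct.smul_tmul', smul_eq_mul, mul_one]
  | add x y hx hy => rw [map_add, map_add, hx, hy]

lemma zmon_add_single (q : ι → ℕ) (i : ι) :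
    ∏ j, z j ^ (q + Pi.single i 1 : ι → ℕ) j = z i * ∏ j, z j ^ q j :=
  prod_pow_add_single z q i

omit [Fintype ι] [DecidableEq ι] in
lemma pascal (w : B) (n k : ℕ) :
    ((n + 1).choose (k + 1) : B) * w ^ (n + 1 - (k + 1)) =
      w * ((n.choose (k + 1) : B) * w ^ (n - (k + 1))) + (n.choose k : B) * w ^ (n - k) := by
  rw [Nat.choose_succ_succ', Nat.cast_add, add_mul, Nat.add_sub_add_right, add_comm]
  congr 1
  rcases le_or_gt (k + 1) n with h | h
  · rw [show n - k = n - (k + 1) + 1 by omega, pow_succ]; ring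
  · rw [Nat.choose_eq_zero_of_lt h]; simp

/-- The value of a divided power operator. -/
noncomputable def dpVal (p q : ι → ℕ) : B :=
  ((∏ i, Nat.choose (q i) (p i) : ℕ) : B) * ∏ i, z i ^ (q i - p i)

omit [DecidableEq ι] in
lemma dpVal_eq (p q : ι → ℕ) : dpVal z p q = ∏ i, ((q i).choose (p i) : B) * z i ^ (q i - p i) := by
  rw [dpVal, Nat.cast_prod, Finset.prod_mul_distrib]

lemma dpVal_add_single_of_zero {p : ι → ℕ} (q : ι → ℕ) {i : ι} (hp : p i = 0) :
    dpVal z p (q + Pi.single i 1) = z i * dpVal z p q := by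
  rw [dpVal_eq, dpVal_eq, ← Finset.mul_prod_erase Finset.univ _ (Finset.mem_univ i),
    ← Finset.mul_prod_erase Finset.univ (fun j => ((q j).choose (p j) : B) * z j ^ (q j - p j)) (Finset.mem_univ i),
    ← mul_assoc (z i)]
  congr 1
  · simp [hp, pow_succ']
  · exact Finset.prod_congr rfl fun j hj => by simp [Finset.ne_of_mem_erase hj]

lemma dpVal_add_single (p q : ι → ℕ) (i : ι) :
    dpVal z (p + Pi.single i 1) (q + Pi.single i 1) =
      z i * dpVal z (p + Pi.single i 1) q + dpVal z p q := by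
  have split : ∀ f : ι → B, ∏ j, f j = f i * ∏ j ∈ Finset.univ.erase i, f j :=
    fun f => (Finset.mul_prod_erase _ f (Finset.mem_univ i)).symm
  rw [dpVal_eq, dpVal_eq, dpVal_eq, split, split, split]
  have hrest : ∀ j ∈ Finset.univ.erase i, (p + Pi.single i 1 : ι → ℕ) j = p j := fun j hj => by
    simp [Finset.ne_of_mem_erase hj]
  have h1 : ∏ j ∈ Finset.univ.erase i, (((q + Pi.single i 1 : ι → ℕ) j).choose ((p + Pi.single i 1 : ι → ℕ) j) : B) *
      z j ^ ((q + Pi.single i 1 : ι → ℕ) j - (p + Pi.single i 1 : ι → ℕ) j) =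
      ∏ j ∈ Finset.univ.erase i, ((q j).choose (p j) : B) * z j ^ (q j - p j) :=
    Finset.prod_congr rfl fun j hj => by simp [hrest j hj, Finset.ne_of_mem_erase hj]
  have h2 : ∏ j ∈ Finset.univ.erase i, ((q j).choose ((p + Pi.single i 1 : ι → ℕ) j) : B) *
      z j ^ (q j - (p + Pi.single i 1 : ι → ℕ) j) =
      ∏ j ∈ Finset.univ.erase i, ((q j).choose (p j) : B) * z j ^ (q j - p j) :=
    Finset.prod_congr rfl fun j hj => by rw [hrest j hj]
  rw [h1, h2, ← mul_assoc (z i), ← add_mul]
  congr 1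
  simpa using pascal (z i) (q i) (p i)

omit [DecidableEq ι] in
lemma dpVal_zero (p : ι → ℕ) [Decidable (p = 0)] : dpVal z p 0 = if p = 0 then (1 : B) else 0 := by
  rw [dpVal_eq]
  split_ifs with h
  · subst h; simp
  · obtain ⟨i, hi⟩ := Function.ne_iff.1 h
    refine Finset.prod_eq_zero (Finset.mem_univ i) ?_
    rw [Pi.zero_apply, Nat.choose_eq_zero_of_lt (Nat.pos_of_ne_zero (by simpa using hi)), Nat.cast_zero, zero_mul]

lemma add_single_ne_zero (q : ι → ℕ) (i : ι) : q + Pi.single i 1 ≠ 0 := fun h => by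
  have := congrFun h i
  simp at this

/-- An operator killing the monomials pairs to zero with them. -/
lemma lin_mon_eq_zero : ∀ (k : ℕ) (q : ι → ℕ), ∑ i, q i = k → ∀ D : B →ₗ[A] B,
    (∀ r : ι → ℕ, D (∏ i, z i ^ r i) = 0) → lin D (mon A z q) = 0 := by
  intro k
  induction k with
  | zero =>
    intro q hq D hD
    have : q = 0 := funext fun i => (Finset.sum_eq_zero_iff.1 hq) i (Finset.mem_univ i)
    subst this
    rw [mon_zero, Algebra.TensorProduct.one_def, lin_tmul, one_mul]
    simpa using hD 0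
  | succ k ih =>
    intro q hq D hD
    obtain ⟨i, q, rfl⟩ := exists_eq_add_single (q := q) (by rintro rfl; simp at hq)
    rw [sum_add_single] at hq
    rw [mon_add_single, ← lin_commutator]
    refine ih q (by omega) _ fun r => ?_
    rw [Groth.DiffOps.commutator_apply, smul_eq_mul, smul_eq_mul, ← zmon_add_single, hD, hD, mul_zero, sub_zero]

/-- A divided power operator pairs with the monomials as the dual basis. -/
lemma lin_mon_of_isDividedPower : ∀ (k : ℕ) (q : ι → ℕ), ∑ i, q i = k → ∀ (p : ι → ℕ) (D : B →ₗ[A] B),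
    IsDividedPower z D p → lin D (mon A z q) = if p = q then 1 else 0 := by
  intro k
  induction k with
  | zero =>
    intro q hq p D hD
    have : q = 0 := funext fun i => (Finset.sum_eq_zero_iff.1 hq) i (Finset.mem_univ i)
    subst this
    rw [mon_zero, Algebra.TensorProduct.one_def, lin_tmul, one_mul,
      show (1 : B) = ∏ i, z i ^ (0 : ι → ℕ) i by simp, hD 0]
    exact (dpVal_zero z p).trans (by simp)
  | succ k ih =>
    intro q hq p D hD
    obtain ⟨i, q, rfl⟩ := exists_eq_add_single (q := q) (by rintro rfl; simp at hq)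
    rw [sum_add_single] at hq
    rw [mon_add_single, ← lin_commutator]
    rcases Nat.eq_zero_or_pos (p i) with hp | hp
    · rw [lin_mon_eq_zero z k q (by omega) _ fun r => ?_, if_neg]
      · rintro rfl; simp at hp
      · rw [Groth.DiffOps.commutator_apply, smul_eq_mul, smul_eq_mul, ← zmon_add_single, hD, hD, sub_eq_zero]
        exact dpVal_add_single_of_zero z r hp
    · obtain ⟨p, rfl⟩ : ∃ p' : ι → ℕ, p = p' + Pi.single i 1 := by
        refine ⟨Function.update p i (p i - 1), funext fun j => ?_⟩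
        rcases eq_or_ne j i with rfl | hj
        · simp only [Pi.add_apply, Function.update_self, Pi.single_eq_same]; omega
        · simp [hj]
      rw [ih q (by omega) p _ fun r => ?_]
      · exact if_congr (add_left_inj (Pi.single i 1 : ι → ℕ)).symm rfl rfl
      · rw [Groth.DiffOps.commutator_apply, smul_eq_mul, smul_eq_mul, ← zmon_add_single, hD, hD, sub_eq_iff_eq_add']
        exact dpVal_add_single z p r i

/-- A functional dual to a monomial gives a divided power operator. -/
lemma isDividedPower_opFun : ∀ (k : ℕ) (q : ι → ℕ), ∑ i, q i = k → ∀ (L : B ⊗[A] B →ₗ[B] B),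
    ((∀ r, L (mon A z r) = 0) → L ((1 : B) ⊗ₜ[A] ∏ i, z i ^ q i) = 0) ∧
      ∀ p, IsDual z L p → L ((1 : B) ⊗ₜ[A] ∏ i, z i ^ q i) = dpVal z p q := by
  intro k
  induction k with
  | zero =>
    intro q hq L
    have : q = 0 := funext fun i => (Finset.sum_eq_zero_iff.1 hq) i (Finset.mem_univ i)
    subst this
    have h1 : ((1 : B) ⊗ₜ[A] ∏ i, z i ^ (0 : ι → ℕ) i) = mon A z 0 := by
      rw [mon_zero]; simp [Algebra.TensorProduct.one_def]
    refine ⟨fun h => by rw [h1, h], fun p hp => ?_⟩
    rw [h1, hp 0, dpVal_zero]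
  | succ k ih =>
    intro q hq L
    obtain ⟨i, q, rfl⟩ := exists_eq_add_single (q := q) (by rintro rfl; simp at hq)
    rw [sum_add_single] at hq
    let L' : B ⊗[A] B →ₗ[B] B := L ∘ₗ LinearMap.mulLeft B (Groth.DiffOps.del A (z i))
    have key : L ((1 : B) ⊗ₜ[A] ∏ j, z j ^ (q + Pi.single i 1 : ι → ℕ) j) =
        z i * L ((1 : B) ⊗ₜ[A] ∏ j, z j ^ q j) + L' ((1 : B) ⊗ₜ[A] ∏ j, z j ^ q j) := by
      rw [zmon_add_single]
      show _ = _ + L (Groth.DiffOps.del A (z i) * ((1 : B) ⊗ₜ[A] ∏ j, z j ^ q j))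
      rw [← smul_eq_mul (z i) (L _), ← map_smul, ← map_add, Groth.DiffOps.del, sub_mul,
        Algebra.TensorProduct.tmul_mul_tmul, Algebra.TensorProduct.tmul_mul_tmul, TensorProduct.smul_tmul',
        smul_eq_mul, mul_one, mul_one, one_mul, add_sub_cancel]
    have hL' : ∀ r, L' (mon A z r) = L (mon A z (r + Pi.single i 1)) := fun r => by
      rw [mon_add_single]; rfl
    obtain ⟨h0, hp0⟩ := ih q (by omega) L
    obtain ⟨h0', hp0'⟩ := ih q (by omega) L'
    refine ⟨fun h => by rw [key, h0 h, h0' fun r => by rw [hL', h], mul_zero, add_zero], fun p hp => ?_⟩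
    rw [key, hp0 p hp]
    rcases Nat.eq_zero_or_pos (p i) with hpi | hpi
    · rw [h0' fun r => by rw [hL', hp, if_neg]; rintro rfl; simp at hpi, add_zero]
      exact (dpVal_add_single_of_zero z q hpi).symm
    · obtain ⟨p, rfl⟩ : ∃ p' : ι → ℕ, p = p' + Pi.single i 1 := by
        refine ⟨Function.update p i (p i - 1), funext fun j => ?_⟩
        rcases eq_or_ne j i with rfl | hj
        · simp only [Pi.add_apply, Function.update_self, Pi.single_eq_same]; omega
        · simp [hj]
      rw [hp0' p fun r => by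
        rw [hL', hp]
        exact if_congr (add_left_inj (Pi.single i 1 : ι → ℕ)) rfl rfl]
      exact (dpVal_add_single z p q i).symm

end dual

section basis

variable (z : ι → B) (hz : Submodule.span B (Set.range fun i => KaehlerDifferential.D A B (z i)) = ⊤)

omit [Fintype ι] [DecidableEq ι] in
/-- A functional killing `I ^ (m + 1)` as a functional on the principal parts. -/
lemma exists_onP (L : B ⊗[A] B →ₗ[B] B) (m : ℕ) (hL : ∀ x ∈ powI A B (m + 1), L x = 0) :
    ∃ Lb : PP16.P m A B →ₗ[B] B, ∀ x, Lb (Ideal.Quotient.mk _ x) = L x :=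
  ⟨(Submodule.liftQ ((KaehlerDifferential.ideal A B ^ (m + 1)).restrictScalars B) L
      fun x hx => LinearMap.mem_ker.2 (hL x hx)) ∘ₗ
    (Submodule.Quotient.restrictScalarsEquiv B (KaehlerDifferential.ideal A B ^ (m + 1))).symm.toLinearMap,
    fun _ => rfl⟩

include hz in
/-- Dual functionals of finite order make the monomials a basis of the principal parts. -/
theorem exists_monBasis (L : (ι → ℕ) → (B ⊗[A] B →ₗ[B] B)) (hdual : ∀ p, IsDual z (L p) p)
    (hord : ∀ p, ∃ N, ∀ x ∈ powI A B N, L p x = 0) (m : ℕ) :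
    ∃ b : Module.Basis {q : ι → ℕ // ∑ i, q i ≤ m} B (PP16.P m A B), ∀ q, b q = monP A z m q.1 := by
  have hL : ∀ p : ι → ℕ, ∀ x ∈ powI A B (∑ i, p i + 1), L p x = 0 := fun p => by
    obtain ⟨N, hN⟩ := hord p
    refine eq_zero_of_mon z hz (L p) hN _ fun q hq => ?_
    rw [hdual p q, if_neg]
    rintro rfl
    omega
  have hind : LinearIndependent B fun q : {q : ι → ℕ // ∑ i, q i ≤ m} => monP A z m q.1 := by
    rw [linearIndependent_iff]
    intro l hl
    ext p
    obtain ⟨Lb, hLb⟩ := exists_onP (L p.1) m fun x hx =>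
      hL p.1 x (Ideal.pow_le_pow_right (by have := p.2; omega) hx)
    have hd : ∀ q, L p.1 (mon A z q) = if p.1 = q then (1 : B) else 0 := hdual p.1
    have h := congrArg Lb hl
    rw [map_zero, Finsupp.linearCombination_apply, map_finsuppSum] at h
    simp only [map_smul, monP, hLb, hd, smul_eq_mul, mul_ite, mul_one, mul_zero, Subtype.val_inj] at h
    rwa [Finsupp.sum_ite_eq l p fun _ c => c, ite_eq_left_iff.2] at h
    intro hp
    exact (Finsupp.notMem_support_iff.1 hp).symm
  exact ⟨Module.Basis.mk hind (span_monP_eq_top z hz m).ge, fun q => Module.Basis.mk_apply _ _ q⟩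

end basis

end Groth.PP
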