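import Groth.Agent.PP.QRDescent
import Groth.Agent.PP.CharZero
import Mathlib.RingTheory.EssentialFiniteness

/-!
Differential smoothness of algebras of finite type and quasi-regularity of the diagonal.
-/

set_option autoImplicit false
set_option linter.style.haveILetI false

universe u

open scoped TensorProduct

namespace Groth.PP

variable {A B : Type u} [CommRing A] [CommRing B] [Algebra A B]

/-- The canonical maps are bijective in the form used for ideals. -/
theorem symGrBijective_of_isDiffSmooth (h : PP16.IsDiffSmooth A B) :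
    PP16.SymGrBijective (B ⊗[A] B) (KaehlerDifferential.ideal A B) := by
  intro ι _ _
  obtain ⟨ψ, hψ, hψs⟩ : ∃ ψ : SymmetricPower (B ⊗[A] B) ι (KaehlerDifferential A B) →ₗ[B ⊗[A] B]
      PP16.grJ (B ⊗[A] B) (KaehlerDifferential.ideal A B) (Fintype.card ι),
      (∀ x : ι → ↥(KaehlerDifferential.ideal A B),
        ψ (SymmetricPower.tprod (B ⊗[A] B) fun i => (KaehlerDifferential.ideal A B).toCotangent (x i)) =
          PP16.zetaJ (B ⊗[A] B) (KaehlerDifferential.ideal A B) x) ∧ Function.Surjective ψ :=
    Groth.Ega41SymGr.exists_symPower_hom (KaehlerDifferential.ideal A B) ι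
  obtain ⟨Φ, hΦs, hΦt, hΦb⟩ := exists_symPower_changeRing (Algebra.TensorProduct.lmul' A (S := B)).toRingHom
    (KaehlerDifferential A B) (fun b => by
      show (Algebra.TensorProduct.lmul' A (S := B)) (b ⊗ₜ[A] (1 : B)) = b
      rw [Algebra.TensorProduct.lmul'_apply_tmul, mul_one]) (fun c x => smul_kaehler A B c x) ι
  obtain ⟨φ, hφ, hφb⟩ := h.2 ι
  let φ₁ : SymmetricPower B ι (KaehlerDifferential A B) →ₗ[B] PP16.grI A B (Fintype.card ι) :=
    { toFun := fun t => grToGrI A B _ (ψ (Φ t))
      map_add' := fun s t => by rw [map_add, map_add, map_add]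
      map_smul' := fun b t => by rw [hΦs, ψ.map_smul, grToGrI_smul]; rfl }
  have heq : φ₁ = φ := LinearMap.ext_on (span_tprod_D ι) (by
    rintro _ ⟨b, rfl⟩
    rw [hφ]
    show grToGrI A B _ (ψ (Φ (SymmetricPower.tprod B fun i => KaehlerDifferential.D A B (b i)))) = _
    rw [hΦt]
    exact (congrArg _ (hψ fun i => ⟨(1 : B) ⊗ₜ[A] b i - b i ⊗ₜ[A] (1 : B),
      KaehlerDifferential.one_smul_sub_smul_one_mem_ideal A (b i)⟩)).trans rfl)
  refine ⟨ψ, hψ, fun x y hxy => ?_, hψs⟩
  obtain ⟨s, rfl⟩ := hΦb.2 x
  obtain ⟨t, rfl⟩ := hΦb.2 y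
  exact congrArg Φ (hφb.1 (by rw [← heq]; exact congrArg (grToGrI A B _) hxy))

lemma lmul'_algebraMap (b : B) :
    (Algebra.TensorProduct.lmul' A (S := B)) (algebraMap B (B ⊗[A] B) b) = b := by
  show (Algebra.TensorProduct.lmul' A (S := B)) (b ⊗ₜ[A] (1 : B)) = b
  rw [Algebra.TensorProduct.lmul'_apply_tmul, mul_one]

variable {m : ℕ} (x : Fin m → B ⊗[A] B) (hx : Ideal.span (Set.range x) = KaehlerDifferential.ideal A B)

include hx

lemma mem_ideal_of_generators (i : Fin m) : x i ∈ KaehlerDifferential.ideal A B := by
  rw [← hx]; exact Ideal.subset_span ⟨i, rfl⟩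

/-- The presentation of the differentials by generators of the ideal of the diagonal. -/
noncomputable def presentation : (Fin m → B) →ₗ[B] KaehlerDifferential A B :=
  Fintype.linearCombination B fun i => KaehlerDifferential.fromIdeal A B ⟨x i, mem_ideal_of_generators x hx i⟩

lemma presentation_apply (b : Fin m → B) :
    presentation x hx b = ∑ i, b i • KaehlerDifferential.fromIdeal A B ⟨x i, mem_ideal_of_generators x hx i⟩ := by
  rw [presentation, Fintype.linearCombination_apply]

lemma fromIdeal_sum (a : Fin m → B ⊗[A] B) (h : ∑ i, a i * x i ∈ KaehlerDifferential.ideal A B) :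
    KaehlerDifferential.fromIdeal A B ⟨∑ i, a i * x i, h⟩ =
      presentation x hx fun i => (Algebra.TensorProduct.lmul' A (S := B)) (a i) := by
  rw [presentation_apply]
  simp only [← smul_kaehler, ← map_smul, ← map_sum]
  refine congrArg _ (Subtype.ext ?_)
  simp

lemma presentation_surjective : Function.Surjective (presentation x hx) := by
  intro y
  obtain ⟨⟨z, hz⟩, rfl⟩ := KaehlerDifferential.fromIdeal_surjective A B y
  obtain ⟨a, ha⟩ := Ideal.mem_span_range_iff_exists_fun.1 (show z ∈ Ideal.span (Set.range x) by rw [hx]; exact hz)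
  subst ha
  exact ⟨_, (fromIdeal_sum x hx a hz).symm⟩

lemma presentation_eq_zero_iff (a : Fin m → B ⊗[A] B) :
    presentation x hx (fun i => (Algebra.TensorProduct.lmul' A (S := B)) (a i)) = 0 ↔
      ∑ i, a i * x i ∈ KaehlerDifferential.ideal A B ^ 2 := by
  have h : ∑ i, a i * x i ∈ KaehlerDifferential.ideal A B :=
    sum_mem fun i _ => Ideal.mul_mem_left _ _ (mem_ideal_of_generators x hx i)
  rw [← fromIdeal_sum x hx a h]
  exact Ideal.toCotangent_eq_zero (KaehlerDifferential.ideal A B) ⟨_, h⟩

theorem split_of_projective [Module.Projective B (KaehlerDifferential A B)] :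
    QR.Split (KaehlerDifferential.ideal A B) x := by
  obtain ⟨s, hs⟩ := Module.projective_lifting_property (presentation x hx) LinearMap.id (presentation_surjective x hx)
  let xb : Fin m → KaehlerDifferential A B :=
    fun i => KaehlerDifferential.fromIdeal A B ⟨x i, mem_ideal_of_generators x hx i⟩
  refine ⟨fun i j => algebraMap B (B ⊗[A] B) (s (xb i) j), fun i => ?_, fun a ha j => ?_⟩
  · have hmem : ∑ j, algebraMap B (B ⊗[A] B) (s (xb i) j) * x j ∈ KaehlerDifferential.ideal A B :=
      sum_mem fun j _ => Ideal.mul_mem_left _ _ (mem_ideal_of_generators x hx j)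
    refine (Ideal.toCotangent_eq (KaehlerDifferential.ideal A B)
      (x := ⟨x i, mem_ideal_of_generators x hx i⟩) (y := ⟨_, hmem⟩)).1 ?_
    refine Eq.trans ?_ (fromIdeal_sum x hx _ hmem).symm
    simp only [lmul'_algebraMap]
    exact (LinearMap.congr_fun hs (xb i)).symm
  · show (Algebra.TensorProduct.lmul' A (S := B)) (∑ i, a i * algebraMap B (B ⊗[A] B) (s (xb i) j)) = 0
    rw [map_sum]
    simp only [map_mul, lmul'_algebraMap]
    have h0 := congrArg (fun w => s w j) ((presentation_eq_zero_iff x hx a).2 ha)
    simp only [presentation_apply, map_sum, map_smul, map_zero, Finset.sum_apply, Pi.smul_apply, smul_eq_mul,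
      Pi.zero_apply] at h0
    exact h0

theorem projective_of_split (h : QR.Split (KaehlerDifferential.ideal A B) x) :
    Module.Projective B (KaehlerDifferential A B) := by
  obtain ⟨E, h1, h2⟩ := h
  let μ := Algebra.TensorProduct.lmul' A (S := B)
  let T : (Fin m → B) →ₗ[B] (Fin m → B) := Fintype.linearCombination B fun i j => μ (E i j)
  have hker : LinearMap.ker (presentation x hx) ≤ LinearMap.ker T := fun b hb => by
    have hb' : b = fun i => μ (algebraMap B (B ⊗[A] B) (b i)) := funext fun i => (lmul'_algebraMap (b i)).symm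
    have hrel := (presentation_eq_zero_iff x hx fun i => algebraMap B (B ⊗[A] B) (b i)).1 (by
      rw [← hb']; exact hb)
    rw [LinearMap.mem_ker, Fintype.linearCombination_apply]
    funext j
    have : μ (∑ i, algebraMap B (B ⊗[A] B) (b i) * E i j) = 0 := h2 _ hrel j
    rw [map_sum] at this
    simp only [map_mul, μ, lmul'_algebraMap] at this
    simpa [Finset.sum_apply] using this
  let s : KaehlerDifferential A B →ₗ[B] (Fin m → B) :=
    (LinearMap.ker (presentation x hx)).liftQ T hker ∘ₗ
      ((presentation x hx).quotKerEquivOfSurjective (presentation_surjective x hx)).symm.toLinearMap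
  have hs : ∀ b, s (presentation x hx b) = T b := fun b => by
    show (LinearMap.ker (presentation x hx)).liftQ T hker
      (((presentation x hx).quotKerEquivOfSurjective (presentation_surjective x hx)).symm (presentation x hx b)) = T b
    rw [show ((presentation x hx).quotKerEquivOfSurjective (presentation_surjective x hx)).symm
      (presentation x hx b) = Submodule.Quotient.mk b from
        (LinearEquiv.symm_apply_eq _).2 rfl]
    rfl
  refine Module.Projective.of_split s (presentation x hx) (LinearMap.ext fun y => ?_)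
  obtain ⟨b, rfl⟩ := presentation_surjective x hx y
  rw [LinearMap.comp_apply, hs, LinearMap.id_apply, Fintype.linearCombination_apply, map_sum, presentation_apply]
  simp only [map_smul]
  refine Finset.sum_congr rfl fun i _ => congrArg (b i • ·) ?_
  have hmem : ∑ j, E i j * x j ∈ KaehlerDifferential.ideal A B :=
    sum_mem fun j _ => Ideal.mul_mem_left _ _ (mem_ideal_of_generators x hx j)
  refine (fromIdeal_sum x hx (E i) hmem).symm.trans ?_
  exact ((Ideal.toCotangent_eq (KaehlerDifferential.ideal A B)
    (x := ⟨x i, mem_ideal_of_generators x hx i⟩) (y := ⟨_, hmem⟩)).2 (h1 i)).symm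

omit hx in
theorem isDiffSmooth_iff_lqr [Algebra.FiniteType A B] :
    PP16.IsDiffSmooth A B ↔ PP16.IsLocallyQuasiRegular (B ⊗[A] B) (KaehlerDifferential.ideal A B) := by
  obtain ⟨m, x, hx⟩ := Submodule.fg_iff_exists_fin_generating_family.1 (KaehlerDifferential.ideal_fg A B)
  constructor
  · intro h
    haveI := h.1
    refine QR.lqr_descent (B := B ⊗[A] B) x hx ?_ ?_
    · simpa [Algebra.algebraMap_self, Ideal.map_id] using split_of_projective x hx
    · simpa [Algebra.algebraMap_self, Ideal.map_id] using symGrBijective_of_isDiffSmooth h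
  · intro h
    have hch := QR.charted_of_lqr h
    haveI := projective_of_split x hx (QR.split_of_charted hx hch)
    exact isDiffSmooth_of_symGrBijective A B (QR.symGrBijective_of_charted hch)

end Groth.PP
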