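import Groth.Agent.PP.Basic
import Groth.Agent.DiffOps.Basic

/-!
Differential operators are linear maps out of principal parts.
-/

set_option autoImplicit false
set_option linter.style.haveILetI false

universe u

open scoped TensorProduct

namespace Groth.PP

variable {A B : Type u} [CommRing A] [CommRing B] [Algebra A B]
  {M N : Type u} [AddCommGroup M] [Module A M] [Module B M] [IsScalarTower A B M]
  [AddCommGroup N] [Module A N] [Module B N] [IsScalarTower A B N]

/-- `b ⊗ c ↦ b • D (c • ·)`. -/
noncomputable def bilinearize (D : M →ₗ[A] N) : B ⊗[A] B →ₗ[B] (M →ₗ[A] N) :=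
  TensorProduct.AlgebraTensorModule.lift
    { toFun := fun b =>
        { toFun := fun c => b • (D ∘ₗ Groth.DiffOps.mulMap A M c)
          map_add' := fun c c' => by ext m; simp [add_smul, smul_add]
          map_smul' := fun a c => by
            ext m
            simp only [LinearMap.smul_apply, LinearMap.comp_apply, Groth.DiffOps.mulMap_apply,
              RingHom.id_apply, smul_assoc, map_smul]
            rw [smul_comm] }
      map_add' := fun b b' => by ext c m; simp [add_smul]
      map_smul' := fun r b => by ext c m; simp [mul_smul] }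

@[simp] lemma bilinearize_tmul (D : M →ₗ[A] N) (b c : B) (m : M) :
    bilinearize D (b ⊗ₜ[A] c) m = b • D (c • m) := rfl

lemma bilinearize_mul_one_tmul (D : M →ₗ[A] N) (x : B ⊗[A] B) (b : B) (m : M) :
    bilinearize D (x * ((1 : B) ⊗ₜ[A] b)) m = bilinearize D x (b • m) := by
  induction x using TensorProduct.induction_on with
  | zero => simp
  | tmul c c' => rw [Algebra.TensorProduct.tmul_mul_tmul, mul_one, bilinearize_tmul, bilinearize_tmul, mul_smul]
  | add x y hx hy => simp [add_mul, hx, hy]

lemma bilinearize_mul_del (D : M →ₗ[A] N) (x : B ⊗[A] B) (b : B) :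
    bilinearize D (x * Groth.DiffOps.del A b) = Diff16.commutator A B M N (bilinearize D x) b := by
  refine LinearMap.ext fun m => ?_
  rw [Groth.DiffOps.del, mul_sub, map_sub, LinearMap.sub_apply, bilinearize_mul_one_tmul,
    Groth.DiffOps.commutator_apply, show x * (b ⊗ₜ[A] (1 : B)) = b • x by
      rw [Algebra.smul_def, mul_comm]; rfl, (bilinearize D).map_smul, LinearMap.smul_apply]

lemma isDiffOpLE_bilinearize {D : M →ₗ[A] N} {n : ℕ} (h : Diff16.IsDiffOpLE A B M N n D)
    (x : B ⊗[A] B) : Diff16.IsDiffOpLE A B M N n (bilinearize D x) := by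
  induction x using TensorProduct.induction_on with
  | zero => rw [map_zero]; exact Groth.DiffOps.zero_mem n
  | tmul b c =>
    have : bilinearize D (b ⊗ₜ[A] c) = b • (D ∘ₗ (LinearMap.lsmul B M c).restrictScalars A) := rfl
    rw [this]
    exact Groth.DiffOps.smul_mem n b (Groth.DiffOps.comp_linearMap n _ h)
  | add x y hx hy => rw [map_add]; exact Groth.DiffOps.add_mem n hx hy

lemma isDiffOpLE_bilinearize_mul {D : M →ₗ[A] N} {j : ℕ} {x : B ⊗[A] B}
    (h : Diff16.IsDiffOpLE A B M N j (bilinearize D x)) (r : B ⊗[A] B) :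
    Diff16.IsDiffOpLE A B M N j (bilinearize D (x * r)) := by
  induction r using TensorProduct.induction_on with
  | zero => rw [mul_zero, map_zero]; exact Groth.DiffOps.zero_mem j
  | tmul b c =>
    have : bilinearize D (x * (b ⊗ₜ[A] c)) =
        b • (bilinearize D x ∘ₗ (LinearMap.lsmul B M c).restrictScalars A) := by
      refine LinearMap.ext fun m => ?_
      rw [show (b ⊗ₜ[A] c : B ⊗[A] B) = b • ((1 : B) ⊗ₜ[A] c) by
          rw [TensorProduct.smul_tmul', smul_eq_mul, mul_one],
        mul_smul_comm, map_smul, LinearMap.smul_apply, bilinearize_mul_one_tmul]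
      rfl
    rw [this]
    exact Groth.DiffOps.smul_mem j b (Groth.DiffOps.comp_linearMap j _ h)
  | add r s hr hs => rw [mul_add, map_add]; exact Groth.DiffOps.add_mem j hr hs

lemma bilinearize_mul_eq_zero (D : M →ₗ[A] N) :
    ∀ (j : ℕ) (x : B ⊗[A] B), Diff16.IsDiffOpLE A B M N j (bilinearize D x) →
      ∀ y ∈ KaehlerDifferential.ideal A B ^ (j + 1), bilinearize D (x * y) = 0 := by
  intro j
  induction j with
  | zero =>
    intro x h y hy
    rw [zero_add, pow_one, ← KaehlerDifferential.span_range_eq_ideal] at hy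
    refine Submodule.span_induction
      (p := fun y _ => ∀ x, Diff16.IsDiffOpLE A B M N 0 (bilinearize D x) → bilinearize D (x * y) = 0)
      ?_ ?_ ?_ ?_ hy x h
    · rintro _ ⟨b, rfl⟩ x h
      show bilinearize D (x * Groth.DiffOps.del A b) = 0
      rw [bilinearize_mul_del]
      ext m
      simp [(Groth.DiffOps.isDiffOpLE_zero_iff _).1 h b m]
    · intro x _; rw [mul_zero, map_zero]
    · intro y z _ _ hy hz x h; rw [mul_add, map_add, hy x h, hz x h, add_zero]
    · intro r y _ hy x h
      rw [smul_eq_mul, ← mul_assoc]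
      exact hy _ (isDiffOpLE_bilinearize_mul h r)
  | succ j ih =>
    intro x h y hy
    rw [pow_succ'] at hy
    refine Submodule.mul_induction_on hy ?_ fun a b ha hb => by rw [mul_add, map_add, ha, hb, add_zero]
    intro a ha z hz
    rw [← KaehlerDifferential.span_range_eq_ideal] at ha
    refine Submodule.span_induction
      (p := fun a _ => ∀ x, Diff16.IsDiffOpLE A B M N (j + 1) (bilinearize D x) →
        bilinearize D (x * (a * z)) = 0) ?_ ?_ ?_ ?_ ha x h
    · rintro _ ⟨b, rfl⟩ x h
      rw [← mul_assoc]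
      refine ih _ ?_ z hz
      show Diff16.IsDiffOpLE A B M N j (bilinearize D (x * Groth.DiffOps.del A b))
      rw [bilinearize_mul_del]
      exact h b
    · intro x _; rw [zero_mul, mul_zero, map_zero]
    · intro a b _ _ ha hb x h; rw [add_mul, mul_add, map_add, ha x h, hb x h, add_zero]
    · intro r a _ ha x h
      rw [smul_eq_mul, mul_assoc r a z, ← mul_assoc]
      exact ha _ (isDiffOpLE_bilinearize_mul h r)

variable {n : ℕ}

/-- The identity, from the first-factor to the second-factor copy of the principal parts. -/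
def toPr (p : PP16.P n A B) : PP16.Pr n A B := p

lemma toPr_zero : toPr (0 : PP16.P n A B) = 0 := rfl

lemma toPr_add (p q : PP16.P n A B) : toPr (p + q) = toPr p + toPr q := rfl

/-- A differential operator of order `≤ n` as a map out of the principal parts. -/
noncomputable def opMap (D : M →ₗ[A] N) (h : Diff16.IsDiffOpLE A B M N n D) :
    PP16.P n A B →ₗ[B] (M →ₗ[A] N) :=
  (Submodule.liftQ ((KaehlerDifferential.ideal A B ^ (n + 1)).restrictScalars B) (bilinearize D)
    fun y hy => LinearMap.mem_ker.2 (by
      have := bilinearize_mul_eq_zero D n 1 (isDiffOpLE_bilinearize h 1) y hy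
      rwa [one_mul] at this)) ∘ₗ
    (Submodule.Quotient.restrictScalarsEquiv B (KaehlerDifferential.ideal A B ^ (n + 1))).symm.toLinearMap

lemma opMap_mk (D : M →ₗ[A] N) (h : Diff16.IsDiffOpLE A B M N n D) (x : B ⊗[A] B) :
    opMap D h (Ideal.Quotient.mk _ x) = bilinearize D x := rfl

/-- The factorisation of a differential operator. -/
noncomputable def opLift (D : M →ₗ[A] N) (h : Diff16.IsDiffOpLE A B M N n D) :
    PP16.PM n A B M →+ N :=
  TensorProduct.liftAddHom
    { toFun := fun p => (opMap D h p).toAddMonoidHom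
      map_zero' := by ext m; exact LinearMap.congr_fun (opMap D h).map_zero m
      map_add' := fun p q => by ext m; exact LinearMap.congr_fun ((opMap D h).map_add p q) m }
    fun b p m => by
      obtain ⟨x, rfl⟩ := Ideal.Quotient.mk_surjective (p : PP16.P n A B)
      show opMap D h (PP16.dn n A B b * Ideal.Quotient.mk _ x) m = opMap D h (Ideal.Quotient.mk _ x) (b • m)
      rw [dn_eq_mk, ← map_mul, opMap_mk, opMap_mk, mul_comm, bilinearize_mul_one_tmul]

lemma opLift_tmul (D : M →ₗ[A] N) (h : Diff16.IsDiffOpLE A B M N n D) (p : PP16.P n A B) (m : M) :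
    opLift D h (toPr p ⊗ₜ[B] m) = opMap D h p m := rfl

lemma dM_apply (m : M) : PP16.dM n A B M m = toPr (1 : PP16.P n A B) ⊗ₜ[B] m := rfl

lemma smul_tmul_pm (q p : PP16.P n A B) (m : M) :
    q • (toPr p ⊗ₜ[B] m) = toPr (q * p) ⊗ₜ[B] m := rfl

lemma dn_smul_dM (b : B) (m : M) :
    PP16.dn n A B b • PP16.dM n A B M m = PP16.dM n A B M (b • m) := by
  rw [dM_apply, dM_apply, smul_tmul_pm, TensorProduct.tmul_smul, TensorProduct.smul_tmul']
  rfl

/-- `m ↦ u (x • (1 ⊗ m))`. -/
noncomputable def opOf (u : PP16.PM n A B M →+ N)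
    (hu : ∀ (b : B) (t : PP16.PM n A B M), u (algebraMap B (PP16.P n A B) b • t) = b • u t)
    (x : PP16.P n A B) : M →ₗ[A] N where
  toFun m := u (x • PP16.dM n A B M m)
  map_add' m m' := by rw [map_add, smul_add, map_add]
  map_smul' a m := by
    rw [RingHom.id_apply, ← algebraMap_smul B a m, ← dn_smul_dM, (PP16.dn n A B).commutes,
      IsScalarTower.algebraMap_apply A B (PP16.P n A B), smul_comm, hu, algebraMap_smul]

lemma opOf_apply (u : PP16.PM n A B M →+ N)
    (hu : ∀ (b : B) (t : PP16.PM n A B M), u (algebraMap B (PP16.P n A B) b • t) = b • u t)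
    (x : PP16.P n A B) (m : M) : opOf u hu x m = u (x • PP16.dM n A B M m) := rfl

lemma commutator_opOf (u : PP16.PM n A B M →+ N)
    (hu : ∀ (b : B) (t : PP16.PM n A B M), u (algebraMap B (PP16.P n A B) b • t) = b • u t)
    (x : PP16.P n A B) (b : B) :
    Diff16.commutator A B M N (opOf u hu x) b = opOf u hu (x * del n A b) := by
  refine LinearMap.ext fun m => ?_
  rw [Groth.DiffOps.commutator_apply, opOf_apply, opOf_apply, opOf_apply, ← hu, ← dn_smul_dM, ← map_sub,
    ← mul_smul, ← mul_smul, ← sub_smul, del, mul_sub, mul_comm (algebraMap B _ b) x]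

lemma isDiffOpLE_opOf (u : PP16.PM n A B M →+ N)
    (hu : ∀ (b : B) (t : PP16.PM n A B M), u (algebraMap B (PP16.P n A B) b • t) = b • u t) :
    ∀ (j : ℕ) (x : PP16.P n A B), (∀ y ∈ PP16.augIdeal n A B ^ (j + 1), x * y = 0) →
      Diff16.IsDiffOpLE A B M N j (opOf u hu x) := by
  intro j
  induction j with
  | zero =>
    intro x hx b m
    have h := LinearMap.congr_fun (commutator_opOf u hu x b) m
    rw [hx _ (by rw [zero_add, Submodule.pow_one, augIdeal_eq_span]; exact Ideal.subset_span ⟨b, rfl⟩),
      opOf_apply, zero_smul, map_zero, Groth.DiffOps.commutator_apply, sub_eq_zero] at h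
    exact h
  | succ j ih =>
    intro x hx b
    rw [commutator_opOf]
    refine ih _ fun y hy => ?_
    rw [mul_assoc]
    refine hx _ ?_
    rw [pow_succ' (PP16.augIdeal n A B) (j + 1)]
    exact Ideal.mul_mem_mul (by rw [augIdeal_eq_span]; exact Ideal.subset_span ⟨b, rfl⟩) hy

/-- Two maps out of `P^n(M)`, linear for the first factor, agree if they agree on `1 ⊗ m`. -/
lemma addHom_ext {u v : PP16.PM n A B M →+ N}
    (hu : ∀ (b : B) (t : PP16.PM n A B M), u (algebraMap B (PP16.P n A B) b • t) = b • u t)
    (hv : ∀ (b : B) (t : PP16.PM n A B M), v (algebraMap B (PP16.P n A B) b • t) = b • v t)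
    (h : ∀ m, u (PP16.dM n A B M m) = v (PP16.dM n A B M m)) : u = v := by
  refine AddMonoidHom.ext fun t => ?_
  induction t using TensorProduct.induction_on with
  | zero => rw [map_zero, map_zero]
  | tmul p m =>
    obtain ⟨x, hx⟩ := Ideal.Quotient.mk_surjective (p : PP16.P n A B)
    rw [show p = toPr (Ideal.Quotient.mk _ x) from hx.symm]
    clear hx
    induction x using TensorProduct.induction_on with
    | zero => rw [map_zero, toPr_zero, TensorProduct.zero_tmul, map_zero, map_zero]
    | tmul b c =>
      have : toPr (Ideal.Quotient.mk (KaehlerDifferential.ideal A B ^ (n + 1)) (b ⊗ₜ[A] c)) ⊗ₜ[B] m =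
          algebraMap B (PP16.P n A B) b • PP16.dM n A B M (c • m) := by
        rw [← dn_smul_dM, dM_apply, smul_tmul_pm, smul_tmul_pm, mul_one, ← Algebra.smul_def, smul_dn]
      rw [this, hu, hv, h]
    | add x y hx hy => rw [map_add, toPr_add, TensorProduct.add_tmul, map_add, map_add, hx, hy]
  | add x y hx hy => rw [map_add, map_add, hx, hy]

theorem isDiffOpLE_iff_existsUnique (D : M →ₗ[A] N) :
    Diff16.IsDiffOpLE A B M N n D ↔
      ∃! u : PP16.PM n A B M →+ N,
        (∀ (b : B) (t : PP16.PM n A B M), u (algebraMap B (PP16.P n A B) b • t) = b • u t) ∧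
          ∀ m : M, u (PP16.dM n A B M m) = D m := by
  constructor
  · intro h
    have hlin : ∀ (b : B) (t : PP16.PM n A B M),
        opLift D h (algebraMap B (PP16.P n A B) b • t) = b • opLift D h t := fun b t => by
      induction t using TensorProduct.induction_on with
      | zero => rw [smul_zero, map_zero, smul_zero]
      | tmul p m =>
        obtain ⟨q, rfl⟩ : ∃ q, toPr q = p := ⟨p, rfl⟩
        rw [smul_tmul_pm, opLift_tmul, opLift_tmul, ← Algebra.smul_def, (opMap D h).map_smul, LinearMap.smul_apply]
      | add x y hx hy => rw [smul_add, map_add, map_add, hx, hy, smul_add]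
    have hval : ∀ m, opLift D h (PP16.dM n A B M m) = D m := fun m => by
      rw [dM_apply, opLift_tmul, ← map_one (Ideal.Quotient.mk (KaehlerDifferential.ideal A B ^ (n + 1))),
        opMap_mk, Algebra.TensorProduct.one_def, bilinearize_tmul, one_smul, one_smul]
    exact ⟨opLift D h, ⟨hlin, hval⟩, fun v hv => addHom_ext hv.1 hlin fun m => (hv.2 m).trans (hval m).symm⟩
  · rintro ⟨u, ⟨hu, hval⟩, -⟩
    have : D = opOf u hu 1 := LinearMap.ext fun m => by rw [opOf_apply, one_smul, hval]
    rw [this]
    refine isDiffOpLE_opOf u hu n 1 fun y hy => ?_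
    rw [one_mul]
    exact Ideal.mem_bot.1 (augIdeal_pow_eq_bot.le hy)

end Groth.PP
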