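import Groth.Agent.PP.Basic
import Mathlib.RingTheory.FiniteStability
import Mathlib.RingTheory.Finiteness.ModuleFinitePresentation
import Mathlib.RingTheory.IntegralClosure.IsIntegralClosure.Basic

/-!
Finiteness of the rings of principal parts.
-/

set_option autoImplicit false
set_option linter.style.haveILetI false

universe u

open scoped TensorProduct

namespace Groth.PP

variable (n : ℕ) (A B : Type u) [CommRing A] [CommRing B] [Algebra A B]

lemma isIntegral_dn (b : B) : IsIntegral B (PP16.dn n A B b) := by
  refine ⟨(Polynomial.X - Polynomial.C b) ^ (n + 1), (Polynomial.monic_X_sub_C b).pow _, ?_⟩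
  rw [Polynomial.eval₂_pow, Polynomial.eval₂_sub, Polynomial.eval₂_X, Polynomial.eval₂_C]
  have := prod_del_eq_zero (n := n) (A := A) (B := B) (fun _ => b)
  rw [Finset.prod_const, Finset.card_univ, Fintype.card_fin] at this
  exact this

instance isIntegral_P : Algebra.IsIntegral B (PP16.P n A B) := ⟨fun x => by
  have hx : x ∈ Submodule.span B (Set.range (PP16.dn n A B)) := by rw [span_range_dn]; trivial
  induction hx using Submodule.span_induction with
  | mem y hy => obtain ⟨b, rfl⟩ := hy; exact isIntegral_dn n A B b
  | zero => exact isIntegral_zero
  | add y z _ _ hy hz => exact hy.add hz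
  | smul c y _ hy => exact hy.smul c⟩

theorem module_finite [Algebra.FiniteType A B] : Module.Finite B (PP16.P n A B) := by
  haveI : Algebra.FiniteType B (PP16.P n A B) :=
    Algebra.FiniteType.of_surjective (Ideal.Quotient.mkₐ B _) (Ideal.Quotient.mkₐ_surjective B _)
  exact Algebra.IsIntegral.finite

theorem module_finitePresentation [Algebra.FinitePresentation A B] :
    Module.FinitePresentation B (PP16.P n A B) := by
  haveI := module_finite n A B
  haveI : Algebra.FinitePresentation B (PP16.P n A B) :=
    Algebra.FinitePresentation.quotient ((KaehlerDifferential.ideal_fg A B).pow)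
  exact Module.FinitePresentation.of_finite_of_finitePresentation _ _

end Groth.PP
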