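import Groth.Agent.PP.Basic

/-!
Behaviour of principal parts under base change, localization, quotients and towers.

The key lemmas are stated for maps into an arbitrary commutative ring, which keeps instance
unification away from iterated quotients of tensor products.
-/

set_option autoImplicit false
set_option linter.style.haveILetI false

universe u

open scoped TensorProduct

namespace Groth.PP

lemma pow_map_eq_bot {R S : Type*} [CommRing R] [CommRing S] (f : R →+* S) {I : Ideal R} {k : ℕ}
    (h : I ^ k = ⊥) : I.map f ^ k = ⊥ :=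
  (Ideal.map_pow f I k).symm.trans (by rw [h, Ideal.map_bot])

lemma del_mem {n : ℕ} {A B : Type u} [CommRing A] [CommRing B] [Algebra A B] (b : B) :
    del n A b ∈ PP16.augIdeal n A B := by
  rw [augIdeal_eq_span]
  exact Ideal.subset_span ⟨b, rfl⟩

section tower

variable (n : ℕ) (A B C : Type u) [CommRing A] [CommRing B] [CommRing C]
  [Algebra A B] [Algebra B C] [Algebra A C] [IsScalarTower A B C]

lemma map_surjective_of_tower : Function.Surjective (PP16.map n A C B C) := by
  intro x
  have hx : x ∈ Submodule.span C (Set.range (PP16.dn n B C)) := by rw [span_range_dn]; trivial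
  induction hx using Submodule.span_induction with
  | mem y hy => obtain ⟨b, rfl⟩ := hy; exact ⟨PP16.dn n A C b, PP16.map_dn n A C B C b⟩
  | zero => exact ⟨0, map_zero _⟩
  | add y z _ _ hy hz =>
    obtain ⟨a, rfl⟩ := hy
    obtain ⟨b, rfl⟩ := hz
    exact ⟨a + b, map_add _ a b⟩
  | smul c y _ hy =>
    obtain ⟨a, rfl⟩ := hy
    refine ⟨c • a, ?_⟩
    rw [Algebra.smul_def, map_mul, PP16.map_algebraMap, Algebra.smul_def]
    rfl

/-- A map killing `δ b` for `b` in the middle ring factors through the relative principal parts. -/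
lemma ker_map_tower_le {R : Type u} [CommRing R] (π : PP16.P n A C →+* R)
    (hπ : ∀ b : B, π (del n A (algebraMap B C b)) = 0) :
    RingHom.ker (PP16.map n A C B C) ≤ RingHom.ker π := by
  intro x hx
  letI : Algebra C R := (π.comp (algebraMap C _)).toAlgebra
  letI : Algebra B R := ((π.comp (algebraMap C _)).comp (algebraMap B C)).toAlgebra
  haveI : IsScalarTower B C R := IsScalarTower.of_algebraMap_eq fun _ => rfl
  let g : C →ₐ[B] R :=
    { π.comp (PP16.dn n A C).toRingHom with
      commutes' := fun b => by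
        have h := hπ b
        rw [del, map_sub, sub_eq_zero] at h
        exact h }
  let ψ : PP16.P n B C →ₐ[C] R :=
    lift g ((PP16.augIdeal n A C).map π) (pow_map_eq_bot _ augIdeal_pow_eq_bot) fun c => by
      have : g c - algebraMap C R c = π (del n A c) := by rw [del, map_sub]; rfl
      rw [this]
      exact Ideal.mem_map_of_mem _ (del_mem c)
  have hψ : ψ.toRingHom.comp (PP16.map n A C B C).toRingHom = π := by
    refine ringHom_ext (fun c => ?_) (fun c => ?_)
    · show ψ (PP16.map n A C B C (algebraMap C _ c)) = _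
      rw [PP16.map_algebraMap, Algebra.algebraMap_self, RingHom.id_apply, ψ.commutes]
      rfl
    · show ψ (PP16.map n A C B C (PP16.dn n A C c)) = _
      rw [PP16.map_dn, Algebra.algebraMap_self, RingHom.id_apply, lift_dn]
      rfl
  rw [RingHom.mem_ker, ← hψ]
  show ψ (PP16.map n A C B C x) = 0
  rw [RingHom.mem_ker.1 hx, map_zero]

theorem ker_map_tower :
    RingHom.ker (PP16.map n A C B C) = (PP16.augIdeal n A B).map (PP16.map n A B A C) := by
  refine le_antisymm ?_ ?_
  · intro x hx
    refine Ideal.Quotient.eq_zero_iff_mem.1 (RingHom.mem_ker.1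
      (ker_map_tower_le n A B C (R := PP16.P n A C ⧸ (PP16.augIdeal n A B).map (PP16.map n A B A C))
        (Ideal.Quotient.mk ((PP16.augIdeal n A B).map (PP16.map n A B A C))) (fun b => ?_) hx))
    rw [Ideal.Quotient.eq_zero_iff_mem, ← map_del n A B A C b]
    exact Ideal.mem_map_of_mem _ (del_mem b)
  · rw [augIdeal_eq_span, Ideal.map_span, Ideal.span_le]
    rintro _ ⟨_, ⟨b, rfl⟩, rfl⟩
    rw [SetLike.mem_coe, RingHom.mem_ker, map_del, map_del, del, sub_eq_zero]
    show PP16.dn n B C (algebraMap B C b) = algebraMap C _ (algebraMap B C b)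
    rw [(PP16.dn n B C).commutes b, IsScalarTower.algebraMap_apply B C (PP16.P n B C)]

end tower

section quotient

variable (n : ℕ) (A B : Type u) [CommRing A] [CommRing B] [Algebra A B] (K : Ideal B)

lemma map_surjective_of_quotient : Function.Surjective (PP16.map n A B A (B ⧸ K)) := by
  intro x
  have hx : x ∈ Submodule.span (B ⧸ K) (Set.range (PP16.dn n A (B ⧸ K))) := by
    rw [span_range_dn]; trivial
  induction hx using Submodule.span_induction with
  | mem y hy =>
    obtain ⟨b, rfl⟩ := hy
    obtain ⟨b, rfl⟩ := Ideal.Quotient.mk_surjective b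
    exact ⟨PP16.dn n A B b, PP16.map_dn n A B A (B ⧸ K) b⟩
  | zero => exact ⟨0, map_zero _⟩
  | add y z _ _ hy hz =>
    obtain ⟨a, rfl⟩ := hy
    obtain ⟨b, rfl⟩ := hz
    exact ⟨a + b, map_add _ a b⟩
  | smul c y _ hy =>
    obtain ⟨a, rfl⟩ := hy
    obtain ⟨c, rfl⟩ := Ideal.Quotient.mk_surjective c
    refine ⟨c • a, ?_⟩
    rw [Algebra.smul_def, map_mul, PP16.map_algebraMap, Algebra.smul_def]
    rfl

/-- A map killing both images of `K` factors through the principal parts of the quotient. -/
lemma ker_map_quotient_le {R : Type u} [CommRing R] (π : PP16.P n A B →+* R)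
    (h₁ : ∀ b ∈ K, π (algebraMap B _ b) = 0) (h₂ : ∀ b ∈ K, π (PP16.dn n A B b) = 0) :
    RingHom.ker (PP16.map n A B A (B ⧸ K)) ≤ RingHom.ker π := by
  intro x hx
  letI : Algebra (B ⧸ K) R := (Ideal.Quotient.lift K (π.comp (algebraMap B _)) h₁).toAlgebra
  letI : Algebra A R := ((π.comp (algebraMap B _)).comp (algebraMap A B)).toAlgebra
  haveI : IsScalarTower A (B ⧸ K) R := IsScalarTower.of_algebraMap_eq fun _ => rfl
  let g : B ⧸ K →ₐ[A] R :=
    { Ideal.Quotient.lift K (π.comp (PP16.dn n A B).toRingHom) h₂ with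
      commutes' := fun a => by
        show π (PP16.dn n A B (algebraMap A B a)) = π (algebraMap B _ (algebraMap A B a))
        rw [(PP16.dn n A B).commutes, IsScalarTower.algebraMap_apply A B (PP16.P n A B)] }
  let ψ : PP16.P n A (B ⧸ K) →ₐ[B ⧸ K] R :=
    lift g ((PP16.augIdeal n A B).map π) (pow_map_eq_bot _ augIdeal_pow_eq_bot) fun c => by
      obtain ⟨c, rfl⟩ := Ideal.Quotient.mk_surjective c
      have : g (Ideal.Quotient.mk K c) - algebraMap (B ⧸ K) R (Ideal.Quotient.mk K c) = π (del n A c) := by
        rw [del, map_sub]; rfl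
      rw [this]
      exact Ideal.mem_map_of_mem _ (del_mem c)
  have hψ : ψ.toRingHom.comp (PP16.map n A B A (B ⧸ K)).toRingHom = π := by
    refine ringHom_ext (fun c => ?_) (fun c => ?_)
    · show ψ (PP16.map n A B A (B ⧸ K) (algebraMap B _ c)) = _
      rw [PP16.map_algebraMap, ψ.commutes]
      rfl
    · show ψ (PP16.map n A B A (B ⧸ K) (PP16.dn n A B c)) = _
      rw [PP16.map_dn, lift_dn]
      rfl
  rw [RingHom.mem_ker, ← hψ]
  show ψ (PP16.map n A B A (B ⧸ K) x) = 0
  rw [RingHom.mem_ker.1 hx, map_zero]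

theorem ker_map_quotient :
    RingHom.ker (PP16.map n A B A (B ⧸ K)) =
      K.map (algebraMap B (PP16.P n A B)) ⊔ K.map (PP16.dn n A B) := by
  refine le_antisymm ?_ (sup_le ?_ ?_)
  · intro x hx
    refine Ideal.Quotient.eq_zero_iff_mem.1 (RingHom.mem_ker.1
      (ker_map_quotient_le n A B K
        (R := PP16.P n A B ⧸ K.map (algebraMap B (PP16.P n A B)) ⊔ K.map (PP16.dn n A B))
        (Ideal.Quotient.mk (K.map (algebraMap B (PP16.P n A B)) ⊔ K.map (PP16.dn n A B)))
        (fun b hb => ?_) (fun b hb => ?_) hx))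
    · exact Ideal.Quotient.eq_zero_iff_mem.2 (Ideal.mem_sup_left (Ideal.mem_map_of_mem _ hb))
    · exact Ideal.Quotient.eq_zero_iff_mem.2 (Ideal.mem_sup_right (Ideal.mem_map_of_mem _ hb))
  · refine Ideal.map_le_iff_le_comap.2 fun b hb => ?_
    rw [Ideal.mem_comap, RingHom.mem_ker, PP16.map_algebraMap, Ideal.Quotient.algebraMap_eq,
      Ideal.Quotient.eq_zero_iff_mem.2 hb, map_zero]
  · refine Ideal.map_le_iff_le_comap.2 fun b hb => ?_
    rw [Ideal.mem_comap, RingHom.mem_ker, PP16.map_dn, Ideal.Quotient.algebraMap_eq,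
      Ideal.Quotient.eq_zero_iff_mem.2 hb, map_zero]

end quotient

section retraction

variable (n : ℕ) (A B : Type u) [CommRing A] [CommRing B] [Algebra A B] (g : B →ₐ[A] A)

/-- Modulo `ker g` on the first factor, `d^n` kills `(ker g) ^ (n + 1)`. -/
lemma pow_le_ker_of_retraction {R : Type u} [CommRing R] (π : PP16.P n A B →+* R)
    (hπ : ∀ b ∈ RingHom.ker g, π (algebraMap B _ b) = 0) :
    RingHom.ker g ^ (n + 1) ≤ RingHom.ker (π.comp (PP16.dn n A B).toRingHom) := by
  have hle : (RingHom.ker g).map (π.comp (PP16.dn n A B).toRingHom) ≤ (PP16.augIdeal n A B).map π := by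
    refine Ideal.map_le_iff_le_comap.2 fun c hc => ?_
    rw [Ideal.mem_comap]
    have : π.comp (PP16.dn n A B).toRingHom c = π (del n A c) := by
      rw [del, map_sub, hπ c hc, sub_zero]; rfl
    rw [this]
    exact Ideal.mem_map_of_mem _ (del_mem c)
  intro b hb
  have h := ((Ideal.map_pow _ _ _).le.trans (Ideal.pow_right_mono hle (n + 1))).trans_eq
    (pow_map_eq_bot π augIdeal_pow_eq_bot)
  exact RingHom.mem_ker.2 (Ideal.mem_bot.1 (h (Ideal.mem_map_of_mem _ hb)))

/-- A map killing `ker g` on the first factor is surjective already on `d^n B` if it is surjective. -/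
lemma surjective_comp_dn_of_retraction {R : Type u} [CommRing R] (π : PP16.P n A B →+* R)
    (hπ : ∀ b ∈ RingHom.ker g, π (algebraMap B _ b) = 0) (hs : Function.Surjective π) :
    Function.Surjective (π.comp (PP16.dn n A B).toRingHom) := by
  intro y
  obtain ⟨x, rfl⟩ := hs y
  have hx : x ∈ Submodule.span B (Set.range (PP16.dn n A B)) := by rw [span_range_dn]; trivial
  induction hx using Submodule.span_induction with
  | mem z hz => obtain ⟨b, rfl⟩ := hz; exact ⟨b, rfl⟩
  | zero => exact ⟨0, by rw [map_zero, map_zero]⟩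
  | add z w _ _ hz hw =>
    obtain ⟨a, ha⟩ := hz
    obtain ⟨b, hb⟩ := hw
    exact ⟨a + b, by rw [map_add, map_add, ha, hb]⟩
  | smul c z _ hz =>
    obtain ⟨a, ha⟩ := hz
    refine ⟨algebraMap A B (g c) * a, ?_⟩
    rw [map_mul, ha, Algebra.smul_def, map_mul]
    congr 1
    show π (PP16.dn n A B (algebraMap A B (g c))) = _
    have h := hπ (algebraMap A B (g c) - c) (by
      rw [RingHom.mem_ker, map_sub, g.commutes]; exact sub_self _)
    rw [map_sub, map_sub, sub_eq_zero] at h
    rw [(PP16.dn n A B).commutes, IsScalarTower.algebraMap_apply A B (PP16.P n A B), h]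

theorem retraction_facts :
    Function.Surjective ((Ideal.Quotient.mk ((RingHom.ker g).map (algebraMap B (PP16.P n A B)))).comp
        (PP16.dn n A B).toRingHom) ∧
      RingHom.ker ((Ideal.Quotient.mk ((RingHom.ker g).map (algebraMap B (PP16.P n A B)))).comp
        (PP16.dn n A B).toRingHom) = RingHom.ker g ^ (n + 1) := by
  have hπ : ∀ b ∈ RingHom.ker g,
      Ideal.Quotient.mk ((RingHom.ker g).map (algebraMap B (PP16.P n A B))) (algebraMap B _ b) = 0 :=
    fun b hb => Ideal.Quotient.eq_zero_iff_mem.2 (Ideal.mem_map_of_mem _ hb)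
  refine ⟨surjective_comp_dn_of_retraction n A B g
      (R := PP16.P n A B ⧸ (RingHom.ker g).map (algebraMap B (PP16.P n A B)))
      (Ideal.Quotient.mk _) hπ Ideal.Quotient.mk_surjective,
    le_antisymm (fun b hb => ?_) (pow_le_ker_of_retraction n A B g
      (R := PP16.P n A B ⧸ (RingHom.ker g).map (algebraMap B (PP16.P n A B)))
      (Ideal.Quotient.mk _) hπ)⟩
  letI algQ : Algebra B (B ⧸ RingHom.ker g ^ (n + 1)) :=
    RingHom.toAlgebra (S := B ⧸ RingHom.ker g ^ (n + 1))
      ((algebraMap A (B ⧸ RingHom.ker g ^ (n + 1))).comp g.toRingHom)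
  haveI : @IsScalarTower A B (B ⧸ RingHom.ker g ^ (n + 1)) _ algQ.toSMul _ :=
    @IsScalarTower.of_algebraMap_eq A B (B ⧸ RingHom.ker g ^ (n + 1)) _ _ _ _ algQ _ fun a => by
      show _ = algebraMap A (B ⧸ RingHom.ker g ^ (n + 1)) (g (algebraMap A B a))
      rw [g.commutes]; rfl
  let φ : PP16.P n A B →ₐ[B] (B ⧸ RingHom.ker g ^ (n + 1)) :=
    lift (Ideal.Quotient.mkₐ A _) ((RingHom.ker g).map (Ideal.Quotient.mk _))
      ((Ideal.map_pow _ _ _).symm.trans (Ideal.map_quotient_self _)) fun c => by
        show Ideal.Quotient.mk _ c - Ideal.Quotient.mk _ (algebraMap A B (g c)) ∈ _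
        rw [← map_sub]
        refine Ideal.mem_map_of_mem _ ?_
        rw [RingHom.mem_ker, map_sub, g.commutes]; exact sub_self _
  have hL : (RingHom.ker g).map (algebraMap B (PP16.P n A B)) ≤ RingHom.ker φ :=
    Ideal.map_le_iff_le_comap.2 fun c hc => by
      rw [Ideal.mem_comap, RingHom.mem_ker, φ.commutes]
      show algebraMap A (B ⧸ RingHom.ker g ^ (n + 1)) (g c) = 0
      rw [RingHom.mem_ker.1 hc, map_zero]
  have := hL (Ideal.Quotient.eq_zero_iff_mem.1 hb)
  rw [RingHom.mem_ker, show (PP16.dn n A B).toRingHom b = PP16.dn n A B b from rfl, lift_dn] at this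
  exact Ideal.Quotient.eq_zero_iff_mem.1 this

end retraction

section localization

variable (n : ℕ) (A B B' : Type u) [CommRing A] [CommRing B] [Algebra A B]
  [CommRing B'] [Algebra B B'] [Algebra A B'] [IsScalarTower A B B'] (S : Submonoid B)
  [IsLocalization S B']

lemma isLocalization_map_aux (Q : Type u) [CommRing Q] [Algebra (PP16.P n A B) Q]
    [IsLocalization (S.map (algebraMap B (PP16.P n A B))) Q] :
    letI := PP16.mapAlgebra n A B A B'
    IsLocalization (S.map (algebraMap B (PP16.P n A B))) (PP16.P n A B') := by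
  letI := PP16.mapAlgebra n A B A B'
  let M := S.map (algebraMap B (PP16.P n A B))
  let q := algebraMap (PP16.P n A B) Q
  letI : Algebra B Q := (q.comp (algebraMap B _)).toAlgebra
  letI : Algebra A Q := (q.comp (algebraMap A _)).toAlgebra
  have hu : ∀ s : S, IsUnit (algebraMap B Q (s : B)) := fun s =>
    IsLocalization.map_units Q (⟨_, s, s.2, rfl⟩ : M)
  letI : Algebra B' Q := (IsLocalization.lift (M := S) (S := B') hu).toAlgebra
  haveI : IsScalarTower A B' Q := IsScalarTower.of_algebraMap_eq fun a => by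
    show q (algebraMap A _ a) = IsLocalization.lift (M := S) (S := B') hu (algebraMap A B' a)
    rw [IsScalarTower.algebraMap_apply A B B', IsLocalization.lift_eq,
      IsScalarTower.algebraMap_apply A B (PP16.P n A B)]
    rfl
  let J := (PP16.augIdeal n A B).map q
  have hJ : J ^ (n + 1) = ⊥ := pow_map_eq_bot _ augIdeal_pow_eq_bot
  have hdel : ∀ b : B, q (PP16.dn n A B b) - algebraMap B Q b ∈ J := fun b => by
    show q (PP16.dn n A B b) - q (algebraMap B _ b) ∈ J
    rw [← map_sub]
    exact Ideal.mem_map_of_mem _ (del_mem b)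
  let g₀ : B →ₐ[A] Q :=
    { q.comp (PP16.dn n A B).toRingHom with
      commutes' := fun a => congrArg q ((PP16.dn n A B).commutes a) }
  have hu' : ∀ s : S, IsUnit (g₀ (s : B)) := fun s => by
    have hnil : IsNilpotent (g₀ (s : B) - algebraMap B Q (s : B)) :=
      ⟨n + 1, Ideal.mem_bot.1 (hJ ▸ Ideal.pow_mem_pow (hdel s) (n + 1))⟩
    simpa using hnil.isUnit_add_left_of_commute (hu s) (Commute.all _ _)
  let g : B' →ₐ[A] Q := IsLocalization.liftAlgHom (M := S) hu'
  have hg : ∀ c : B, g (algebraMap B B' c) = g₀ c := fun c => IsLocalization.lift_eq _ c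
  let ψ : PP16.P n A B' →ₐ[B'] Q := lift g J hJ fun b' => by
    obtain ⟨⟨b, s⟩, h⟩ := IsLocalization.surj S b'
    refine (Ideal.mul_unit_mem_iff_mem _ (hu s)).1 ?_
    have e1 : g b' * g₀ (s : B) = g₀ b := by rw [← hg, ← map_mul, h, hg]
    have e2 : algebraMap B' Q b' * algebraMap B Q (s : B) = algebraMap B Q b := by
      show IsLocalization.lift (M := S) (S := B') hu b' * _ = _
      rw [← IsLocalization.lift_eq (S := B') hu (s : B), ← map_mul, h, IsLocalization.lift_eq]
    have : (g b' - algebraMap B' Q b') * algebraMap B Q (s : B) =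
        (g₀ b - algebraMap B Q b) - g b' * (g₀ (s : B) - algebraMap B Q (s : B)) := by
      rw [sub_mul, mul_sub, e1, e2]; ring
    rw [this]
    exact sub_mem (hdel b) (Ideal.mul_mem_left _ _ (hdel s))
  let μ : Q →+* PP16.P n A B' :=
    IsLocalization.lift (M := M) (g := algebraMap (PP16.P n A B) (PP16.P n A B')) fun m => by
      obtain ⟨-, s, hs, rfl⟩ := m
      show IsUnit (PP16.map n A B A B' (algebraMap B _ s))
      rw [PP16.map_algebraMap]
      exact (IsLocalization.map_units B' (⟨s, hs⟩ : S)).map _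
  have hμψ : μ.comp ψ.toRingHom = RingHom.id _ := by
    refine ringHom_ext (fun b' => ?_) (fun b' => ?_)
    · show μ (ψ (algebraMap B' _ b')) = algebraMap B' _ b'
      rw [ψ.commutes]
      have : μ.comp (algebraMap B' Q) = algebraMap B' (PP16.P n A B') := by
        refine IsLocalization.ringHom_ext S (RingHom.ext fun b => ?_)
        show μ (IsLocalization.lift (M := S) (S := B') hu (algebraMap B B' b)) = _
        rw [IsLocalization.lift_eq]
        exact (IsLocalization.lift_eq _ _).trans (PP16.map_algebraMap n A B A B' b)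
      exact RingHom.congr_fun this b'
    · show μ (ψ (PP16.dn n A B' b')) = PP16.dn n A B' b'
      rw [lift_dn]
      have : μ.comp g.toRingHom = (PP16.dn n A B').toRingHom := by
        refine IsLocalization.ringHom_ext S (RingHom.ext fun b => ?_)
        show μ (g (algebraMap B B' b)) = PP16.dn n A B' (algebraMap B B' b)
        rw [hg]
        exact (IsLocalization.lift_eq _ _).trans (PP16.map_dn n A B A B' b)
      exact RingHom.congr_fun this b'
  have hψμ : ψ.toRingHom.comp μ = RingHom.id _ := by
    refine IsLocalization.ringHom_ext M ?_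
    rw [RingHom.comp_assoc, IsLocalization.lift_comp, RingHom.id_comp]
    refine ringHom_ext (fun b => ?_) (fun b => ?_)
    · show ψ (PP16.map n A B A B' (algebraMap B _ b)) = q (algebraMap B _ b)
      rw [PP16.map_algebraMap, ψ.commutes]
      exact IsLocalization.lift_eq hu b
    · show ψ (PP16.map n A B A B' (PP16.dn n A B b)) = q (PP16.dn n A B b)
      rw [PP16.map_dn, lift_dn]
      exact hg b
  exact IsLocalization.isLocalization_of_algEquiv M
    (AlgEquiv.ofRingEquiv (f := RingEquiv.ofRingHom μ ψ.toRingHom hμψ hψμ)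
      fun x => IsLocalization.lift_eq _ x)

theorem isLocalization_map :
    letI := PP16.mapAlgebra n A B A B'
    IsLocalization (S.map (algebraMap B (PP16.P n A B))) (PP16.P n A B') :=
  isLocalization_map_aux n A B B' S (Localization (S.map (algebraMap B (PP16.P n A B))))

end localization

section localizationBase

variable (n : ℕ) (A A' B' : Type u) [CommRing A] [CommRing A'] [CommRing B'] [Algebra A A']
  [Algebra A' B'] [Algebra A B'] [IsScalarTower A A' B'] (R : Submonoid A) [IsLocalization R A']

include R in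
theorem map_bijective_of_isLocalization :
    Function.Bijective (PP16.map n A B' A' B') := by
  have hcomm : ((PP16.dn n A B').toRingHom.comp (algebraMap A' B')) = algebraMap A' (PP16.P n A B') := by
    refine IsLocalization.ringHom_ext R (RingHom.ext fun a => ?_)
    show PP16.dn n A B' (algebraMap A' B' (algebraMap A A' a)) = algebraMap A' _ (algebraMap A A' a)
    rw [← IsScalarTower.algebraMap_apply A A' B', ← IsScalarTower.algebraMap_apply A A' (PP16.P n A B'),
      AlgHom.commutes]
  let g : B' →ₐ[A'] PP16.P n A B' :=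
    { (PP16.dn n A B').toRingHom with commutes' := fun a => RingHom.congr_fun hcomm a }
  let ψ : PP16.P n A' B' →ₐ[B'] PP16.P n A B' := lift g (PP16.augIdeal n A B') augIdeal_pow_eq_bot
    fun b => del_mem b
  have h1 : ψ.toRingHom.comp (PP16.map n A B' A' B').toRingHom = RingHom.id _ := by
    refine ringHom_ext (fun b => ?_) (fun b => ?_)
    · show ψ (PP16.map n A B' A' B' (algebraMap B' _ b)) = _
      rw [PP16.map_algebraMap, Algebra.algebraMap_self, RingHom.id_apply, ψ.commutes]; rfl
    · show ψ (PP16.map n A B' A' B' (PP16.dn n A B' b)) = _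
      rw [PP16.map_dn, Algebra.algebraMap_self, RingHom.id_apply, lift_dn]; rfl
  refine ⟨Function.LeftInverse.injective (g := ψ) (RingHom.congr_fun h1), ?_⟩
  exact map_surjective_of_tower n A A' B'

end localizationBase

section baseChange

variable (n : ℕ) (A B A' B' : Type u) [CommRing A] [CommRing B] [Algebra A B]
  [CommRing A'] [CommRing B'] [Algebra A' B'] [Algebra A A'] [Algebra B B'] [Algebra A B']
  [IsScalarTower A A' B'] [IsScalarTower A B B'] [Algebra.IsPushout A B A' B']

/-- An algebra with the universal property of `B' ⊗_B P^n_{B/A}` is `P^n_{B'/A'}`. -/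
lemma bijective_of_baseChange {T : Type u} [CommRing T] [Algebra B T] [Algebra B' T]
    [IsScalarTower B B' T] (ι : PP16.P n A B →ₐ[B] T)
    (hext : ∀ u v : T →ₐ[B'] T, (∀ p, u (ι p) = v (ι p)) → u = v)
    (φ : T →ₐ[B'] PP16.P n A' B') (hφ : ∀ p, φ (ι p) = PP16.map n A B A' B' p) :
    Function.Bijective φ := by
  letI : Algebra A T := ((algebraMap B' T).comp (algebraMap A B')).toAlgebra
  letI : Algebra A' T := ((algebraMap B' T).comp (algebraMap A' B')).toAlgebra
  haveI : IsScalarTower A' B' T := IsScalarTower.of_algebraMap_eq fun _ => rfl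
  haveI : IsScalarTower A B' T := IsScalarTower.of_algebraMap_eq fun _ => rfl
  haveI : IsScalarTower A B T := IsScalarTower.of_algebraMap_eq fun a => by
    show algebraMap B' T (algebraMap A B' a) = _
    rw [IsScalarTower.algebraMap_apply A B B', ← IsScalarTower.algebraMap_apply B B' T]
  let J : Ideal T := (PP16.augIdeal n A B).map ι.toRingHom
  let f₁ : B →ₐ[A] T := (ι.restrictScalars A).comp (PP16.dn n A B)
  let f₂ : A' →ₐ[A] T := (IsScalarTower.toAlgHom A B' T).comp (IsScalarTower.toAlgHom A A' B')
  let g₀ : B' →ₐ[A] T := Algebra.pushoutDesc B' f₁ f₂ fun _ _ => mul_comm _ _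
  let g : B' →ₐ[A'] T :=
    { g₀.toRingHom with commutes' := fun a => Algebra.pushoutDesc_right B' f₁ f₂ _ a }
  let ψ : PP16.P n A' B' →ₐ[B'] T := lift g J (pow_map_eq_bot _ augIdeal_pow_eq_bot) fun b' => by
    rw [← Ideal.Quotient.eq_zero_iff_mem, map_sub, sub_eq_zero]
    have : (Ideal.Quotient.mkₐ A J).comp g₀ =
        (Ideal.Quotient.mkₐ A J).comp (IsScalarTower.toAlgHom A B' T) := by
      refine Algebra.IsPushout.algHom_ext (R := A) (S := B) (R' := A') (S' := B') ?_ ?_
      · refine AlgHom.ext fun a => ?_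
        simp only [AlgHom.comp_apply, IsScalarTower.coe_toAlgHom', Ideal.Quotient.mkₐ_eq_mk, g₀,
          Algebra.pushoutDesc_right]
        rfl
      · refine AlgHom.ext fun b => ?_
        simp only [AlgHom.comp_apply, IsScalarTower.coe_toAlgHom', Ideal.Quotient.mkₐ_eq_mk, g₀,
          Algebra.pushoutDesc_left]
        rw [Ideal.Quotient.eq, ← IsScalarTower.algebraMap_apply B B' T, ← ι.commutes b]
        show ι (PP16.dn n A B b) - ι (algebraMap B _ b) ∈ J
        rw [← map_sub]
        exact Ideal.mem_map_of_mem _ (del_mem b)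
    exact AlgHom.congr_fun this b'
  have h1 : φ.comp ψ = AlgHom.id B' _ := algHom_ext fun b' => by
    rw [AlgHom.comp_apply, lift_dn, AlgHom.id_apply]
    have key : (φ.restrictScalars A).comp g₀ = (PP16.dn n A' B').restrictScalars A := by
      refine Algebra.IsPushout.algHom_ext (R := A) (S := B) (R' := A') (S' := B') ?_ ?_
      · refine AlgHom.ext fun a => ?_
        simp only [AlgHom.comp_apply, IsScalarTower.coe_toAlgHom', g₀, Algebra.pushoutDesc_right,
          AlgHom.restrictScalars_apply]
        rw [AlgHom.commutes (PP16.dn n A' B')]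
        show φ (algebraMap B' T (algebraMap A' B' a)) = _
        rw [φ.commutes]
        rfl
      · refine AlgHom.ext fun b => ?_
        simp only [AlgHom.comp_apply, IsScalarTower.coe_toAlgHom', g₀, Algebra.pushoutDesc_left,
          AlgHom.restrictScalars_apply]
        show φ (ι (PP16.dn n A B b)) = _
        rw [hφ, PP16.map_dn]
    exact AlgHom.congr_fun key b'
  have h2 : ψ.comp φ = AlgHom.id B' _ := hext _ _ fun p => by
    have : ((ψ.comp φ).restrictScalars B).comp ι = ι := algHom_ext fun b => by
      rw [AlgHom.comp_apply, AlgHom.restrictScalars_apply, AlgHom.comp_apply, hφ, PP16.map_dn, lift_dn]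
      exact Algebra.pushoutDesc_left B' f₁ f₂ _ b
    exact AlgHom.congr_fun this p
  exact (AlgEquiv.ofAlgHom φ ψ h1 h2).bijective

theorem isPushout_map :
    letI := PP16.mapAlgebra n A B A' B'
    haveI := PP16.isScalarTower_mapAlgebra n A B A' B'
    Algebra.IsPushout B (PP16.P n A B) B' (PP16.P n A' B') := by
  letI := PP16.mapAlgebra n A B A' B'
  haveI := PP16.isScalarTower_mapAlgebra n A B A' B'
  refine Algebra.IsPushout.symm ⟨?_⟩
  let φ : B' ⊗[B] PP16.P n A B →ₐ[B'] PP16.P n A' B' :=
    Algebra.TensorProduct.lift (Algebra.ofId B' _)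
      (IsScalarTower.toAlgHom B (PP16.P n A B) (PP16.P n A' B')) fun _ _ => Commute.all _ _
  have hφ : ∀ p, φ ((1 : B') ⊗ₜ[B] p) = PP16.map n A B A' B' p := fun p => by
    simp [φ, RingHom.algebraMap_toAlgebra]
  have hb := bijective_of_baseChange n A B A' B'
    (T := B' ⊗[B] PP16.P n A B) Algebra.TensorProduct.includeRight
    (fun u v h => Algebra.TensorProduct.ext (Subsingleton.elim _ _) (AlgHom.ext h)) φ hφ
  exact IsBaseChange.of_equiv (LinearEquiv.ofBijective φ.toLinearMap hb) fun p => hφ p

end baseChange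

end Groth.PP
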