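import Groth.Agent.PP.Basic
import Mathlib.RingTheory.MvPolynomial.Basic

/-!
Principal parts of algebras with a distinguished system of coordinates: polynomial algebras, their
fraction fields, symmetric algebras.
-/

set_option autoImplicit false
set_option linter.style.haveILetI false

universe u v w

open scoped TensorProduct

namespace Groth.PP

section coordinates

variable (n : ℕ) (A B : Type u) [CommRing A] [CommRing B] [Algebra A B] {σ : Type v} (z : σ → B)

/-- The ideal of the indeterminates. -/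
noncomputable abbrev idealX (B : Type u) [CommRing B] (σ : Type v) : Ideal (MvPolynomial σ B) :=
  Ideal.span (Set.range MvPolynomial.X)

/-- `U i ↦ δ (z i)`. -/
noncomputable abbrev aevalDel : MvPolynomial σ B →ₐ[B] PP16.P n A B :=
  MvPolynomial.aeval fun i => del n A (z i)

lemma aevalDel_idealX_pow : idealX B σ ^ (n + 1) ≤ RingHom.ker (aevalDel n A B z) := by
  intro x hx
  have hle : (idealX B σ).map (aevalDel n A B z).toRingHom ≤ PP16.augIdeal n A B := by
    rw [Ideal.map_span, Ideal.span_le]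
    rintro _ ⟨_, ⟨i, rfl⟩, rfl⟩
    show aevalDel n A B z (MvPolynomial.X i) ∈ _
    rw [MvPolynomial.aeval_X, augIdeal_eq_span]
    exact Ideal.subset_span ⟨_, rfl⟩
  have h := ((Ideal.map_pow _ _ _).le.trans (Ideal.pow_right_mono hle (n + 1))).trans_eq
    augIdeal_pow_eq_bot
  exact RingHom.mem_ker.2 (Ideal.mem_bot.1 (h (Ideal.mem_map_of_mem _ hx)))

/-- `A`-algebra maps out of `B` are determined by the values at `z`. -/
def Determines : Prop :=
  ∀ (R : Type w) [CommRing R] [Algebra A R] (f g : B →ₐ[A] R),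
    (∀ i, f (z i) = g (z i)) → f = g

variable {n A B z}

/-- For an algebra with coordinates `z`, the principal parts are truncated polynomials. -/
theorem exists_equiv_of_coordinates (hgen : Determines.{u, v, u} A B z) (hgen' : Determines.{u, v, max u v} A B z)
    (g : B →ₐ[A] MvPolynomial σ B ⧸ idealX B σ ^ (n + 1))
    (hgz : ∀ i, g (z i) = Ideal.Quotient.mk _ (MvPolynomial.C (z i) + MvPolynomial.X i)) :
    ∃ e : PP16.P n A B ≃ₐ[B] MvPolynomial σ B ⧸ idealX B σ ^ (n + 1),
      (∀ i, e (PP16.dn n A B (z i)) = g (z i)) ∧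
        ∀ p, e (aevalDel n A B z p) = Ideal.Quotient.mk _ p := by
  let J : Ideal (MvPolynomial σ B ⧸ idealX B σ ^ (n + 1)) := (idealX B σ).map (Ideal.Quotient.mk _)
  have hJ : J ^ (n + 1) = ⊥ := (Ideal.map_pow _ _ _).symm.trans (Ideal.map_quotient_self _)
  have hg : ∀ b, g b - algebraMap B _ b ∈ J := fun b => by
    have : (Ideal.Quotient.mkₐ A J).comp g = (Ideal.Quotient.mkₐ A J).comp
        (IsScalarTower.toAlgHom A B (MvPolynomial σ B ⧸ idealX B σ ^ (n + 1))) := by
      refine hgen' ((MvPolynomial σ B ⧸ idealX B σ ^ (n + 1)) ⧸ J) _ _ fun i => ?_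
      simp only [AlgHom.comp_apply, Ideal.Quotient.mkₐ_eq_mk, IsScalarTower.coe_toAlgHom', hgz,
        Ideal.Quotient.eq]
      rw [IsScalarTower.algebraMap_apply B (MvPolynomial σ B) (MvPolynomial σ B ⧸ idealX B σ ^ (n + 1)),
        Ideal.Quotient.algebraMap_eq, ← map_sub, MvPolynomial.algebraMap_eq, add_sub_cancel_left]
      exact Ideal.mem_map_of_mem _ (Ideal.subset_span ⟨i, rfl⟩)
    have h := AlgHom.congr_fun this b
    exact Ideal.Quotient.eq.1 h
  let e : PP16.P n A B →ₐ[B] MvPolynomial σ B ⧸ idealX B σ ^ (n + 1) := lift g J hJ hg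
  let ψ : (MvPolynomial σ B ⧸ idealX B σ ^ (n + 1)) →ₐ[B] PP16.P n A B :=
    Ideal.Quotient.liftₐ _ (aevalDel n A B z) fun _ hx => aevalDel_idealX_pow n A B z hx
  have hψ : ∀ p, ψ (Ideal.Quotient.mk _ p) = aevalDel n A B z p := fun _ => rfl
  have h1 : ψ.comp e = AlgHom.id B _ := algHom_ext fun b => by
    have : (ψ.restrictScalars A).comp g = PP16.dn n A B := hgen (PP16.P n A B) _ _ fun i => by
      rw [AlgHom.comp_apply, AlgHom.restrictScalars_apply, hgz, hψ, map_add, MvPolynomial.aeval_C,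
        MvPolynomial.aeval_X, del, add_sub_cancel]
    rw [AlgHom.comp_apply, lift_dn, AlgHom.id_apply]
    exact AlgHom.congr_fun this b
  have h2 : e.comp ψ = AlgHom.id B _ := by
    refine Ideal.Quotient.algHom_ext _ (MvPolynomial.algHom_ext fun i => ?_)
    show e (ψ (Ideal.Quotient.mk _ (MvPolynomial.X i))) = _
    rw [hψ, MvPolynomial.aeval_X, del, map_sub, lift_dn, e.commutes, hgz,
      IsScalarTower.algebraMap_apply B (MvPolynomial σ B) (MvPolynomial σ B ⧸ idealX B σ ^ (n + 1)),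
      Ideal.Quotient.algebraMap_eq, ← map_sub, MvPolynomial.algebraMap_eq, add_sub_cancel_left]
    rfl
  refine ⟨AlgEquiv.ofAlgHom e ψ h2 h1, fun i => lift_dn g J hJ hg (z i), fun p => ?_⟩
  show e (aevalDel n A B z p) = _
  rw [← hψ]
  exact AlgHom.congr_fun h2 _

theorem aevalDel_surjective_and_ker (hgen : Determines.{u, v, u} A B z) (hgen' : Determines.{u, v, max u v} A B z)
    (g : B →ₐ[A] MvPolynomial σ B ⧸ idealX B σ ^ (n + 1))
    (hgz : ∀ i, g (z i) = Ideal.Quotient.mk _ (MvPolynomial.C (z i) + MvPolynomial.X i)) :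
    Function.Surjective (aevalDel n A B z) ∧
      RingHom.ker (aevalDel n A B z).toRingHom = idealX B σ ^ (n + 1) := by
  obtain ⟨e, -, he⟩ := exists_equiv_of_coordinates hgen hgen' g hgz
  refine ⟨fun y => ?_, le_antisymm (fun p hp => ?_) (aevalDel_idealX_pow n A B z)⟩
  · obtain ⟨p, hp⟩ := Ideal.Quotient.mk_surjective (e y)
    exact ⟨p, e.injective ((he p).trans hp)⟩
  · rw [← Ideal.Quotient.eq_zero_iff_mem, ← he, show aevalDel n A B z p = 0 from hp, map_zero]

end coordinates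

section polynomial

variable (n : ℕ) (A : Type u) [CommRing A] (σ : Type u)

lemma determines_mvPolynomial : Determines.{u, u, w} A (MvPolynomial σ A) MvPolynomial.X :=
  fun _ _ _ _ _ h => MvPolynomial.algHom_ext h

theorem exists_equiv_mvPolynomial :
    ∃ e : PP16.P n A (MvPolynomial σ A) ≃ₐ[MvPolynomial σ A]
        (MvPolynomial σ (MvPolynomial σ A) ⧸ idealX (MvPolynomial σ A) σ ^ (n + 1)),
      ∀ i : σ, e (PP16.dn n A (MvPolynomial σ A) (MvPolynomial.X i)) =
        Ideal.Quotient.mk _ (MvPolynomial.C (MvPolynomial.X i : MvPolynomial σ A) + MvPolynomial.X i) := by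
  obtain ⟨e, he, -⟩ := exists_equiv_of_coordinates (n := n) (determines_mvPolynomial A σ) (determines_mvPolynomial A σ)
    (MvPolynomial.aeval fun i => Ideal.Quotient.mk _
      (MvPolynomial.C (MvPolynomial.X i : MvPolynomial σ A) + MvPolynomial.X i))
    fun i => MvPolynomial.aeval_X _ i
  exact ⟨e, fun i => (he i).trans (MvPolynomial.aeval_X _ i)⟩

end polynomial

section fractionRing

variable (n : ℕ) (k : Type u) [Field k] {σ : Type v} (K : Type u) [Field K]
  [Algebra (MvPolynomial σ k) K] [Algebra k K] [IsScalarTower k (MvPolynomial σ k) K]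
  [IsFractionRing (MvPolynomial σ k) K]

lemma determines_fractionRing :
    Determines.{u, v, w} k K fun i : σ => algebraMap (MvPolynomial σ k) K (MvPolynomial.X i) := by
  intro R _ _ f g h
  refine AlgHom.coe_ringHom_injective (IsLocalization.ringHom_ext (nonZeroDivisors (MvPolynomial σ k)) ?_)
  have : f.comp (IsScalarTower.toAlgHom k (MvPolynomial σ k) K) =
      g.comp (IsScalarTower.toAlgHom k (MvPolynomial σ k) K) := MvPolynomial.algHom_ext h
  exact congrArg AlgHom.toRingHom this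

lemma exists_translate_fractionRing :
    ∃ g : K →ₐ[k] MvPolynomial σ K ⧸ idealX K σ ^ (n + 1),
      ∀ i : σ, g (algebraMap (MvPolynomial σ k) K (MvPolynomial.X i)) = Ideal.Quotient.mk _
        (MvPolynomial.C (algebraMap (MvPolynomial σ k) K (MvPolynomial.X i)) + MvPolynomial.X i) := by
  let Q := MvPolynomial σ K ⧸ idealX K σ ^ (n + 1)
  let z : σ → K := fun i => algebraMap (MvPolynomial σ k) K (MvPolynomial.X i)
  let g₀ : MvPolynomial σ k →ₐ[k] Q :=
    MvPolynomial.aeval fun i => Ideal.Quotient.mk _ (MvPolynomial.C (z i) + MvPolynomial.X i)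
  let c : MvPolynomial σ k →ₐ[k] Q :=
    (IsScalarTower.toAlgHom k K Q).comp (IsScalarTower.toAlgHom k (MvPolynomial σ k) K)
  have hmod : ∀ p, g₀ p - c p ∈ (idealX K σ).map (Ideal.Quotient.mk (idealX K σ ^ (n + 1))) := fun p => by
    induction p using MvPolynomial.induction_on with
    | C a =>
      rw [← MvPolynomial.algebraMap_eq, g₀.commutes, c.commutes, sub_self]
      exact zero_mem _
    | add p q hp hq => rw [map_add, map_add, add_sub_add_comm]; exact add_mem hp hq
    | mul_X p i hp =>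
      rw [map_mul, map_mul]
      have hX : g₀ (MvPolynomial.X i) - c (MvPolynomial.X i) ∈
          (idealX K σ).map (Ideal.Quotient.mk (idealX K σ ^ (n + 1))) := by
        show g₀ (MvPolynomial.X i) - algebraMap K Q (z i) ∈ _
        rw [MvPolynomial.aeval_X, IsScalarTower.algebraMap_apply K (MvPolynomial σ K) Q,
          Ideal.Quotient.algebraMap_eq, ← map_sub, MvPolynomial.algebraMap_eq, add_sub_cancel_left]
        exact Ideal.mem_map_of_mem _ (Ideal.subset_span ⟨i, rfl⟩)
      have : g₀ p * g₀ (MvPolynomial.X i) - c p * c (MvPolynomial.X i) =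
          (g₀ p - c p) * g₀ (MvPolynomial.X i) + c p * (g₀ (MvPolynomial.X i) - c (MvPolynomial.X i)) := by
        ring
      rw [this]
      exact add_mem (Ideal.mul_mem_right _ _ hp) (Ideal.mul_mem_left _ _ hX)
  have hu : ∀ s : nonZeroDivisors (MvPolynomial σ k), IsUnit (g₀ (s : MvPolynomial σ k)) := fun s => by
    have hc : IsUnit (c (s : MvPolynomial σ k)) :=
      (IsLocalization.map_units K s).map (IsScalarTower.toAlgHom k K Q)
    have hnil : IsNilpotent (g₀ (s : MvPolynomial σ k) - c s) :=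
      ⟨n + 1, Ideal.mem_bot.1
        (((Ideal.map_pow _ _ _).symm.trans (Ideal.map_quotient_self _)).le
          (Ideal.pow_mem_pow (hmod s) (n + 1)))⟩
    simpa using hnil.isUnit_add_left_of_commute hc (by exact Commute.all _ _)
  refine ⟨IsLocalization.liftAlgHom (M := nonZeroDivisors (MvPolynomial σ k)) (P := Q) hu, fun i => ?_⟩
  exact (IsLocalization.lift_eq _ _).trans (MvPolynomial.aeval_X _ i)

theorem aevalDel_fractionRing :
    Function.Surjective (aevalDel n k K fun i : σ => algebraMap (MvPolynomial σ k) K (MvPolynomial.X i)) ∧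
      RingHom.ker (aevalDel n k K fun i : σ =>
        algebraMap (MvPolynomial σ k) K (MvPolynomial.X i)).toRingHom = idealX K σ ^ (n + 1) := by
  obtain ⟨g, hg⟩ := exists_translate_fractionRing n k K (σ := σ)
  exact aevalDel_surjective_and_ker (determines_fractionRing k K) (determines_fractionRing k K) g hg

end fractionRing

section symmetric

variable (n : ℕ) {A : Type u} [CommRing A] {E : Type u} [AddCommGroup E] [Module A E]
  {B : Type u} [CommRing B] [Algebra A B] (ι : E →ₗ[A] B)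

/-- `B` has the universal property of the symmetric algebra of `E`. -/
structure IsFreeOn : Prop where
  ext : ∀ (R : Type u) [CommRing R] [Algebra A R] (f g : B →ₐ[A] R),
    (∀ t, f (ι t) = g (ι t)) → f = g
  lift : ∀ (R : Type u) [CommRing R] [Algebra A R] (f : E →ₗ[A] R),
    ∃ F : B →ₐ[A] R, ∀ t, F (ι t) = f t

variable {ι}

theorem exists_equiv_of_isFreeOn (hι' : IsFreeOn ι) (ε : B →ₐ[A] A) (hε : ∀ t, ε (ι t) = 0) :
    ∃ e : PP16.P n A B ≃ₐ[B] (B ⊗[A] (B ⧸ RingHom.ker ε ^ (n + 1))),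
      ∀ t : E, e (PP16.dn n A B (ι t)) = ι t ⊗ₜ 1 + 1 ⊗ₜ Ideal.Quotient.mk _ (ι t) := by
  let K := RingHom.ker ε
  let i₂ : B →ₐ[A] B ⊗[A] (B ⧸ K ^ (n + 1)) :=
    (Algebra.TensorProduct.includeRight).comp (Ideal.Quotient.mkₐ A (K ^ (n + 1)))
  have hi₂ : ∀ x, i₂ x = (1 : B) ⊗ₜ Ideal.Quotient.mk _ x := fun _ => rfl
  let J : Ideal (B ⊗[A] (B ⧸ K ^ (n + 1))) := K.map i₂.toRingHom
  have hJ : J ^ (n + 1) = ⊥ := by
    refine (Ideal.map_pow i₂.toRingHom K (n + 1)).symm.trans
      ((Ideal.map_eq_bot_iff_le_ker i₂.toRingHom).2 fun x hx => ?_)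
    rw [RingHom.mem_ker]
    show (1 : B) ⊗ₜ[A] Ideal.Quotient.mk (K ^ (n + 1)) x = 0
    rw [Ideal.Quotient.eq_zero_iff_mem.2 hx, TensorProduct.tmul_zero]
  obtain ⟨g, hgι⟩ := hι'.lift (B ⊗[A] (B ⧸ K ^ (n + 1)))
    ((Algebra.TensorProduct.includeLeft (R := A) (S := A) (A := B) (B := B ⧸ K ^ (n + 1))).toLinearMap ∘ₗ ι +
      i₂.toLinearMap ∘ₗ ι)
  have hgι : ∀ t, g (ι t) = ι t ⊗ₜ 1 + i₂ (ι t) := fun t => by simp [hgι]
  have halg : ∀ b : B, algebraMap B (B ⊗[A] (B ⧸ K ^ (n + 1))) b = b ⊗ₜ 1 := fun _ => rfl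
  have hg : ∀ b, g b - algebraMap B (B ⊗[A] (B ⧸ K ^ (n + 1))) b ∈ J := fun b => by
    have := hι'.ext ((B ⊗[A] (B ⧸ K ^ (n + 1))) ⧸ J) ((Ideal.Quotient.mkₐ A J).comp g)
      ((Ideal.Quotient.mkₐ A J).comp (IsScalarTower.toAlgHom A B _)) fun t => by
        show Ideal.Quotient.mk J (g (ι t)) =
          Ideal.Quotient.mk J (algebraMap B (B ⊗[A] (B ⧸ K ^ (n + 1))) (ι t))
        rw [hgι, halg, Ideal.Quotient.eq, add_sub_cancel_left]
        exact Ideal.mem_map_of_mem i₂.toRingHom (RingHom.mem_ker.2 (hε t))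
    exact Ideal.Quotient.eq.1 (AlgHom.congr_fun this b)
  let e : PP16.P n A B →ₐ[B] B ⊗[A] (B ⧸ K ^ (n + 1)) := lift g J hJ hg
  -- the inverse
  obtain ⟨h, hhι⟩ := hι'.lift (PP16.P n A B)
    ((PP16.dn n A B).toLinearMap ∘ₗ ι - (IsScalarTower.toAlgHom A B (PP16.P n A B)).toLinearMap ∘ₗ ι)
  have hhι : ∀ t, h (ι t) = del n A (ι t) := fun t => by simp [hhι, del]
  have hhK : K ≤ (PP16.augIdeal n A B).comap h.toRingHom := fun b hb => by
    have := hι'.ext (PP16.P n A B ⧸ PP16.augIdeal n A B) ((Ideal.Quotient.mkₐ A (PP16.augIdeal n A B)).comp h)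
      ((Algebra.ofId A (PP16.P n A B ⧸ PP16.augIdeal n A B)).comp ε) fun t => by
        rw [AlgHom.comp_apply, AlgHom.comp_apply, Ideal.Quotient.mkₐ_eq_mk, hε t, map_zero]
        rw [hhι, Ideal.Quotient.eq_zero_iff_mem, augIdeal_eq_span]
        exact Ideal.subset_span ⟨_, rfl⟩
    have h' := AlgHom.congr_fun this b
    rw [AlgHom.comp_apply, AlgHom.comp_apply, show ε b = 0 from hb, map_zero,
      Ideal.Quotient.mkₐ_eq_mk, Ideal.Quotient.eq_zero_iff_mem] at h'
    exact h'
  let h' : (B ⧸ K ^ (n + 1)) →ₐ[A] PP16.P n A B := Ideal.Quotient.liftₐ _ h fun b hb => by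
    have h0 := Ideal.pow_right_mono (Ideal.map_le_iff_le_comap.2 hhK) (n + 1)
    have h1 := ((Ideal.map_pow _ _ _).le.trans h0).trans_eq augIdeal_pow_eq_bot
    exact Ideal.mem_bot.1 (h1 (Ideal.mem_map_of_mem h.toRingHom hb))
  let ψ : B ⊗[A] (B ⧸ K ^ (n + 1)) →ₐ[B] PP16.P n A B :=
    Algebra.TensorProduct.lift (Algebra.ofId B _) h' fun _ _ => Commute.all _ _
  have hψ₁ : ∀ b : B, ψ (b ⊗ₜ 1) = algebraMap B _ b := fun b => by simp [ψ]
  have hψ₂ : ∀ x : B, ψ (i₂ x) = h x := fun x => by simp [ψ, h', hi₂]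
  have h1 : ψ.comp e = AlgHom.id B _ := algHom_ext fun b => by
    have := hι'.ext (PP16.P n A B) ((ψ.restrictScalars A).comp g) (PP16.dn n A B) fun t => by
      rw [AlgHom.comp_apply, AlgHom.restrictScalars_apply, hgι, map_add, hψ₁, hψ₂, hhι, del,
        add_sub_cancel]
    rw [AlgHom.comp_apply, lift_dn, AlgHom.id_apply]
    exact AlgHom.congr_fun this b
  have h2 : e.comp ψ = AlgHom.id B _ := by
    refine Algebra.TensorProduct.ext (Subsingleton.elim _ _) (Ideal.Quotient.algHom_ext _ ?_)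
    refine hι'.ext (B ⊗[A] (B ⧸ K ^ (n + 1))) _ _ fun t => ?_
    show e (ψ (i₂ (ι t))) = i₂ (ι t)
    rw [hψ₂, hhι, del, map_sub, lift_dn, e.commutes, hgι, halg, add_sub_cancel_left]
  exact ⟨AlgEquiv.ofAlgHom e ψ h2 h1, fun t => (lift_dn g J hJ hg _).trans (hgι t)⟩

lemma isFreeOn_symmetricAlgebra : IsFreeOn (SymmetricAlgebra.ι A E) where
  ext _ _ _ _ _ h := SymmetricAlgebra.algHom_ext (LinearMap.ext h)
  lift _ _ _ f := ⟨SymmetricAlgebra.lift f, SymmetricAlgebra.lift_ι_apply f⟩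

end symmetric

end Groth.PP
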