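import Groth.Prelude.Def_PP16
import Groth.Agent.Ega41SymGr.Criterion
import Mathlib.RingTheory.Localization.Away.Basic
import Mathlib.RingTheory.Localization.Ideal
import Mathlib.RingTheory.Localization.Integer

/-!
Locally quasi-regular ideals through elementary charts: a chart is an element `g` and a finite family
`f` in the ideal such that, up to powers of `g`, `f` generates and is quasi-regular.
-/

set_option autoImplicit false
set_option linter.style.haveILetI false

universe u

open scoped TensorProduct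

namespace Groth.PP.QR

variable {R : Type u} [CommRing R] (J : Ideal R)

/-- `f` generates `J` up to powers of `g`. -/
def Gen (g : R) {r : ℕ} (f : Fin r → R) : Prop :=
  (∀ i, f i ∈ J) ∧ ∀ y ∈ J, ∃ N : ℕ, g ^ N * y ∈ Ideal.span (Set.range f)

/-- `f` is independent modulo `J ^ 2` up to powers of `g`. -/
def Indep (g : R) {r : ℕ} (f : Fin r → R) : Prop :=
  ∀ a : Fin r → R, ∑ i, a i * f i ∈ J ^ 2 → ∀ i, ∃ N : ℕ, g ^ N * a i ∈ J

/-- `f` is quasi-regular up to powers of `g`. -/
def QRAt (g : R) {r : ℕ} (f : Fin r → R) : Prop :=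
  ∀ (n : ℕ) (p : MvPolynomial (Fin r) R), p.IsHomogeneous n →
    MvPolynomial.eval f p ∈ J ^ (n + 1) → ∀ d, ∃ N : ℕ, g ^ N * p.coeff d ∈ J

/-- `x` admits an idempotent matrix presenting `J/J²` as a direct summand of a free module. -/
def Split {κ : Type} [Fintype κ] (x : κ → R) : Prop :=
  ∃ E : κ → κ → R, (∀ i, x i - ∑ j, E i j * x j ∈ J ^ 2) ∧
    ∀ a : κ → R, ∑ i, a i * x i ∈ J ^ 2 → ∀ j, ∑ i, a i * E i j ∈ J

/-- Charts around every prime containing `J`. -/
def Charted : Prop :=
  ∀ P : Ideal R, P.IsPrime → J ≤ P →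
    ∃ (g : R) (r : ℕ) (f : Fin r → R), g ∉ P ∧ Gen J g f ∧ QRAt J g f

variable {J}

lemma prod_word {ι : Type*} [Fintype ι] {r : ℕ} {M : Type*} [CommMonoid M] (w : ι → Fin r) (f : Fin r → M) :
    ∏ i, f (w i) = ∏ j, f j ^ (∑ i, Finsupp.single (w i) (1 : ℕ) : Fin r →₀ ℕ) j := by
  simp only [Finsupp.coe_finsetSum, Finset.sum_apply, ← Finset.prod_pow_eq_pow_sum]
  rw [Finset.prod_comm]
  refine Finset.prod_congr rfl fun i _ => ?_
  rw [Finset.prod_eq_single (w i) (fun j _ hj => by rw [Finsupp.single_eq_of_ne hj, pow_zero])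
    (fun h => absurd (Finset.mem_univ _) h), Finsupp.single_eq_same, pow_one]

lemma indep_of_qrAt {g : R} {r : ℕ} {f : Fin r → R} (h : QRAt J g f) : Indep J g f := by
  intro a ha i
  let p : MvPolynomial (Fin r) R := ∑ j, MvPolynomial.monomial (Finsupp.single j 1) (a j)
  have hp : p.IsHomogeneous 1 := MvPolynomial.IsHomogeneous.sum _ _ _ fun j _ =>
    MvPolynomial.isHomogeneous_monomial _ (by simp)
  have he : MvPolynomial.eval f p = ∑ j, a j * f j := by simp [p, MvPolynomial.eval_monomial]
  have hc : p.coeff (Finsupp.single i 1) = a i := by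
    classical
    simp only [p, MvPolynomial.coeff_sum, MvPolynomial.coeff_monomial,
      Finsupp.single_left_inj one_ne_zero, Finset.sum_ite_eq', Finset.mem_univ, if_true]
  have := h 1 p hp (by rw [he]; exact ha) (Finsupp.single i 1)
  rwa [hc] at this

/-- An ideal meeting the complement of every maximal ideal is the unit ideal. -/
lemma one_mem_of_forall (T : Ideal R) (h : ∀ P : Ideal R, P.IsMaximal → ∃ c ∈ T, c ∉ P) : (1 : R) ∈ T := by
  rw [← Ideal.eq_top_iff_one]
  by_contra hT
  obtain ⟨P, hP, hTP⟩ := Ideal.exists_le_maximal T hT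
  obtain ⟨c, hc, hcP⟩ := h P hP
  exact hcP (hTP hc)

/-- A submodule finitely generated locally (up to powers) is finitely generated. -/
lemma fg_of_local {M : Type*} [AddCommGroup M] [Module R M] (K : Submodule R M)
    (h : ∀ P : Ideal R, P.IsMaximal → ∃ c : R, c ∉ P ∧ ∃ S : Set M, S.Finite ∧ S ⊆ K ∧
      ∀ a ∈ K, ∃ N : ℕ, c ^ N • a ∈ Submodule.span R S) : K.FG := by
  let T : Ideal R :=
    { carrier := {c | ∃ S : Set M, S.Finite ∧ S ⊆ K ∧ ∀ a ∈ K, ∃ N : ℕ, c ^ N • a ∈ Submodule.span R S}
      zero_mem' := ⟨∅, Set.finite_empty, Set.empty_subset _, fun a _ => ⟨1, by simp⟩⟩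
      add_mem' := by
        rintro c d ⟨S, hS, hSK, hc⟩ ⟨S', hS', hSK', hd⟩
        refine ⟨S ∪ S', hS.union hS', Set.union_subset hSK hSK', fun a ha => ?_⟩
        let C : Ideal R := Submodule.comap ((LinearMap.id : R →ₗ[R] R).smulRight a) (Submodule.span R (S ∪ S'))
        obtain ⟨N, hN⟩ := hc a ha
        obtain ⟨N', hN'⟩ := hd a ha
        obtain ⟨k, hk⟩ := (Ideal.radical C).add_mem
          (show c ∈ C.radical from ⟨N, Submodule.span_mono Set.subset_union_left hN⟩)
          (show d ∈ C.radical from ⟨N', Submodule.span_mono Set.subset_union_right hN'⟩)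
        exact ⟨k, hk⟩
      smul_mem' := by
        rintro e c ⟨S, hS, hSK, hc⟩
        refine ⟨S, hS, hSK, fun a ha => ?_⟩
        obtain ⟨N, hN⟩ := hc a ha
        exact ⟨N, by rw [smul_eq_mul, mul_pow, mul_smul]; exact Submodule.smul_mem _ _ hN⟩ }
  obtain ⟨S, hS, hSK, hspan⟩ : (1 : R) ∈ T := one_mem_of_forall T fun P hP => by
    obtain ⟨c, hc, hS⟩ := h P hP
    exact ⟨c, hS, hc⟩
  refine Submodule.fg_def.2 ⟨S, hS, le_antisymm (Submodule.span_le.2 hSK) fun a ha => ?_⟩
  obtain ⟨N, hN⟩ := hspan a ha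
  rwa [one_pow, one_smul] at hN

lemma fg_of_gen (h : ∀ P : Ideal R, P.IsPrime → J ≤ P →
    ∃ (g : R) (r : ℕ) (f : Fin r → R), g ∉ P ∧ Gen J g f) : J.FG := by
  refine fg_of_local J fun P hP => ?_
  by_cases hJ : J ≤ P
  · obtain ⟨g, r, f, hg, hf, hgen⟩ := h P hP.isPrime hJ
    exact ⟨g, hg, Set.range f, Set.finite_range f, Set.range_subset_iff.2 hf, hgen⟩
  · obtain ⟨c, hc, hcP⟩ := SetLike.not_le_iff_exists.1 hJ
    refine ⟨c, hcP, {c}, Set.finite_singleton c, Set.singleton_subset_iff.2 hc, fun a _ => ⟨1, ?_⟩⟩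
    rw [pow_one, smul_eq_mul, mul_comm]
    exact Ideal.mul_mem_left _ a (Ideal.subset_span rfl)

lemma charted_of_lqr (h : PP16.IsLocallyQuasiRegular R J) : Charted J := by
  intro P hP hJP
  obtain ⟨g, hg, r, f, hqr, hspan⟩ := @h P hP hJP
  have hf : ∀ i, f i ∈ J.map (algebraMap R (Localization.Away g)) := fun i => by
    rw [← hspan]; exact Ideal.subset_span ⟨i, rfl⟩
  choose x hx using fun i => (IsLocalization.mem_map_algebraMap_iff (Submonoid.powers g) _).1 (hf i)
  let u : Fin r → Localization.Away g := fun i => algebraMap R _ ((x i).2 : R)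
  have hu : ∀ i, IsUnit (u i) := fun i => IsLocalization.map_units _ (x i).2
  have hF : ∀ i, algebraMap R (Localization.Away g) ((x i).1 : R) = u i * f i := fun i => by
    rw [← hx i, mul_comm]
  have hspanF : (Ideal.span (Set.range fun i => ((x i).1 : R))).map (algebraMap R (Localization.Away g)) =
      J.map (algebraMap R (Localization.Away g)) := by
    refine le_antisymm (Ideal.map_mono (Ideal.span_le.2 (Set.range_subset_iff.2 fun i => (x i).1.2))) ?_
    rw [← hspan, Ideal.span_le]
    rintro _ ⟨i, rfl⟩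
    refine (Ideal.unit_mul_mem_iff_mem _ (hu i)).1 ?_
    rw [← hF i]
    exact Ideal.mem_map_of_mem _ (Ideal.subset_span ⟨i, rfl⟩)
  have hmem : ∀ {H : Ideal R} {y : R},
      algebraMap R (Localization.Away g) y ∈ H.map (algebraMap R (Localization.Away g)) →
        ∃ N : ℕ, g ^ N * y ∈ H := fun {H y} hy => by
    obtain ⟨m, ⟨N, rfl⟩, hm⟩ := (IsLocalization.algebraMap_mem_map_algebraMap_iff (Submonoid.powers g) _ H y).1 hy
    exact ⟨N, hm⟩
  refine ⟨g, r, fun i => ((x i).1 : R), hg, ⟨fun i => (x i).1.2, fun y hy => ?_⟩, fun n p hp he d => ?_⟩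
  · exact hmem (by rw [hspanF]; exact Ideal.mem_map_of_mem _ hy)
  · let q : MvPolynomial (Fin r) (Localization.Away g) :=
      ∑ e ∈ p.support, MvPolynomial.monomial e (algebraMap R _ (p.coeff e) * ∏ i, u i ^ e i)
    have hqh : q.IsHomogeneous n := MvPolynomial.IsHomogeneous.sum _ _ _ fun e he' =>
      MvPolynomial.isHomogeneous_monomial _ (by
        have := hp (MvPolynomial.mem_support_iff.1 he')
        simpa [Finsupp.weight_apply, Finsupp.degree_apply, Finsupp.sum] using this)
    have hqe : MvPolynomial.eval f q =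
        algebraMap R _ (MvPolynomial.eval (fun i => ((x i).1 : R)) p) := by
      rw [MvPolynomial.eval_eq' _ p, map_sum, map_sum]
      refine Finset.sum_congr rfl fun e _ => ?_
      rw [MvPolynomial.eval_monomial, Finsupp.prod_fintype _ _ fun i => pow_zero (f i), map_mul, map_prod,
        mul_assoc, ← Finset.prod_mul_distrib]
      simp only [map_pow, hF, mul_pow]
    have hq := hqr n q hqh (by
      rw [hqe, hspan, ← Ideal.map_pow]; exact Ideal.mem_map_of_mem _ he) d
    rw [hspan] at hq
    have hqc : q.coeff d = algebraMap R _ (p.coeff d) * ∏ i, u i ^ d i := by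
      classical
      simp only [q, MvPolynomial.coeff_sum, MvPolynomial.coeff_monomial]
      rw [Finset.sum_eq_single d (fun e _ he' => if_neg he') fun hd => by
        rw [MvPolynomial.notMem_support_iff.1 hd, map_zero, zero_mul, if_pos rfl], if_pos rfl]
    rw [hqc, Ideal.mul_unit_mem_iff_mem] at hq
    · exact hmem hq
    · exact Finset.prod_induction _ IsUnit (fun a b => IsUnit.mul) isUnit_one fun i _ => (hu i).pow _

lemma lqr_of_charted (h : Charted J) : PP16.IsLocallyQuasiRegular R J := by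
  intro P hP hJP
  obtain ⟨g, r, f, hg, ⟨hf, hgen⟩, hqr⟩ := h P hP hJP
  have hspan : Ideal.span (Set.range fun i => algebraMap R (Localization.Away g) (f i)) =
      J.map (algebraMap R (Localization.Away g)) := by
    refine le_antisymm (Ideal.span_le.2 ?_) (Ideal.map_le_iff_le_comap.2 fun y hy => ?_)
    · rintro _ ⟨i, rfl⟩; exact Ideal.mem_map_of_mem _ (hf i)
    · obtain ⟨N, hN⟩ := hgen y hy
      have := Ideal.mem_map_of_mem (algebraMap R (Localization.Away g)) hN
      rw [Ideal.map_span, ← Set.range_comp, map_mul] at this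
      rw [Ideal.mem_comap]
      exact (Ideal.unit_mul_mem_iff_mem _
        (IsLocalization.map_units (Localization.Away g) (⟨g ^ N, N, rfl⟩ : Submonoid.powers g))).1 this
  refine ⟨g, hg, r, fun i => algebraMap R _ (f i), fun n Q hQ he d => ?_, hspan⟩
  rw [hspan] at he ⊢
  rw [← Ideal.map_pow] at he
  obtain ⟨b, hb⟩ := IsLocalization.exist_integer_multiples (Submonoid.powers g) Q.support fun e => Q.coeff e
  choose! c hc using hb
  let q : MvPolynomial (Fin r) R := ∑ e ∈ Q.support, MvPolynomial.monomial e (c e)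
  have hqe : algebraMap R (Localization.Away g) (MvPolynomial.eval f q) =
      algebraMap R _ (b : R) * MvPolynomial.eval (fun i => algebraMap R _ (f i)) Q := by
    rw [MvPolynomial.eval_eq' _ Q, Finset.mul_sum, map_sum, map_sum]
    refine Finset.sum_congr rfl fun e he' => ?_
    rw [MvPolynomial.eval_monomial, Finsupp.prod_fintype _ _ fun i => pow_zero (f i), map_mul, map_prod,
      hc e he', Algebra.smul_def, mul_assoc]
    simp only [map_pow]
  obtain ⟨m, ⟨M, rfl⟩, hM⟩ := (IsLocalization.algebraMap_mem_map_algebraMap_iff (Submonoid.powers g) _ _ _).1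
    (show algebraMap R (Localization.Away g) (MvPolynomial.eval f q) ∈
      (J ^ (n + 1)).map (algebraMap R (Localization.Away g)) by rw [hqe]; exact Ideal.mul_mem_left _ _ he)
  have hqh : q.IsHomogeneous n := MvPolynomial.IsHomogeneous.sum _ _ _ fun e he' =>
    MvPolynomial.isHomogeneous_monomial _ (by
      have := hQ (MvPolynomial.mem_support_iff.1 he')
      simpa [Finsupp.weight_apply, Finsupp.degree_apply, Finsupp.sum] using this)
  obtain ⟨N, hN⟩ := hqr n (MvPolynomial.C (g ^ M) * q)
    (by simpa using (MvPolynomial.isHomogeneous_C (Fin r) (g ^ M)).mul hqh) (by simpa using hM) d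
  by_cases hd : d ∈ Q.support
  · rw [MvPolynomial.coeff_C_mul, ← mul_assoc, ← pow_add] at hN
    have hcd : q.coeff d = c d := by
      classical
      simp only [q, MvPolynomial.coeff_sum, MvPolynomial.coeff_monomial]
      rw [Finset.sum_eq_single d (fun e _ he' => if_neg he') fun h' => absurd hd h', if_pos rfl]
    rw [hcd] at hN
    have := Ideal.mem_map_of_mem (algebraMap R (Localization.Away g)) hN
    rw [map_mul, hc d hd, Algebra.smul_def, ← mul_assoc, Ideal.unit_mul_mem_iff_mem] at this
    · exact this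
    · exact (IsLocalization.map_units _ (⟨g ^ (N + M), N + M, rfl⟩ : Submonoid.powers g)).mul
        (IsLocalization.map_units _ b)
  · rw [MvPolynomial.notMem_support_iff.1 hd]; exact zero_mem _

/-- Uniform exponents for the finitely many generators. -/
lemma exists_uniform {g : R} {H : Ideal R} {κ : Type*} [Fintype κ] (y : κ → R)
    (h : ∀ k, ∃ N : ℕ, g ^ N * y k ∈ H) : ∃ N : ℕ, ∀ k, g ^ N * y k ∈ H := by
  choose N hN using h
  refine ⟨∑ k, N k, fun k => ?_⟩
  obtain ⟨e, he⟩ := Nat.exists_eq_add_of_le (Finset.single_le_sum (fun j _ => Nat.zero_le (N j)) (Finset.mem_univ k))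
  rw [he, pow_add, mul_right_comm]
  exact Ideal.mul_mem_right _ _ (hN k)

section split

variable {κ : Type} [Fintype κ] [DecidableEq κ] (x : κ → R)

/-- The relations of `x` modulo `J ^ 2`. -/
def relModule (J : Ideal R) : Submodule R (κ → R) where
  carrier := {a | ∑ i, a i * x i ∈ J ^ 2}
  zero_mem' := by simp
  add_mem' {a b} ha hb := by
    show ∑ i, (a + b) i * x i ∈ J ^ 2
    simp only [Pi.add_apply, add_mul, Finset.sum_add_distrib]
    exact add_mem ha hb
  smul_mem' c a ha := by
    show ∑ i, (c • a) i * x i ∈ J ^ 2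
    simp only [Pi.smul_apply, smul_eq_mul, mul_assoc, ← Finset.mul_sum]
    exact Ideal.mul_mem_left _ c ha

variable {x}

lemma coord_data (hx : Ideal.span (Set.range x) = J) {g : R} {r : ℕ} {f : Fin r → R} (h : Gen J g f) :
    ∃ (N : ℕ) (c : κ → Fin r → R) (d : Fin r → κ → R),
      (∀ j, ∑ i, c j i * f i = g ^ N * x j) ∧ ∀ i, ∑ j, d i j * x j = f i := by
  obtain ⟨N, hN⟩ := exists_uniform x fun j => h.2 (x j) (by rw [← hx]; exact Ideal.subset_span ⟨j, rfl⟩)
  choose c hc using fun j => Ideal.mem_span_range_iff_exists_fun.1 (hN j)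
  choose d hd using fun i => Ideal.mem_span_range_iff_exists_fun.1 (show f i ∈ Ideal.span (Set.range x) by
    rw [hx]; exact h.1 i)
  exact ⟨N, c, d, hc, hd⟩

lemma rel_of_coord {r : ℕ} {f : Fin r → R} {c : κ → Fin r → R} {G : R} (hc : ∀ j, ∑ i, c j i * f i = G * x j)
    {a : κ → R} (ha : ∑ j, a j * x j ∈ J ^ 2) : ∑ i, (∑ j, a j * c j i) * f i ∈ J ^ 2 := by
  have : ∑ i, (∑ j, a j * c j i) * f i = G * ∑ j, a j * x j := by
    simp only [Finset.sum_mul, Finset.mul_sum]
    rw [Finset.sum_comm]
    refine Finset.sum_congr rfl fun j _ => ?_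
    rw [mul_left_comm, ← hc j, Finset.mul_sum]
    simp only [mul_assoc]
  rw [this]
  exact Ideal.mul_mem_left _ _ ha

lemma fg_relModule (hx : Ideal.span (Set.range x) = J) (h : Charted J) : (relModule x J).FG := by
  have hxJ : ∀ j, x j ∈ J := fun j => by rw [← hx]; exact Ideal.subset_span ⟨j, rfl⟩
  have hJe : ∀ y ∈ J, ∀ j : κ, (Pi.single j y : κ → R) ∈ relModule x J := fun y hy j => by
    show ∑ i, (Pi.single j y : κ → R) i * x i ∈ J ^ 2
    rw [Finset.sum_eq_single j (fun i _ hi => by rw [Pi.single_eq_of_ne hi, zero_mul])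
      (fun h => absurd (Finset.mem_univ j) h), Pi.single_eq_same, sq]
    exact Ideal.mul_mem_mul hy (hxJ j)
  let S₀ : Set (κ → R) := Set.range fun p : κ × κ => Pi.single p.2 (x p.1)
  have hS₀ : ∀ v : κ → R, (∀ j, v j ∈ J) → v ∈ Submodule.span R S₀ := fun v hv => by
    rw [← Finset.univ_sum_single v]
    refine sum_mem fun j _ => ?_
    obtain ⟨c, hc⟩ := Ideal.mem_span_range_iff_exists_fun.1 (show v j ∈ Ideal.span (Set.range x) by
      rw [hx]; exact hv j)
    rw [show (Pi.single j (v j) : κ → R) = ∑ l, c l • (Pi.single j (x l) : κ → R) from funext fun i => by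
      rcases eq_or_ne i j with rfl | hij
      · simp [hc]
      · simp [hij]]
    exact sum_mem fun l _ => Submodule.smul_mem _ _ (Submodule.subset_span ⟨(l, j), rfl⟩)
  have hS₀K : S₀ ⊆ relModule x J := by
    rintro _ ⟨p, rfl⟩
    exact hJe _ (hxJ p.1) p.2
  refine fg_of_local _ fun P hP => ?_
  by_cases hJ : J ≤ P
  · obtain ⟨g, r, f, hg, hgen, hqr⟩ := h P hP.isPrime hJ
    obtain ⟨N, c, d, hc, hd⟩ := coord_data hx hgen
    let v : κ → κ → R := fun j => g ^ N • (Pi.single j 1 : κ → R) - ∑ i, c j i • d i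
    have hv : ∀ j, v j ∈ relModule x J := fun j => by
      show ∑ l, v j l * x l ∈ J ^ 2
      have : ∑ l, v j l * x l = g ^ N * x j - ∑ i, c j i * ∑ l, d i l * x l := by
        simp only [v, Pi.sub_apply, Pi.smul_apply, Finset.sum_apply, smul_eq_mul, sub_mul,
          Finset.sum_sub_distrib, Finset.sum_mul, Finset.mul_sum]
        congr 1
        · rw [Finset.sum_eq_single j (fun l _ hl => by simp [hl]) (fun h => absurd (Finset.mem_univ j) h)]
          simp
        · rw [Finset.sum_comm]; simp only [mul_assoc]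
      rw [this]
      simp only [hd, hc, sub_self, zero_mem]
    refine ⟨g, hg, S₀ ∪ Set.range v, (Set.finite_range _).union (Set.finite_range v),
      Set.union_subset hS₀K (Set.range_subset_iff.2 hv), fun a ha => ?_⟩
    obtain ⟨M, hM⟩ := exists_uniform _ (indep_of_qrAt hqr _ (rel_of_coord hc ha))
    refine ⟨M + N, ?_⟩
    have : g ^ (M + N) • a = g ^ M • (∑ j, a j • v j) + ∑ i, (g ^ M * ∑ j, a j * c j i) • d i := by
      funext l
      simp only [v, Pi.add_apply, Pi.smul_apply, Pi.sub_apply, Finset.sum_apply, smul_eq_mul, mul_sub,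
        Finset.sum_sub_distrib, Finset.mul_sum, Finset.sum_mul]
      rw [Finset.sum_comm (γ := Fin r), Finset.sum_eq_single l (fun j _ hj => by simp [Ne.symm hj])
        (fun h => absurd (Finset.mem_univ l) h)]
      simp only [Pi.single_eq_same, mul_one, mul_assoc, sub_add_cancel, pow_add]
      ring
    rw [this]
    refine add_mem (Submodule.smul_mem _ _ (sum_mem fun j _ => Submodule.smul_mem _ _
      (Submodule.subset_span (Or.inr ⟨j, rfl⟩)))) ?_
    refine Submodule.span_mono Set.subset_union_left (hS₀ _ fun l => ?_)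
    simp only [Finset.sum_apply, Pi.smul_apply, smul_eq_mul]
    exact sum_mem fun i _ => Ideal.mul_mem_right _ _ (hM i)
  · obtain ⟨c, hc, hcP⟩ := SetLike.not_le_iff_exists.1 hJ
    refine ⟨c, hcP, S₀, Set.finite_range _, hS₀K, fun a _ => ⟨1, hS₀ _ fun j => ?_⟩⟩
    rw [pow_one, Pi.smul_apply, smul_eq_mul]
    exact Ideal.mul_mem_right _ _ hc

theorem split_of_charted (hx : Ideal.span (Set.range x) = J) (h : Charted J) : Split J x := by
  have hxJ : ∀ j, x j ∈ J := fun j => by rw [← hx]; exact Ideal.subset_span ⟨j, rfl⟩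
  obtain ⟨S, hS⟩ := fg_relModule hx h
  let T : Ideal R :=
    { carrier := {c | ∃ E : κ → κ → R, (∀ i, c * x i - ∑ j, E i j * x j ∈ J ^ 2) ∧
        ∀ a : κ → R, ∑ i, a i * x i ∈ J ^ 2 → ∀ j, ∑ i, a i * E i j ∈ J}
      zero_mem' := ⟨0, by simp, by simp⟩
      add_mem' := by
        rintro c c' ⟨E, h1, h2⟩ ⟨E', h1', h2'⟩
        refine ⟨E + E', fun i => ?_, fun a ha j => ?_⟩
        · simp only [Pi.add_apply, add_mul, Finset.sum_add_distrib, add_sub_add_comm]
          exact add_mem (h1 i) (h1' i)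
        · simp only [Pi.add_apply, mul_add, Finset.sum_add_distrib]
          exact add_mem (h2 a ha j) (h2' a ha j)
      smul_mem' := by
        rintro e c ⟨E, h1, h2⟩
        refine ⟨e • E, fun i => ?_, fun a ha j => ?_⟩
        · simp only [Pi.smul_apply, smul_eq_mul, mul_assoc, ← Finset.mul_sum, ← mul_sub]
          exact Ideal.mul_mem_left _ e (h1 i)
        · simp only [Pi.smul_apply, smul_eq_mul, mul_left_comm (a _) e, ← Finset.mul_sum]
          exact Ideal.mul_mem_left _ e (h2 a ha j) }
  obtain ⟨E, h1, h2⟩ : (1 : R) ∈ T := one_mem_of_forall T fun P hP => by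
    by_cases hJ : J ≤ P
    · obtain ⟨g, r, f, hg, hgen, hqr⟩ := h P hP.isPrime hJ
      obtain ⟨N, c, d, hc, hd⟩ := coord_data hx hgen
      obtain ⟨M, hM⟩ := exists_uniform (fun p : ↥S × Fin r => ∑ j, (p.1 : κ → R) j * c j p.2) fun p =>
        indep_of_qrAt hqr _ (rel_of_coord hc (show (p.1 : κ → R) ∈ relModule x J by
          rw [← hS]; exact Submodule.subset_span p.1.2)) p.2
      have hall : ∀ a ∈ relModule x J, ∀ i, g ^ M * ∑ j, a j * c j i ∈ J := fun a ha => by
        rw [← hS] at ha
        induction ha using Submodule.span_induction with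
        | mem k hk => exact fun i => hM (⟨k, hk⟩, i)
        | zero => intro i; simp
        | add a b _ _ ha hb =>
          intro i
          simp only [Pi.add_apply, add_mul, Finset.sum_add_distrib, mul_add]
          exact add_mem (ha i) (hb i)
        | smul e a _ ha =>
          intro i
          simp only [Pi.smul_apply, smul_eq_mul, mul_assoc, ← Finset.mul_sum, mul_left_comm (g ^ M) e]
          exact Ideal.mul_mem_left _ e (ha i)
      refine ⟨g ^ (M + N), ⟨fun j l => ∑ i, g ^ M * c j i * d i l, fun j => ?_, fun a ha l => ?_⟩,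
        fun hgP => hg (hP.isPrime.mem_of_pow_mem _ hgP)⟩
      · have : ∑ l, (∑ i, g ^ M * c j i * d i l) * x l = g ^ (M + N) * x j := by
          simp only [Finset.sum_mul]
          rw [Finset.sum_comm, pow_add, mul_assoc, ← hc j, Finset.mul_sum]
          refine Finset.sum_congr rfl fun i _ => ?_
          rw [← hd i, Finset.mul_sum, Finset.mul_sum]
          exact Finset.sum_congr rfl fun l _ => by ring
        rw [this, sub_self]
        exact zero_mem _
      · have : ∑ j, a j * ∑ i, g ^ M * c j i * d i l = ∑ i, (g ^ M * ∑ j, a j * c j i) * d i l := by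
          simp only [Finset.mul_sum, Finset.sum_mul]
          rw [Finset.sum_comm]
          exact Finset.sum_congr rfl fun i _ => Finset.sum_congr rfl fun j _ => by ring
        rw [this]
        exact sum_mem fun i _ => Ideal.mul_mem_right _ _ (hall a ha i)
    · obtain ⟨c, hc, hcP⟩ := SetLike.not_le_iff_exists.1 hJ
      refine ⟨c, ⟨0, fun i => ?_, fun a _ j => by simp⟩, hcP⟩
      simp only [Pi.zero_apply, zero_mul, Finset.sum_const_zero, sub_zero, sq]
      exact Ideal.mul_mem_mul hc (hxJ i)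
  exact ⟨E, fun i => by simpa using h1 i, h2⟩

end split

section symGr

lemma smul_symPower_eq_zero {ι : Type u} [Nonempty ι] {c : R} (hc : c ∈ J)
    (t : SymmetricPower R ι J.Cotangent) : c • t = 0 := by
  induction (show t ∈ Submodule.span R (Set.range (SymmetricPower.tprod R (ι := ι) (M := J.Cotangent))) by
    rw [SymmetricPower.span_tprod_eq_top]; trivial) using Submodule.span_induction with
  | mem y hy =>
    classical
    obtain ⟨y, rfl⟩ := hy
    obtain ⟨i⟩ := ‹Nonempty ι›
    rw [← Function.update_eq_self i y, ← MultilinearMap.map_update_smul,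
      Ideal.Cotangent.smul_eq_zero_of_mem hc, MultilinearMap.map_update_zero]
  | zero => exact smul_zero _
  | add a b _ _ ha hb => rw [smul_add, ha, hb, add_zero]
  | smul e a _ ha => rw [smul_comm, ha, smul_zero]

lemma exists_pow_smul_mem_words {g : R} {r : ℕ} {f : Fin r → R} (hgen : Gen J g f) (ι : Type u) [Fintype ι]
    (t : SymmetricPower R ι J.Cotangent) :
    ∃ M : ℕ, g ^ M • t ∈ Submodule.span R (Set.range fun w : ι → Fin r =>
      SymmetricPower.tprod R fun i => J.toCotangent ⟨f (w i), hgen.1 (w i)⟩) := by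
  classical
  induction (show t ∈ Submodule.span R (Set.range (SymmetricPower.tprod R (ι := ι) (M := J.Cotangent))) by
    rw [SymmetricPower.span_tprod_eq_top]; trivial) using Submodule.span_induction with
  | mem y hy =>
    obtain ⟨y, rfl⟩ := hy
    choose z hz using fun i => Ideal.toCotangent_surjective J (y i)
    choose N hN using fun i => hgen.2 (z i : R) (z i).2
    choose c hc using fun i => Ideal.mem_span_range_iff_exists_fun.1 (hN i)
    refine ⟨∑ i, N i, ?_⟩
    rw [← Finset.prod_pow_eq_pow_sum, ← MultilinearMap.map_smul_univ,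
      show (fun i => g ^ N i • y i) = fun i => ∑ j, c i j • J.toCotangent ⟨f j, hgen.1 j⟩ from funext fun i => by
        rw [← hz i, ← map_smul]
        simp only [← map_smul, ← map_sum]
        refine congrArg _ (Subtype.ext ?_)
        simp [← hc i],
      MultilinearMap.map_sum]
    refine sum_mem fun w _ => ?_
    rw [MultilinearMap.map_smul_univ]
    exact Submodule.smul_mem _ _ (Submodule.subset_span ⟨w, rfl⟩)
  | zero => exact ⟨0, by rw [smul_zero]; exact zero_mem _⟩
  | add a b _ _ ha hb =>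
    obtain ⟨M, hM⟩ := ha
    obtain ⟨M', hM'⟩ := hb
    refine ⟨M + M', ?_⟩
    rw [smul_add, pow_add]
    refine add_mem ?_ ?_
    · rw [mul_comm, mul_smul]; exact Submodule.smul_mem _ _ hM
    · rw [mul_smul]; exact Submodule.smul_mem _ _ hM'
  | smul e a _ ha =>
    obtain ⟨M, hM⟩ := ha
    exact ⟨M, by rw [smul_comm]; exact Submodule.smul_mem _ _ hM⟩

theorem symGrBijective_of_charted (h : Charted J) : PP16.SymGrBijective R J := by
  intro ι _ _
  classical
  obtain ⟨φ, hφ, hφs⟩ := Groth.Ega41SymGr.exists_symPower_hom J ι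
  refine ⟨φ, hφ, (injective_iff_map_eq_zero φ).2 fun t ht => ?_, hφs⟩
  let T : Ideal R := LinearMap.ker ((LinearMap.id : R →ₗ[R] R).smulRight t)
  suffices (1 : R) ∈ T by simpa [T] using this
  refine one_mem_of_forall T fun P hP => ?_
  by_cases hJ : J ≤ P
  swap
  · obtain ⟨c, hc, hcP⟩ := SetLike.not_le_iff_exists.1 hJ
    exact ⟨c, smul_symPower_eq_zero hc t, hcP⟩
  obtain ⟨g, r, f, hg, hgen, hqr⟩ := h P hP.isPrime hJ
  obtain ⟨M, hM⟩ := exists_pow_smul_mem_words hgen ι t
  obtain ⟨c, hc⟩ := (Submodule.mem_span_range_iff_exists_fun R).1 hM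
  let cnt : (ι → Fin r) → (Fin r →₀ ℕ) := fun w => ∑ i, Finsupp.single (w i) 1
  let S : Finset (Fin r →₀ ℕ) := Finset.univ.image cnt
  let l : (Fin r →₀ ℕ) → R := fun e => ∑ w ∈ Finset.univ.filter (fun w => cnt w = e), c w
  let p : MvPolynomial (Fin r) R := ∑ e ∈ S, MvPolynomial.monomial e (l e)
  have hdeg : ∀ e ∈ S, e.degree = Fintype.card ι := fun e he => by
    obtain ⟨w, -, rfl⟩ := Finset.mem_image.1 he
    simp [cnt, map_sum]
  have hp : p.IsHomogeneous (Fintype.card ι) := MvPolynomial.IsHomogeneous.sum _ _ _ fun e he =>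
    MvPolynomial.isHomogeneous_monomial _ (hdeg e he)
  have heval : MvPolynomial.eval f p = ∑ w, c w * ∏ i, f (w i) := by
    simp only [p, map_sum, MvPolynomial.eval_monomial, Finsupp.prod_fintype _ _ fun i => pow_zero (f i),
      prod_word, l, Finset.sum_mul]
    rw [← Finset.sum_fiberwise_of_maps_to (g := cnt) (t := S)
      (fun w _ => Finset.mem_image_of_mem _ (Finset.mem_univ w))
      (fun w => c w * ∏ j, f j ^ (cnt w) j)]
    refine Finset.sum_congr rfl fun e _ => Finset.sum_congr rfl fun w hw => ?_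
    rw [(Finset.mem_filter.1 hw).2]
  have hmem : MvPolynomial.eval f p ∈ J ^ (Fintype.card ι + 1) := by
    have h0 : φ (g ^ M • t) = 0 := by rw [map_smul, ht, smul_zero]
    rw [← hc, map_sum] at h0
    simp only [map_smul, hφ, PP16.zetaJ, ← Submodule.mkQ_apply] at h0
    simp only [← map_smul, ← map_sum] at h0
    rw [Submodule.mkQ_apply, Submodule.Quotient.mk_eq_zero, Submodule.mem_comap, map_sum] at h0
    rw [heval]
    exact h0
  obtain ⟨N, hN⟩ := exists_uniform (fun e : S => p.coeff e) fun e => hqr _ p hp hmem e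
  refine ⟨g ^ (N + M), ?_, fun hgP => hg (hP.isPrime.mem_of_pow_mem _ hgP)⟩
  show g ^ (N + M) • t = 0
  rw [pow_add, mul_smul, ← hc, Finset.smul_sum,
    ← Finset.sum_fiberwise_of_maps_to (g := cnt) (t := S)
      (fun w _ => Finset.mem_image_of_mem _ (Finset.mem_univ w))]
  refine Finset.sum_eq_zero fun e he => ?_
  obtain ⟨w₀, -, hw₀⟩ := Finset.mem_image.1 he
  rw [Finset.sum_congr rfl fun w hw => by
    rw [smul_smul, Groth.Ega41SymGr.tprod_eq_of_count_eq (fun j => J.toCotangent ⟨f j, hgen.1 j⟩)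
      (show cnt w = cnt w₀ from (Finset.mem_filter.1 hw).2.trans hw₀.symm)], ← Finset.sum_smul, ← Finset.mul_sum]
  refine smul_symPower_eq_zero ?_ _
  have := hN ⟨e, he⟩
  simp only [p, MvPolynomial.coeff_sum, MvPolynomial.coeff_monomial, Finset.sum_ite_eq', he, if_true] at this
  exact this

theorem qrAt_of_indep {g : R} {r : ℕ} {f : Fin r → R} (hgen : Gen J g f) (hind : Indep J g f)
    (hsym : PP16.SymGrBijective R J) : QRAt J g f := by
  classical
  let C := Localization.Away (Ideal.Quotient.mk J g)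
  have hzero : ∀ a : R, algebraMap R C a = 0 ↔ ∃ N : ℕ, g ^ N * a ∈ J := fun a => by
    rw [IsScalarTower.algebraMap_apply R (R ⧸ J) C, IsLocalization.map_eq_zero_iff
      (Submonoid.powers (Ideal.Quotient.mk J g))]
    refine ⟨?_, fun ⟨N, hN⟩ => ⟨⟨_, N, rfl⟩, ?_⟩⟩
    · rintro ⟨⟨_, N, rfl⟩, h⟩
      refine ⟨N, Ideal.Quotient.eq_zero_iff_mem.1 ?_⟩
      rw [map_mul, map_pow]
      exact h
    · show Ideal.Quotient.mk J g ^ N * Ideal.Quotient.mk J a = 0
      rw [← map_pow, ← map_mul]
      exact Ideal.Quotient.eq_zero_iff_mem.2 hN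
  obtain ⟨v, hv⟩ : ∃ v : C, algebraMap R C g * v = 1 := by
    rw [IsScalarTower.algebraMap_apply R (R ⧸ J) C]
    exact (IsLocalization.Away.algebraMap_isUnit (Ideal.Quotient.mk J g)).exists_right_inv
  have hcoord : ∀ y : J, ∃ (N : ℕ) (a : Fin r → R), g ^ N * (y : R) - ∑ i, a i * f i ∈ J ^ 2 := fun y => by
    obtain ⟨N, hN⟩ := hgen.2 y.1 y.2
    obtain ⟨a, ha⟩ := Ideal.mem_span_range_iff_exists_fun.1 hN
    exact ⟨N, a, by rw [ha, sub_self]; exact zero_mem _⟩
  choose N₀ a₀ h₀ using hcoord
  let e₀ : J → (Fin r → C) := fun y i => algebraMap R C (a₀ y i) * v ^ N₀ y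
  have hspec : ∀ (y : J) (N : ℕ) (a : Fin r → R), g ^ N * (y : R) - ∑ i, a i * f i ∈ J ^ 2 →
      e₀ y = fun i => algebraMap R C (a i) * v ^ N := fun y N a ha => funext fun i => by
    have hrel : ∑ i, (g ^ N * a₀ y i - g ^ N₀ y * a i) * f i ∈ J ^ 2 := by
      have := sub_mem (Ideal.mul_mem_left _ (g ^ N₀ y) ha) (Ideal.mul_mem_left _ (g ^ N) (h₀ y))
      convert this using 1
      simp only [sub_mul, Finset.sum_sub_distrib, mul_sub, Finset.mul_sum, mul_assoc]
      ring
    have := (hzero _).2 (hind _ hrel i)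
    rw [map_sub, map_mul, map_mul, map_pow, map_pow, sub_eq_zero] at this
    show algebraMap R C (a₀ y i) * v ^ N₀ y = _
    calc algebraMap R C (a₀ y i) * v ^ N₀ y
        = (algebraMap R C g ^ N * algebraMap R C (a₀ y i)) * (v ^ N * v ^ N₀ y) := by
          rw [show algebraMap R C g ^ N * algebraMap R C (a₀ y i) * (v ^ N * v ^ N₀ y) =
            (algebraMap R C g * v) ^ N * (algebraMap R C (a₀ y i) * v ^ N₀ y) by ring, hv, one_pow, one_mul]
      _ = (algebraMap R C g ^ N₀ y * algebraMap R C (a i)) * (v ^ N * v ^ N₀ y) := by rw [this]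
      _ = algebraMap R C (a i) * v ^ N := by
          rw [show algebraMap R C g ^ N₀ y * algebraMap R C (a i) * (v ^ N * v ^ N₀ y) =
            (algebraMap R C g * v) ^ N₀ y * (algebraMap R C (a i) * v ^ N) by ring, hv, one_pow, one_mul]
  let e : J →ₗ[R] (Fin r → C) :=
    { toFun := e₀
      map_add' := fun y z => by
        rw [hspec (y + z) (N₀ y + N₀ z) (fun i => g ^ N₀ z * a₀ y i + g ^ N₀ y * a₀ z i) ?_]
        · funext i
          show _ = algebraMap R C (a₀ y i) * v ^ N₀ y + algebraMap R C (a₀ z i) * v ^ N₀ z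
          rw [map_add, map_mul, map_mul, map_pow, map_pow,
            show (algebraMap R C g ^ N₀ z * algebraMap R C (a₀ y i) + algebraMap R C g ^ N₀ y * algebraMap R C (a₀ z i)) *
                v ^ (N₀ y + N₀ z) = (algebraMap R C g * v) ^ N₀ z * (algebraMap R C (a₀ y i) * v ^ N₀ y) +
                (algebraMap R C g * v) ^ N₀ y * (algebraMap R C (a₀ z i) * v ^ N₀ z) by ring,
            hv, one_pow, one_pow, one_mul, one_mul]
        · have := add_mem (Ideal.mul_mem_left _ (g ^ N₀ z) (h₀ y)) (Ideal.mul_mem_left _ (g ^ N₀ y) (h₀ z))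
          convert this using 1
          simp only [Submodule.coe_add, add_mul, Finset.sum_add_distrib, mul_sub, Finset.mul_sum, mul_assoc]
          ring
      map_smul' := fun c y => by
        rw [hspec (c • y) (N₀ y) (fun i => c * a₀ y i) ?_, RingHom.id_apply]
        · funext i
          show _ = c • (algebraMap R C (a₀ y i) * v ^ N₀ y)
          rw [Algebra.smul_def, map_mul, mul_assoc]
        · have := Ideal.mul_mem_left _ c (h₀ y)
          convert this using 1
          simp only [Submodule.coe_smul, smul_eq_mul, mul_sub, Finset.mul_sum, mul_assoc, mul_left_comm (g ^ N₀ y) c] }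
  let ev : (Fin r → C) →ₗ[R] MvPolynomial (Fin r) C :=
    ∑ i, ((LinearMap.toSpanSingleton C (MvPolynomial (Fin r) C) (MvPolynomial.X i)).restrictScalars R) ∘ₗ
      LinearMap.proj i
  let L : J.Cotangent →ₗ[R] MvPolynomial (Fin r) C := Submodule.liftQ _ (ev ∘ₗ e) (by
    rw [Submodule.smul_le]
    intro c hc y _
    rw [LinearMap.mem_ker, LinearMap.comp_apply,
      show e (c • y) = fun i => algebraMap R C ((0 : Fin r → R) i) * v ^ 0 from hspec _ 0 0 (by
        simp only [pow_zero, one_mul, Submodule.coe_smul, smul_eq_mul, Pi.zero_apply, zero_mul,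
          Finset.sum_const_zero, sub_zero, sq]
        exact Ideal.mul_mem_mul hc y.2)]
    simp [ev])
  have hL : ∀ j, L (J.toCotangent ⟨f j, hgen.1 j⟩) = MvPolynomial.X j := fun j => by
    show ev (e ⟨f j, hgen.1 j⟩) = _
    rw [show e ⟨f j, hgen.1 j⟩ = fun i => algebraMap R C ((Pi.single j 1 : Fin r → R) i) * v ^ 0 from
      hspec _ 0 (Pi.single j 1) (by simp [Pi.single_apply])]
    simp only [ev, LinearMap.coe_sum, Finset.sum_apply, LinearMap.comp_apply, LinearMap.proj_apply,
      LinearMap.restrictScalars_apply, LinearMap.toSpanSingleton_apply]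
    rw [Finset.sum_eq_single j (fun i _ hi => by simp [hi]) (fun h => absurd (Finset.mem_univ j) h)]
    simp
  intro n p hp he d
  by_cases hd : d ∈ p.support
  swap
  · exact ⟨0, by rw [MvPolynomial.notMem_support_iff.1 hd, mul_zero]; exact zero_mem _⟩
  have hdeg : ∀ e' ∈ p.support, e'.degree = n := fun e' he' => by
    have := hp (MvPolynomial.mem_support_iff.1 he')
    simpa [Finsupp.weight_apply, Finsupp.degree_apply, Finsupp.sum] using this
  rcases Nat.eq_zero_or_pos n with rfl | hn
  · have hsupp : ∀ e' ∈ p.support, e' = 0 := fun e' he' => by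
      have := hdeg e' he'
      rwa [Finsupp.degree_eq_zero_iff] at this
    refine ⟨0, ?_⟩
    rw [pow_zero, one_mul, hsupp d hd]
    rw [MvPolynomial.eval_eq', zero_add, Submodule.pow_one,
      Finset.sum_eq_single d (fun e' he' hne => absurd ((hsupp e' he').trans (hsupp d hd).symm) hne)
        (fun h => absurd hd h), hsupp d hd] at he
    simpa using he
  let ι := ULift.{u} (Fin n)
  haveI : Nonempty ι := ⟨⟨⟨0, hn⟩⟩⟩
  obtain ⟨φ, hφ, hφb⟩ := hsym ι
  let θ : SymmetricPower R ι J.Cotangent →ₗ[R] MvPolynomial (Fin r) C :=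
    Groth.Ega41SymGr.symLift ((MultilinearMap.mkPiAlgebra R ι _).compLinearMap fun _ => L)
      (fun σ y => by simpa using Equiv.prod_comp σ fun i => L (y i))
  have hcard : Fintype.card ι = n := by simp [ι]
  choose w hw using fun e' : p.support => Groth.Ega41SymGr.exists_sum_single_eq (ι := ι) (e' : Fin r →₀ ℕ)
    ((hdeg e' e'.2).trans hcard.symm)
  let t : SymmetricPower R ι J.Cotangent :=
    ∑ e' : p.support, p.coeff e' • SymmetricPower.tprod R fun i => J.toCotangent ⟨f (w e' i), hgen.1 _⟩
  have ht : φ t = 0 := by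
    simp only [t, map_sum, map_smul, hφ, PP16.zetaJ, ← Submodule.mkQ_apply]
    simp only [← map_smul, ← map_sum]
    rw [Submodule.mkQ_apply, Submodule.Quotient.mk_eq_zero, Submodule.mem_comap, map_sum]
    simp only [Submodule.subtype_apply, Submodule.coe_smul, smul_eq_mul, prod_word, hw]
    rw [Finset.univ_eq_attach, Finset.sum_attach p.support fun e' => p.coeff e' * ∏ j, f j ^ e' j,
      ← MvPolynomial.eval_eq' f p, hcard]
    exact he
  have h0 := congrArg θ (hφb.1 (ht.trans (map_zero φ).symm))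
  have hθ : ∀ e' : p.support, θ (SymmetricPower.tprod R fun i => J.toCotangent ⟨f (w e' i), hgen.1 _⟩) =
      MvPolynomial.monomial (e' : Fin r →₀ ℕ) 1 := fun e' => by
    refine (Groth.Ega41SymGr.symLift_tprod _ _ _).trans ?_
    simp only [MultilinearMap.compLinearMap_apply, MultilinearMap.mkPiAlgebra_apply, hL]
    rw [← hw e', MvPolynomial.monomial_sum_one]
    rfl
  simp only [t, map_zero, map_sum, map_smul, hθ] at h0
  have h1 := congrArg (MvPolynomial.coeff d) h0
  rw [MvPolynomial.coeff_sum, MvPolynomial.coeff_zero,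
    Finset.sum_eq_single ⟨d, hd⟩ (fun e' _ hne => ?_) (fun h => absurd (Finset.mem_univ _) h)] at h1
  · rw [MvPolynomial.coeff_smul, MvPolynomial.coeff_monomial, if_pos rfl, Algebra.smul_def, mul_one] at h1
    exact (hzero _).1 h1
  · rw [MvPolynomial.coeff_smul, MvPolynomial.coeff_monomial, if_neg fun h => hne (Subtype.ext h), smul_zero]

end symGr

end Groth.PP.QR
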